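import Mathlib
import Cfsg.Agent.Loc.GCK
import Cfsg.Agent.Loc.GCRd
import Cfsg.Agent.Loc.GCOp2
import Cfsg.Agent.Fus.MxMain
import Cfsg.Agent.Fus.SpOdd
import Cfsg.Prelude.Def_FusionComponents
import Cfsg.Prelude.Def_CaseTheorems
import Cfsg.Prelude.Def_Local
import Cfsg.Prelude.Def_Transfer
import Cfsg.Prelude.Def_Classical
import Cfsg.Prelude.Def_Spor_J3

/-! Definitions for the classification of minimal 2-fusion systems in the pushing up case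
(text: `stubs/Cfsg/Agent/MF/PLAN.md`). -/

set_option autoImplicit false
set_option linter.unusedSectionVars false

namespace Cfsg.Agent.MF

open Cfsg Cfsg.Agent.GT Cfsg.Agent.Loc.Mss Cfsg.Agent.Loc.PU Cfsg.Agent.Loc.Blk Cfsg.Agent.Loc.GC
  Cfsg.Agent.Fus Cfsg.Agent.Fus.SU Cfsg.FusionSystem Subgroup
open scoped commutatorElement MatrixGroups

/-- The list of the conclusion, for the Sylow group `T` and the group `H`. -/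
def Con (T : Type*) [Group T] (H : Type*) [Group H] : Prop :=
  ((∃ m : ℕ, 8 ≤ m ∧ Nonempty (T ≃* DihedralGroup m)) ∧
      ∃ (K : Type) (_ : Field K) (_ : Fintype K), Odd (Fintype.card K) ∧
        (Nonempty (H ≃* Matrix.ProjectiveSpecialLinearGroup (Fin 2) K) ∨
          Nonempty (H ≃* GL (Fin 2) K ⧸ Subgroup.center (GL (Fin 2) K)))) ∨
    (Cfsg.IsQuasiDihedral T ∧
      ∃ (K : Type) (_ : Field K) (_ : Fintype K) (r : ℕ), Odd r ∧ Fintype.card K = r ^ 2 ∧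
        ∃ L : Subgroup H, L.Normal ∧ L.index = 2 ∧ Subgroup.centralizer (L : Set H) = ⊥ ∧
          Nonempty (↥L ≃* Matrix.ProjectiveSpecialLinearGroup (Fin 2) K)) ∨
    (Cfsg.IsQuasiDihedral T ∧ Nat.card T = 16 ∧
      Nonempty (H ≃* Matrix.ProjectiveSpecialLinearGroup (Fin 3) (ZMod 3))) ∨
    (Nat.card T = 32 ∧ (Nonempty (H ≃* MulAut ↥(alternatingGroup (Fin 6))) ∨
      Nonempty (H ≃* MulAut (Matrix.ProjectiveSpecialLinearGroup (Fin 3) (ZMod 3))))) ∨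
    (Nat.card T = 2 ^ 7 ∧ Cfsg.Spor.IsoJ3 H) ∨
    (∃ (K : Type) (_ : Field K) (_ : Fintype K),
      (Nonempty (↥(Cfsg.generalizedFittingSubgroup H) ≃* Matrix.ProjectiveSpecialLinearGroup (Fin 3) K) ∨
        (Nonempty (↥(Cfsg.generalizedFittingSubgroup H) ≃* Cfsg.PSp 2 K) ∧
          ∃ e : ℕ, Odd e ∧ Fintype.card K = 2 ^ e)) ∧
      Cfsg.generalizedFittingSubgroup H ≤ Cfsg.pResidual 2 H ∧
      Odd ((Cfsg.generalizedFittingSubgroup H).subgroupOf (Cfsg.pResidual 2 H)).index ∧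
      (Cfsg.pResidual 2 H).index = 2)

section Amb
variable {G : Type*} [Group G]

/-- The conclusion for the system `F`. -/
def Res {S : Subgroup G} (F : FusionSystem S) : Prop :=
  ∃ (H : Type) (_ : Group H) (_ : Finite H), MG.RealizedIn F H ∧ Con ↥S H

/-- `A` is strongly closed for the maps normalizing `U`. -/
def SCl {S : Subgroup G} (F : FusionSystem S) (U A : Subgroup G) : Prop :=
  ∀ P f, F.Mor P f → U ≤ P → P ≤ 𝐍[U] → (∀ y ∈ U, f y ∈ U) → ∀ x ∈ P, x ∈ A → f x ∈ A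

/-- The ambient group contains a model `X U` of every normalizer system. -/
structure Amb (S : Subgroup G) (F : FusionSystem S) (X : Subgroup G → Subgroup G) : Prop where
  pg : IsPGroup 2 S
  sat : F.IsSaturated 2
  core : F.core = ⊥
  syl : ∀ U, U ≠ ⊥ → F.IsFullyNormalized U → Syl 2 (S ⊓ 𝐍[U]) (X U)
  nrm : ∀ U, U ≠ ⊥ → F.IsFullyNormalized U → X U ≤ 𝐍[U]
  chp : ∀ U, U ≠ ⊥ → F.IsFullyNormalized U → ChP 2 (X U)
  mor : ∀ U, U ≠ ⊥ → F.IsFullyNormalized U → ∀ x ∈ X U, ∀ P ≤ S ⊓ 𝐍[U],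
    (∀ y ∈ P, x * y * x⁻¹ ∈ S) → F.Mor P fun y => x * y * x⁻¹
  ind : ∀ U, U ≠ ⊥ → F.IsFullyNormalized U → ∀ P f, F.Mor P f → U ≤ P → P ≤ 𝐍[U] →
    (∀ y ∈ U, f y ∈ U) → ∃ x ∈ X U, ∀ y ∈ P, f y = x * y * x⁻¹
  sol : ∀ U ≤ S, U ≠ ⊥ → ∀ p : Subgroup G → Prop, ¬ p ⊥ → p (S ⊓ 𝐍[U]) →
    ∃ A A', ¬ p A ∧ p A' ∧ A' ≤ S ⊓ 𝐍[U] ∧ ⁅A', A'⁆ ≤ A ∧ SCl F U A ∧ SCl F U A'

/-- The proper subsystem. -/
structure Hyp {S : Subgroup G} (F N : FusionSystem S) : Prop where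
  sat : N.IsSaturated 2
  le : N ≤ F
  ne : N ≠ F
  par : ∀ U ≤ S, U ≠ ⊥ → (∀ f, F.Iso S S f → ∀ y ∈ U, f y ∈ U) →
    ∀ P f, F.Mor P f → U ≤ P → (∀ y ∈ U, f y ∈ U) → N.Mor P f

/-- A centric subgroup with an automorphism outside the subsystem and largest normalizer. -/
structure Bad (S : Subgroup G) (F : FusionSystem S) (X : Subgroup G → Subgroup G)
    (Q M : Subgroup G) : Prop where
  amb : Amb S F X
  fn : F.IsFullyNormalized Q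
  cen : S ⊓ 𝐂[Q] ≤ Q
  ne : Q ≠ ⊥
  nle : ¬ X Q ≤ M
  m2 : ∀ U, U ≠ ⊥ → U ≤ S ⊓ 𝐍[Q] → Q ≤ 𝐍[U] →
    (Nat.card ↥(S ⊓ 𝐍[Q]) < Nat.card ↥(S ⊓ 𝐍[U]) ∨ X S ≤ 𝐍[U]) → X Q ⊓ 𝐍[U] ≤ M

/-- The case of a self-centralizing four-group. -/
def Four (S : Subgroup G) : Prop :=
  16 ≤ Nat.card S ∧ ∃ V ≤ S, EA V ∧ Nat.card V = 4 ∧ S ⊓ 𝐂[V] ≤ V

/-- The opposite pair `L`, `L ^ t`. -/
structure Op (S : Subgroup G) (F : FusionSystem S) (X : Subgroup G → Subgroup G)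
    (L V B M : Subgroup G) (t : G) {K : Type} [Field K] (ρ : G → SL(2, K)) (φ : G → Fin 2 → K) :
    Prop where
  amb : Amb S F X
  fn : F.IsFullyNormalized V
  bk : Bk L B V ρ φ
  eqO : 𝐎[2, L] = V
  eqB : B = 𝐁[2, S ⊓ 𝐍[V]]
  leX : L ≤ X V
  nL : S ⊓ 𝐍[V] ≤ 𝐍[L]
  tS : t ∈ S
  tV : t ∉ 𝐍[V]
  bd : BD S B V cj(t, V) 𝐙[B] 𝐙[L] (Nat.card K)
  bd' : BD S B cj(t, V) V 𝐙[B] cj(t, 𝐙[L]) (Nat.card K)
  zz : 𝐙[L] ⊓ cj(t, 𝐙[L]) = ⊥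
  cent : X V ⊓ 𝐂[V] ≤ V
  ea : ∀ A, EA A → A ≤ S → Nat.card V ≤ Nat.card A → A ≤ B
  big : 2 < Nat.card K ∨ 𝐙[L] ≠ ⊥
  nM : ¬ L ≤ M
  m2 : ∀ U, U ≠ ⊥ → U ≤ B → S ≤ 𝐍[U] → X V ⊓ 𝐍[U] ≤ M

/-- The shape of `S`: `B = V W` has index two and `V`, `W` are interchanged. -/
structure Sq (S B V W Z D : Subgroup G) (q : ℕ) : Prop where
  bd : BD S B V W Z D q
  tB : S ⊓ 𝐍[V] ≤ B
  sw : ¬ S ≤ 𝐍[V]
  ea : ∀ A, EA A → A ≤ S → Nat.card V ≤ Nat.card A → A ≤ B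

/-- `A` is strongly closed for the maps fixing `y`. -/
def SFix {S : Subgroup G} (F : FusionSystem S) (y : G) (A : Subgroup G) : Prop :=
  ∀ P f, F.Mor P f → y ∈ P → f y = y → ∀ x ∈ P, x ∈ A → f x ∈ A

/-- Generated by the elements of `S` outside `B` whose `n`-th power is trivial. -/
def Out (S B : Subgroup G) (n : ℕ) : Subgroup G := closure {x | x ∈ S ∧ x ∉ B ∧ x ^ n = 1}

end Amb

/-- A model of `B` with its monomial maps. -/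
structure Md (U : Type) [Group U] where
  (V W Z D : Subgroup U)
  q : ℕ
  Mon : (U → U) → Prop
  Dg : (U → U) → Prop
  Tor : (U → U) → Prop
  ν : U → U

section Md
variable {U : Type} [Group U] {G : Type*} [Group G]

/-- `g` acts on the image of `P` under `ι` as `m`. -/
def Acts (ι : U →* G) (P : Subgroup U) (g : G) (m : U → U) : Prop :=
  ∀ u ∈ P, g * ι u * g⁻¹ = ι (m u)

/-- Facts on the monomial maps. -/
structure Md.OK (𝔐 : Md U) : Prop where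
  one : 𝔐.Dg id
  mon_dg : ∀ m, 𝔐.Dg m → 𝔐.Mon m
  dg_tor : ∀ m, 𝔐.Tor m → 𝔐.Dg m
  mul : ∀ m m', 𝔐.Mon m → 𝔐.Mon m' → 𝔐.Mon (m ∘ m')
  mul_dg : ∀ m m', 𝔐.Dg m → 𝔐.Dg m' → 𝔐.Dg (m ∘ m')
  nor : ∀ m h, 𝔐.Mon m → 𝔐.Dg h → ∃ h', 𝔐.Dg h' ∧ m ∘ h = h' ∘ m
  odd : ∃ k, Odd k ∧ ∀ h, 𝔐.Dg h → h^[k] = id
  inn : ∀ u, 𝔐.Mon (fun x => u * x * u⁻¹) → u ∈ 𝔐.Z
  fpf : ∀ u ∈ 𝔐.Z, (∀ m, 𝔐.Tor m → m u = u) → u = 1
  hil : ∀ m, 𝔐.Mon m → (∀ u, m (m u) = u) → (∀ u ∈ 𝔐.V, m u ∈ 𝔐.V) → m ≠ id →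
    (∃ h, 𝔐.Tor h ∧ (∀ u ∈ 𝔐.V, h u ∈ 𝔐.V) ∧ ∀ u ∈ 𝔐.V, m (h (𝔐.ν u)) = h (𝔐.ν (m u))) ∧
      ∀ u ∈ 𝔐.V, m u = u → ∃ x ∈ 𝔐.V, u = x⁻¹ * m x
  nu : ∀ u ∈ 𝔐.Z, 𝔐.ν u ∈ 𝔐.Z → u ∈ 𝔐.D

/-- Coordinates on `B`; `Y` is the model of the normalizer system of `B`, `XV` that of `V`. -/
structure Mn (𝔐 : Md U) (ι : U →* G) (B V W Z D Y XV : Subgroup G) : Prop where
  inj : Function.Injective ι
  eB : ι.range = B
  eV : 𝔐.V.map ι = V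
  eW : 𝔐.W.map ι = W
  eZ : 𝔐.Z.map ι = Z
  eD : 𝔐.D.map ι = D
  mon : ∀ y ∈ Y, ∃ u m, 𝔐.Mon m ∧ Acts ι ⊤ (ι u * y) m
  tor : ∀ m, 𝔐.Tor m → ∃ y ∈ Y, Acts ι ⊤ y m
  nu : ∃ l ∈ XV, Acts ι 𝔐.V l 𝔐.ν

/-- All that is used of the given system in the comparison with a finite group. -/
structure Src (𝔐 : Md U) (ι : U →* G) (S : Subgroup G) (F : FusionSystem S) (Y N : Subgroup G) :
    Prop where
  sat : F.IsSaturated 2
  inj : Function.Injective ι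
  sq : Sq S ι.range (𝔐.V.map ι) (𝔐.W.map ι) (𝔐.Z.map ι) (𝔐.D.map ι) 𝔐.q
  syl : Syl 2 S Y
  nrm : Y ≤ 𝐍[ι.range]
  mor : ∀ y ∈ Y, ∀ P ≤ S, (∀ x ∈ P, y * x * y⁻¹ ∈ S) → F.Mor P fun x => y * x * y⁻¹
  ind : ∀ P f, F.Mor P f → ι.range ≤ P → (∀ x ∈ ι.range, f x ∈ ι.range) →
    ∃ y ∈ Y, ∀ x ∈ P, f x = y * x * y⁻¹
  le : N ≤ Y
  dec : ∀ y ∈ Y, ∃ u, ι u * y ∈ N
  inf : N ⊓ ι.range = ⊥
  cen : N ⊓ 𝐂[ι.range] = ⊥
  mon : ∀ n ∈ N, ∃ m, 𝔐.Mon m ∧ Acts ι ⊤ n m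
  tor : ∀ m, 𝔐.Tor m → ∃ n ∈ N, Acts ι ⊤ n m
  nu : ∃ f, F.Iso (𝔐.V.map ι) (𝔐.V.map ι) f ∧ ∀ u ∈ 𝔐.V, f (ι u) = ι (𝔐.ν u)
  mv : ∃ u ∈ 𝔐.Z, 𝔐.ν u ∉ 𝔐.Z
  invD : ∀ f, F.Iso (𝔐.V.map ι) (𝔐.V.map ι) f → ∀ d ∈ 𝔐.D.map ι, f d ∈ 𝔐.D.map ι
  eV : ∀ v ∈ 𝔐.V.map ι, ∃ f, F.Iso (𝔐.V.map ι) (𝔐.V.map ι) f ∧ f v ∈ 𝔐.Z.map ι

/-- A finite group `A` in which all monomial maps are induced by the complement `M`. -/
structure Tg0 (𝔐 : Md U) {A : Type*} [Group A] (j : U →* A) (M : Subgroup A) : Prop where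
  inj : Function.Injective j
  nrm : M ≤ 𝐍[j.range]
  cen : M ⊓ 𝐂[j.range] = ⊥
  inf : M ⊓ j.range = ⊥
  mon : ∀ m, 𝔐.Mon m → ∃ a ∈ M, Acts j ⊤ a m

/-- The same with the normalizer of the image in the normal subgroup `L`. -/
structure Tg1 (𝔐 : Md U) {A : Type*} [Group A] (j : U →* A) (M L : Subgroup A) : Prop
    extends Tg0 𝔐 j M where
  nor : L.Normal
  le : j.range ≤ L
  bor : ∀ l ∈ L, l ∈ 𝐍[j.range] → ∃ u m, j u * l ∈ M ∧ 𝔐.Tor m ∧ Acts j ⊤ (j u * l) m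
  nu : ∃ n ∈ L, Acts j 𝔐.V n 𝔐.ν

/-- The target for the groups of Lie type. -/
structure Tg (𝔐 : Md U) {A : Type*} [Group A] (j : U →* A) (M L : Subgroup A) : Prop
    extends Tg1 𝔐 j M L where
  odd : ¬ 2 ∣ j.range.relIndex L
  borV : L ⊓ 𝐍[j.range] ≤ 𝐍[𝔐.V.map j]
  invD : L ⊓ 𝐍[𝔐.V.map j] ≤ 𝐍[𝔐.D.map j]

/-- `S` is the extension of the image of `ι` by the involution `t` acting as `m`. -/
structure Sw (ι : U →* G) (S : Subgroup G) (t : G) (m : U → U) : Prop where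
  inj : Function.Injective ι
  sq : t * t = 1
  act : Acts ι ⊤ t m
  eq : S = ι.range ⊔ zpowers t

end Md

/-- The unipotent group of `SL₃(K)`. -/
@[ext] structure U3 (K : Type) where
  x : K
  y : K
  z : K

namespace U3
variable {K : Type} [Field K]

instance instMulMF : Mul (U3 K) := ⟨fun a b => ⟨a.x + b.x, a.y + b.y, a.z + b.z + a.x * b.y⟩⟩
instance instOneMF : One (U3 K) := ⟨⟨0, 0, 0⟩⟩
instance instInvMF : Inv (U3 K) := ⟨fun a => ⟨-a.x, -a.y, -a.z + a.x * a.y⟩⟩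

@[simp] theorem mul_x (a b : U3 K) : (a * b).x = a.x + b.x := rfl
@[simp] theorem mul_y (a b : U3 K) : (a * b).y = a.y + b.y := rfl
@[simp] theorem mul_z (a b : U3 K) : (a * b).z = a.z + b.z + a.x * b.y := rfl
@[simp] theorem one_x : (1 : U3 K).x = 0 := rfl
@[simp] theorem one_y : (1 : U3 K).y = 0 := rfl
@[simp] theorem one_z : (1 : U3 K).z = 0 := rfl
@[simp] theorem inv_x (a : U3 K) : a⁻¹.x = -a.x := rfl
@[simp] theorem inv_y (a : U3 K) : a⁻¹.y = -a.y := rfl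
@[simp] theorem inv_z (a : U3 K) : a⁻¹.z = -a.z + a.x * a.y := rfl

instance instGroupMF : Group (U3 K) := Group.ofLeftAxioms (fun a b c => by ext <;> simp <;> ring)
  (fun a => by ext <;> simp) fun a => by ext <;> simp

/-- The underlying set. -/
def equivProd : U3 K ≃ K × K × K :=
  ⟨fun a => (a.x, a.y, a.z), fun a => ⟨a.1, a.2.1, a.2.2⟩, fun _ => rfl, fun _ => rfl⟩

instance instFiniteMF [Finite K] : Finite (U3 K) := Finite.of_equiv _ equivProd.symm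

/-- `y = 0`. -/
def V (K : Type) [Field K] : Subgroup (U3 K) where
  carrier := {a | a.y = 0}
  one_mem' := rfl
  mul_mem' {a b} ha hb := by simp_all
  inv_mem' {a} ha := by simp_all

/-- `x = 0`. -/
def W (K : Type) [Field K] : Subgroup (U3 K) where
  carrier := {a | a.x = 0}
  one_mem' := rfl
  mul_mem' {a b} ha hb := by simp_all
  inv_mem' {a} ha := by simp_all

theorem mem_V {a : U3 K} : a ∈ V K ↔ a.y = 0 := Iff.rfl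
theorem mem_W {a : U3 K} : a ∈ W K ↔ a.x = 0 := Iff.rfl

/-- Diagonal times field automorphism. -/
def mon (a b : K) (σ : K ≃+* K) (u : U3 K) : U3 K := ⟨a * σ u.x, b * σ u.y, a * b * σ u.z⟩

/-- The graph automorphism in characteristic two. -/
def swp (u : U3 K) : U3 K := ⟨u.y, u.x, u.z + u.x * u.y⟩

end U3

/-- The model for `L₃(q)`. -/
noncomputable def M3 (K : Type) [Field K] : Md (U3 K) where
  V := U3.V K
  W := U3.W K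
  Z := U3.V K ⊓ U3.W K
  D := ⊥
  q := Nat.card K
  Mon m := ∃ a b σ, a ≠ 0 ∧ b ≠ 0 ∧ (m = U3.mon a b σ ∨ m = U3.swp ∘ U3.mon a b σ)
  Dg m := ∃ a b, a ≠ 0 ∧ b ≠ 0 ∧ m = U3.mon a b (RingEquiv.refl K)
  Tor m := ∃ l k, l ≠ 0 ∧ k ≠ 0 ∧ m = U3.mon (l * (k ^ 2)⁻¹) (k * (l ^ 2)⁻¹) (RingEquiv.refl K)
  ν u := ⟨u.z, 0, u.x⟩

/-- The monomial maps induced in `J₃`. -/
def MonJ {K : Type} [Field K] (m : U3 K → U3 K) : Prop :=
  ∃ a b σ, a ≠ 0 ∧ b ≠ 0 ∧ ((σ = RingEquiv.refl K ∧ m = U3.mon a b σ) ∨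
    (σ ≠ RingEquiv.refl K ∧ m = U3.swp ∘ U3.mon a b σ))

/-- The model for `J₃`. -/
noncomputable def MJ (K : Type) [Field K] : Md (U3 K) := { M3 K with Mon := MonJ, Tor := MonJ }

/-- A Sylow 2-subgroup of `J₃` in coordinates (for a field with four elements). -/
def SwJ {K : Type} [Field K] {G : Type*} [Group G] (ι : U3 K →* G) (S : Subgroup G) (t : G) :
    Prop :=
  ∃ a b σ, a ≠ 0 ∧ b ≠ 0 ∧ σ ≠ RingEquiv.refl K ∧ Sw ι S t (U3.swp ∘ U3.mon a b σ)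

section U4
variable {K : Type} [Field K]

/-- `a = 0`. -/
def V4 (K : Type) [Field K] : Subgroup (U4 K) where
  carrier := {u | u.a = 0}
  one_mem' := rfl
  mul_mem' {a b} ha hb := by simp_all
  inv_mem' {a} ha := by simp_all

/-- `t = 0`. -/
def W4 (K : Type) [Field K] : Subgroup (U4 K) where
  carrier := {u | u.t = 0}
  one_mem' := rfl
  mul_mem' {a b} ha hb := by simp_all
  inv_mem' {a} ha := by simp_all

/-- `t = a = b = 0`. -/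
def D4 (K : Type) [Field K] : Subgroup (U4 K) where
  carrier := {u | u.t = 0 ∧ u.a = 0 ∧ u.b = 0}
  one_mem' := ⟨rfl, rfl, rfl⟩
  mul_mem' {a b} ha hb := by simp_all
  inv_mem' {a} ha := by simp_all

theorem mem_V4 {u : U4 K} : u ∈ V4 K ↔ u.a = 0 := Iff.rfl
theorem mem_W4 {u : U4 K} : u ∈ W4 K ↔ u.t = 0 := Iff.rfl
theorem mem_D4 {u : U4 K} : u ∈ D4 K ↔ u.t = 0 ∧ u.a = 0 ∧ u.b = 0 := Iff.rfl

/-- Diagonal times field automorphism. -/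
def mon4 (a b : K) (σ : K ≃+* K) (u : U4 K) : U4 K :=
  ⟨a * σ u.t, b * σ u.a, a * b * σ u.b, a ^ 2 * b * σ u.c⟩

/-- The graph endomorphism in characteristic two. -/
def swp4 (u : U4 K) : U4 K := ⟨u.a, u.t ^ 2, u.c + u.t ^ 2 * u.a, u.b ^ 2 + u.t ^ 2 * u.a ^ 2⟩

end U4

/-- The model for `Sp₄(q)`. -/
noncomputable def M4 (K : Type) [Field K] : Md (U4 K) where
  V := V4 K
  W := W4 K
  Z := V4 K ⊓ W4 K
  D := D4 K
  q := Nat.card K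
  Mon m := ∃ a b σ, a ≠ 0 ∧ b ≠ 0 ∧ (m = mon4 a b σ ∨ m = swp4 ∘ mon4 a b σ)
  Dg m := ∃ a b, a ≠ 0 ∧ b ≠ 0 ∧ m = mon4 a b (RingEquiv.refl K)
  Tor m := ∃ a b, a ≠ 0 ∧ b ≠ 0 ∧ m = mon4 a b (RingEquiv.refl K)
  ν u := ⟨u.b, 0, u.t, u.c⟩

/-- The even vectors of `V4 K` (for the field with two elements). -/
def E4 (K : Type) [Field K] [CharP K 2] : Subgroup (U4 K) where
  carrier := {u | u.a = 0 ∧ u.t + u.b + u.c = 0}
  one_mem' := ⟨rfl, by simp⟩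
  mul_mem' {a b} ha hb := ⟨by simp [ha.1, hb.1], by
    have h2 : (2 : K) = 0 := CharTwo.two_eq_zero
    simp only [U4.mul_t, U4.mul_b, U4.mul_c, hb.1]
    linear_combination ha.2 + hb.2 + a.t * b.b * h2⟩
  inv_mem' {a} ha := ⟨by simp [ha.1], by
    have h2 : (2 : K) = 0 := CharTwo.two_eq_zero
    simp only [U4.inv_t, U4.inv_b, U4.inv_c, ha.1]
    linear_combination -ha.2 + a.t * a.b * h2⟩

end Cfsg.Agent.MF
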