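import Mathlib
import Cfsg.Agent.MF.Defs

set_option autoImplicit false
set_option linter.unusedSectionVars false

namespace Cfsg.Agent.MF

open Cfsg Cfsg.Agent.GT Cfsg.Agent.Loc.Mss Cfsg.Agent.Loc.PU Cfsg.Agent.Loc.Blk Cfsg.Agent.Loc.GC
  Cfsg.Agent.Fus Cfsg.Agent.Fus.SU Cfsg.FusionSystem Subgroup
open scoped commutatorElement MatrixGroups

namespace Alg3
variable {K : Type} [Field K]

theorem exists_ne [Finite K] (h : 2 < Nat.card K) : ∃ c : K, c ≠ 0 ∧ c ≠ 1 := by
  by_contra hc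
  push Not at hc
  have : Nat.card K ≤ Nat.card Bool := by
    classical
    refine Nat.card_le_card_of_injective (fun x : K => decide (x = 0)) fun x y e => ?_
    by_cases hx : x = 0 <;> by_cases hy : y = 0
    · rw [hx, hy]
    · simp [hx, hy] at e
    · simp [hx, hy] at e
    · rw [hc x hx, hc y hy]
  simp at this
  omega

theorem odd_card [Finite K] [CharP K 2] : Odd (Nat.card K - 1) := by
  have := Fintype.ofFinite K
  obtain ⟨n, -, e⟩ := FiniteField.card K 2
  rw [Nat.card_eq_fintype_card, e]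
  exact Nat.Even.sub_odd (Nat.one_le_two_pow) ((Nat.even_pow' n.ne_zero).2 even_two) odd_one

theorem pow_card [Finite K] {a : K} (ha : a ≠ 0) : a ^ (Nat.card K - 1) = 1 := by
  have := Fintype.ofFinite K
  rw [Nat.card_eq_fintype_card]
  exact FiniteField.pow_card_sub_one_eq_one a ha

theorem eq_one_of_sq [CharP K 2] {a : K} (h : a * a = 1) : a = 1 := by
  have h2 : (2 : K) = 0 := CharTwo.two_eq_zero
  have : (a - 1) ^ 2 = 0 := by linear_combination h + (1 - a) * h2
  exact sub_eq_zero.1 (pow_eq_zero_iff two_ne_zero |>.1 this)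

/-- Hilbert 90, multiplicative form. -/
theorem h90 [CharP K 2] {σ : K ≃+* K} (h2 : ∀ x, σ (σ x) = x) (h1 : ∃ x, σ x ≠ x) {b : K}
    (hb : b * σ b = 1) : ∃ l, l ≠ 0 ∧ σ l = l * b := by
  have t : (2 : K) = 0 := CharTwo.two_eq_zero
  have : ∃ c, c + σ b * σ c ≠ 0 := by
    by_contra hc
    push Not at hc
    have e : σ b = 1 := by
      have := hc 1
      rw [map_one] at this
      linear_combination this - t
    obtain ⟨x, hx⟩ := h1
    have := hc x
    rw [e] at this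
    exact hx (by linear_combination this - x * t)
  obtain ⟨c, hc⟩ := this
  refine ⟨_, hc, ?_⟩
  rw [map_add, map_mul, h2, h2]
  linear_combination (-σ c) * hb

/-- An element of trace one. -/
theorem tr1 [CharP K 2] {σ : K ≃+* K} (h2 : ∀ x, σ (σ x) = x) (h1 : ∃ x, σ x ≠ x) :
    ∃ e, e + σ e = 1 := by
  have t : (2 : K) = 0 := CharTwo.two_eq_zero
  obtain ⟨c, hc⟩ := h1
  have n : c + σ c ≠ 0 := fun e => hc (by linear_combination e - c * t)
  refine ⟨c / (c + σ c), ?_⟩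
  rw [map_div₀, map_add, h2, add_comm (σ c) c, ← add_div, div_self n]

theorem mon_mon (a b a' b' : K) (σ σ' : K ≃+* K) :
    U3.mon a b σ ∘ U3.mon a' b' σ' = U3.mon (a * σ a') (b * σ b') (σ'.trans σ) := by
  funext u
  ext <;> simp [U3.mon] <;> ring

theorem mon_swp (a b : K) (σ : K ≃+* K) : U3.mon a b σ ∘ U3.swp = U3.swp ∘ U3.mon b a σ := by
  funext u
  ext <;> simp [U3.mon, U3.swp]
  ring

theorem swp_swp [CharP K 2] : (U3.swp ∘ U3.swp : U3 K → U3 K) = id := by
  have t : (2 : K) = 0 := CharTwo.two_eq_zero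
  funext u
  ext <;> simp [U3.swp]
  linear_combination u.x * u.y * t

theorem mon_one : U3.mon (1 : K) 1 (RingEquiv.refl K) = id := by
  funext u
  ext <;> simp [U3.mon]

theorem mon_iter (a b : K) (k : ℕ) :
    (U3.mon a b (RingEquiv.refl K))^[k] = U3.mon (a ^ k) (b ^ k) (RingEquiv.refl K) := by
  induction k with
  | zero => simp [mon_one]
  | succ k ih =>
    rw [Function.iterate_succ', ih, mon_mon, pow_succ', pow_succ']
    rfl

end Alg3

open Alg3 in
theorem ok3 {K : Type} [Field K] [Finite K] [CharP K 2] (h : 2 < Nat.card K) : (M3 K).OK := by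
  have t : (2 : K) = 0 := CharTwo.two_eq_zero
  have nz : ∀ {a a' : K} (σ : K ≃+* K), a ≠ 0 → a' ≠ 0 → a * σ a' ≠ 0 := fun σ h h' =>
    mul_ne_zero h (by simpa using h')
  refine ⟨⟨1, 1, one_ne_zero, one_ne_zero, mon_one.symm⟩,
    fun m ⟨a, b, ha, hb, e⟩ => ⟨a, b, _, ha, hb, Or.inl e⟩,
    fun m ⟨l, k, hl, hk, e⟩ => ⟨_, _, by simp [hl, hk], by simp [hl, hk], e⟩,
    ?_, ?_, ?_, ⟨_, odd_card (K := K), ?_⟩, ?_, ?_, ?_, ?_⟩
  · rintro m m' ⟨a, b, σ, ha, hb, rfl | rfl⟩ ⟨a', b', σ', ha', hb', rfl | rfl⟩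
    · exact ⟨_, _, _, nz σ ha ha', nz σ hb hb', Or.inl (mon_mon ..)⟩
    · exact ⟨_, _, _, nz σ hb ha', nz σ ha hb', Or.inr (by
        rw [← Function.comp_assoc, mon_swp, Function.comp_assoc, mon_mon])⟩
    · exact ⟨_, _, _, nz σ ha ha', nz σ hb hb', Or.inr (by rw [Function.comp_assoc, mon_mon])⟩
    · exact ⟨_, _, _, nz σ hb ha', nz σ ha hb', Or.inl (by
        rw [Function.comp_assoc, ← Function.comp_assoc (U3.mon a b σ), mon_swp,
          Function.comp_assoc, mon_mon, ← Function.comp_assoc, swp_swp, Function.id_comp])⟩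
  · rintro m m' ⟨a, b, ha, hb, rfl⟩ ⟨a', b', ha', hb', rfl⟩
    exact ⟨_, _, mul_ne_zero ha ha', mul_ne_zero hb hb', mon_mon ..⟩
  · rintro m h ⟨a, b, σ, ha, hb, rfl | rfl⟩ ⟨c, d, hc, hd, rfl⟩
    · refine ⟨_, ⟨σ c, σ d, by simpa using hc, by simpa using hd, rfl⟩, ?_⟩
      rw [mon_mon, mon_mon, mul_comm a, mul_comm b]
      rfl
    · refine ⟨_, ⟨σ d, σ c, by simpa using hd, by simpa using hc, rfl⟩, ?_⟩
      rw [← Function.comp_assoc, mon_swp, Function.comp_assoc, Function.comp_assoc, mon_mon,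
        mon_mon, mul_comm a, mul_comm b]
      rfl
  · rintro m ⟨a, b, ha, hb, rfl⟩
    rw [mon_iter, pow_card ha, pow_card hb, mon_one]
  · rintro u ⟨a, b, σ, ha, hb, e | e⟩
    · have e1 := congrArg U3.z (congrFun e ⟨1, 0, 0⟩)
      have e2 := congrArg U3.z (congrFun e ⟨0, 1, 0⟩)
      simp [U3.mon] at e1 e2
      exact ⟨U3.mem_V.2 (by linear_combination -e1), U3.mem_W.2 (by linear_combination e2)⟩
    · have e1 := congrArg U3.x (congrFun e ⟨1, 0, 0⟩)
      simp [U3.mon, U3.swp] at e1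
  · rintro u ⟨hv, hw⟩ hm
    obtain ⟨c, c0, c1⟩ := exists_ne h
    have e := congrArg U3.z (hm _ ⟨c, 1, c0, one_ne_zero, rfl⟩)
    have hz : u.z = 0 := by
      by_contra hz
      simp only [U3.mon, RingEquiv.refl_apply] at e
      field_simp at e
      exact c1 e.symm
    ext
    · exact U3.mem_W.1 hw
    · exact U3.mem_V.1 hv
    · exact hz
  · rintro m ⟨a, b, σ, ha, hb, rfl | rfl⟩ h2 hV h1
    swap
    · have := U3.mem_V.1 (hV ⟨1, 0, 0⟩ rfl)
      simp [U3.mon, U3.swp, ha] at this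
    have ea : a * σ a = 1 := by simpa [U3.mon] using congrArg U3.x (h2 ⟨1, 0, 0⟩)
    have eb : b * σ b = 1 := by simpa [U3.mon] using congrArg U3.y (h2 ⟨0, 1, 0⟩)
    have s2 : ∀ x, σ (σ x) = x := fun x => by
      have := congrArg U3.x (h2 ⟨x, 0, 0⟩)
      simp only [U3.mon, map_mul] at this
      linear_combination this - σ (σ x) * ea
    have s1 : ∃ x, σ x ≠ x := by
      by_contra hs
      push Not at hs
      rw [hs] at ea eb
      refine h1 (funext fun u => ?_)
      ext <;> simp [U3.mon, hs, eq_one_of_sq ea, eq_one_of_sq eb]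
    obtain ⟨l, l0, hl⟩ := h90 s2 s1 eb
    obtain ⟨e, he⟩ := tr1 s2 s1
    refine ⟨⟨_, ⟨l, 1, l0, one_ne_zero, rfl⟩, fun u hu => ?_, fun u hu => ?_⟩, fun u hu hm => ?_⟩
    · exact U3.mem_V.2 (by simp [U3.mon, U3.mem_V.1 hu])
    · ext <;> simp [U3.mon, M3, hl]
      · ring
      · field_simp
    · have e1 := congrArg U3.x hm
      have e2 := congrArg U3.z hm
      simp only [U3.mon] at e1 e2
      refine ⟨⟨e * u.x, 0, e * u.z⟩, rfl, ?_⟩
      ext <;> simp [U3.mon]
      · linear_combination (-σ e) * e1 - u.x * he + e * u.x * t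
      · exact U3.mem_V.1 hu
      · linear_combination (-σ e) * e2 - u.z * he + e * u.z * t
  · rintro u ⟨hv, hw⟩ ⟨-, h3⟩
    refine mem_bot.2 ?_
    ext
    · exact U3.mem_W.1 hw
    · exact U3.mem_V.1 hv
    · exact U3.mem_W.1 h3

end Cfsg.Agent.MF
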