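import Mathlib
import Cfsg.Agent.MF.Defs
import Cfsg.Agent.MF.Alg3

set_option autoImplicit false
set_option linter.unusedSectionVars false

namespace Cfsg.Agent.MF

open Cfsg Cfsg.Agent.GT Cfsg.Agent.Loc.Mss Cfsg.Agent.Loc.PU Cfsg.Agent.Loc.Blk Cfsg.Agent.Loc.GC
  Cfsg.Agent.Fus Cfsg.Agent.Fus.SU Cfsg.FusionSystem Subgroup
open scoped commutatorElement MatrixGroups

namespace Alg4
variable {K : Type} [Field K]

theorem mon_mon (a b a' b' : K) (σ σ' : K ≃+* K) :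
    mon4 a b σ ∘ mon4 a' b' σ' = mon4 (a * σ a') (b * σ b') (σ'.trans σ) := by
  funext u
  ext <;> simp [mon4] <;> ring

theorem mon_swp (a c : K) (σ : K ≃+* K) : mon4 a (c ^ 2) σ ∘ swp4 = swp4 ∘ mon4 c a σ := by
  funext u
  ext <;> simp [mon4, swp4] <;> ring

theorem swp_swp [Finite K] [CharP K 2] :
    (swp4 ∘ swp4 : U4 K → U4 K) = mon4 1 1 (frobeniusEquiv K 2) := by
  have t : (2 : K) = 0 := CharTwo.two_eq_zero
  funext u
  ext <;> simp [swp4, mon4, frobenius_def]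
  · linear_combination u.t ^ 2 * u.a ^ 2 * t
  · linear_combination (u.c * u.t ^ 2 * u.a + u.t ^ 4 * u.a ^ 2) * t

theorem mon_one : mon4 (1 : K) 1 (RingEquiv.refl K) = id := by
  funext u
  ext <;> simp [mon4]

theorem mon_iter (a b : K) (k : ℕ) :
    (mon4 a b (RingEquiv.refl K))^[k] = mon4 (a ^ k) (b ^ k) (RingEquiv.refl K) := by
  induction k with
  | zero => simp [mon_one]
  | succ k ih =>
    rw [Function.iterate_succ', ih, mon_mon, pow_succ', pow_succ']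
    rfl

theorem exists_sqrt [Finite K] [CharP K 2] {b : K} (hb : b ≠ 0) : ∃ c, c ≠ 0 ∧ b = c ^ 2 := by
  obtain ⟨c, hc⟩ := (frobeniusEquiv K 2).surjective b
  have e : b = c ^ 2 := by rw [← hc]; rfl
  exact ⟨c, fun h => hb (by rw [e, h]; ring), e⟩

end Alg4

open Alg4 in
theorem ok4 {K : Type} [Field K] [Finite K] [CharP K 2] (h : 2 < Nat.card K) : (M4 K).OK := by
  have t : (2 : K) = 0 := CharTwo.two_eq_zero
  have nz : ∀ {a a' : K} (σ : K ≃+* K), a ≠ 0 → a' ≠ 0 → a * σ a' ≠ 0 := fun σ h h' =>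
    mul_ne_zero h (by simpa using h')
  refine ⟨⟨1, 1, one_ne_zero, one_ne_zero, mon_one.symm⟩,
    fun m ⟨a, b, ha, hb, e⟩ => ⟨a, b, _, ha, hb, Or.inl e⟩, fun m e => e,
    ?_, ?_, ?_, ⟨_, Alg3.odd_card (K := K), ?_⟩, ?_, ?_, ?_, ?_⟩
  · rintro m m' ⟨a, b, σ, ha, hb, rfl | rfl⟩ ⟨a', b', σ', ha', hb', rfl | rfl⟩
    · exact ⟨_, _, _, nz σ ha ha', nz σ hb hb', Or.inl (mon_mon ..)⟩
    · obtain ⟨c, hc, rfl⟩ := exists_sqrt hb
      exact ⟨_, _, _, nz σ hc ha', nz σ ha hb', Or.inr (by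
        rw [← Function.comp_assoc, mon_swp, Function.comp_assoc, mon_mon])⟩
    · exact ⟨_, _, _, nz σ ha ha', nz σ hb hb', Or.inr (by rw [Function.comp_assoc, mon_mon])⟩
    · obtain ⟨c, hc, rfl⟩ := exists_sqrt hb
      exact ⟨_, _, _, nz _ one_ne_zero (nz σ hc ha'), nz _ one_ne_zero (nz σ ha hb'), Or.inl (by
        rw [Function.comp_assoc, ← Function.comp_assoc (mon4 a _ σ), mon_swp,
          Function.comp_assoc, mon_mon, ← Function.comp_assoc, swp_swp, mon_mon])⟩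
  · rintro m m' ⟨a, b, ha, hb, rfl⟩ ⟨a', b', ha', hb', rfl⟩
    exact ⟨_, _, mul_ne_zero ha ha', mul_ne_zero hb hb', mon_mon ..⟩
  · rintro m h ⟨a, b, σ, ha, hb, rfl | rfl⟩ ⟨c, d, hc, hd, rfl⟩
    · refine ⟨_, ⟨σ c, σ d, by simpa using hc, by simpa using hd, rfl⟩, ?_⟩
      rw [mon_mon, mon_mon, mul_comm a, mul_comm b]
      rfl
    · refine ⟨_, ⟨σ d, σ c ^ 2, by simpa using hd, by simpa using hc, rfl⟩, ?_⟩
      rw [← Function.comp_assoc, mon_swp, Function.comp_assoc, Function.comp_assoc, mon_mon,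
        mon_mon, mul_comm a, mul_comm b]
      rfl
  · rintro m ⟨a, b, ha, hb, rfl⟩
    rw [mon_iter, Alg3.pow_card ha, Alg3.pow_card hb, mon_one]
  · rintro u ⟨a, b, σ, ha, hb, e | e⟩
    · have e1 := congrArg U4.b (congrFun e ⟨1, 0, 0, 0⟩)
      have e2 := congrArg U4.b (congrFun e ⟨0, 1, 0, 0⟩)
      simp [mon4] at e1 e2
      exact ⟨mem_V4.2 (by linear_combination -e1), mem_W4.2 (by linear_combination e2)⟩
    · have e1 := congrArg U4.t (congrFun e ⟨1, 0, 0, 0⟩)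
      simp [mon4, swp4] at e1
  · rintro u ⟨hv, hw⟩ hm
    obtain ⟨c, c0, c1⟩ := Alg3.exists_ne h
    have e := hm _ ⟨c, 1, c0, one_ne_zero, rfl⟩
    have e1 := congrArg U4.b e
    have e2 := congrArg U4.c e
    simp only [mon4, RingEquiv.refl_apply] at e1 e2
    ext
    · exact mem_W4.1 hw
    · exact mem_V4.1 hv
    · by_contra hz
      exact c1 (mul_right_cancel₀ hz (by simpa using e1))
    · by_contra hz
      exact c1 (Alg3.eq_one_of_sq (mul_right_cancel₀ hz (by simpa [sq] using e2)))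
  · rintro m ⟨a, b, σ, ha, hb, rfl | rfl⟩ h2 hV h1
    swap
    · have := mem_V4.1 (hV ⟨1, 0, 0, 0⟩ rfl)
      simp [mon4, swp4, ha] at this
    have ea : a * σ a = 1 := by simpa [mon4] using congrArg U4.t (h2 ⟨1, 0, 0, 0⟩)
    have eb : b * σ b = 1 := by simpa [mon4] using congrArg U4.a (h2 ⟨0, 1, 0, 0⟩)
    have s2 : ∀ x, σ (σ x) = x := fun x => by
      have := congrArg U4.t (h2 ⟨x, 0, 0, 0⟩)
      simp only [mon4, map_mul] at this
      linear_combination this - σ (σ x) * ea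
    have s1 : ∃ x, σ x ≠ x := by
      by_contra hs
      push Not at hs
      rw [hs] at ea eb
      refine h1 (funext fun u => ?_)
      ext <;> simp [mon4, hs, Alg3.eq_one_of_sq ea, Alg3.eq_one_of_sq eb]
    obtain ⟨l, l0, hl⟩ := Alg3.h90 s2 s1 eb
    obtain ⟨e, he⟩ := Alg3.tr1 s2 s1
    refine ⟨⟨_, ⟨l, (l ^ 2)⁻¹, l0, by simp [l0], rfl⟩, fun u hu => ?_, fun u hu => ?_⟩,
      fun u hu hm => ?_⟩
    · exact mem_V4.2 (by simp [mon4, mem_V4.1 hu])
    · ext <;> simp [mon4, M4, hl]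
      · ring
      · field_simp
      · field_simp
    · have e1 := congrArg U4.t hm
      have e2 := congrArg U4.b hm
      have e3 := congrArg U4.c hm
      simp only [mon4] at e1 e2 e3
      refine ⟨⟨e * u.t, 0, e * u.b, e * u.c⟩, rfl, ?_⟩
      ext <;> simp [mon4, t]
      · linear_combination (-σ e) * e1 - u.t * he + e * u.t * t
      · exact mem_V4.1 hu
      · linear_combination (-σ e) * e2 - u.b * he + e * u.b * t
      · linear_combination (-σ e) * e3 - u.c * he + e * u.c * t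
  · rintro u ⟨hv, hw⟩ ⟨-, h3⟩
    exact mem_D4.2 ⟨mem_W4.1 hw, mem_V4.1 hv, mem_W4.1 h3⟩

theorem odd_exp {K : Type} [Field K] [Finite K] [CharP K 2] {m : U4 K → U4 K} (hm : (M4 K).Mon m)
    (h2 : ∀ u, m (m u) = u) (hV : ¬ ∀ u ∈ V4 K, m u ∈ V4 K) :
    ∃ e : ℕ, Odd e ∧ Nat.card K = 2 ^ e := by
  have := Fintype.ofFinite K
  obtain ⟨a, b, σ, ha, hb, rfl | rfl⟩ := hm
  · exact (hV fun u hu => mem_V4.2 (by simp [mon4, mem_V4.1 hu])).elim
  obtain ⟨n, -, e⟩ := FiniteField.card K 2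
  refine ⟨n, ?_, by rw [Nat.card_eq_fintype_card, e]⟩
  by_contra hn
  obtain ⟨k, hk⟩ := Nat.not_odd_iff_even.1 hn
  have e1 : b * σ a ^ 2 = 1 := by simpa [mon4, swp4] using congrArg U4.t (h2 ⟨1, 0, 0, 0⟩)
  have s2 : ∀ x, σ (σ x) ^ 2 = x := fun x => by
    have := congrArg U4.t (h2 ⟨x, 0, 0, 0⟩)
    simp only [mon4, swp4, Function.comp_apply, map_mul, map_pow] at this
    linear_combination this - σ (σ x) ^ 2 * e1
  have d : 3 ∣ Nat.card Kˣ := by
    rw [Nat.card_units, Nat.card_eq_fintype_card, e, hk, ← two_mul, pow_mul]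
    simpa using Nat.sub_dvd_pow_sub_pow 4 1 k
  have : Fact (Nat.Prime 3) := ⟨Nat.prime_three⟩
  obtain ⟨w, hw⟩ := exists_prime_orderOf_dvd_card' 3 d
  have w3 : (w : K) ^ 3 = 1 := by
    rw [← Units.val_pow_eq_pow_val, ← hw, pow_orderOf_eq_one, Units.val_one]
  have w1 : (w : K) ≠ 1 := fun h => by
    rw [Units.val_eq_one.1 h, orderOf_one] at hw
    omega
  have w2 : (w : K) ^ 2 + w + 1 = 0 :=
    mul_left_cancel₀ (sub_ne_zero.2 w1) (by linear_combination w3)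
  have s : σ w ^ 2 + σ w + 1 = 0 := by simpa using congrArg σ w2
  have ss : σ (σ w) = w := by
    have : (σ w - w) * (σ w - w ^ 2) = 0 := by linear_combination s - σ w * w2 + w3
    rcases mul_eq_zero.1 this with h | h
    · rw [sub_eq_zero.1 h, sub_eq_zero.1 h]
    · rw [sub_eq_zero.1 h, map_pow, sub_eq_zero.1 h]
      linear_combination (w : K) * w3
  have := s2 w
  rw [ss] at this
  exact w1 (mul_left_cancel₀ w.ne_zero (by linear_combination this))

end Cfsg.Agent.MF
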