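import Mathlib
import Cfsg.Agent.MF.Defs

/-! Small shared lemmas. -/

set_option autoImplicit false
set_option linter.unusedSectionVars false

namespace Cfsg.Agent.MF

open Cfsg Cfsg.Agent.GT Cfsg.Agent.Loc.Mss Cfsg.Agent.Loc.PU Cfsg.Agent.Loc.Blk Cfsg.Agent.Loc.GC
  Cfsg.Agent.Fus Cfsg.Agent.Fus.SU Cfsg.FusionSystem Subgroup
open scoped commutatorElement MatrixGroups

variable {G : Type*} [Group G] [Finite G] {S : Subgroup G} {F : FusionSystem S}
  {X : Subgroup G → Subgroup G}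

theorem fnN {U : Subgroup G} (hU : U ≤ S) (h : S ≤ 𝐍[U]) : F.IsFullyNormalized U := by
  refine ⟨hU, fun Q _ => ?_⟩
  have e : normalizerIn S U = S := inf_eq_left.2 h
  rw [e]
  exact card_le_of_le inf_le_left

theorem Amb.sylN (a : Amb S F X) {U : Subgroup G} (h0 : U ≠ ⊥) (hU : U ≤ S) (h : S ≤ 𝐍[U]) :
    Syl 2 S (X U) := by
  have := a.syl _ h0 (fnN hU h)
  rwa [inf_eq_left.2 h] at this

theorem Amb.sfixZ (a : Amb S F X) {y : G} (hy : y ∈ S) (y1 : y ≠ 1) (hc : S ≤ 𝐂[zpowers y])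
    {A : Subgroup G} (hA : X (zpowers y) ≤ 𝐍[A]) : SFix F y A := fun P f hf hP e x hx hxA => by
  have hn : S ≤ 𝐍[zpowers y] := hc.trans (centralizer_le_normalizer _)
  obtain ⟨g, hg, e'⟩ := a.ind _ (zpowers_ne_bot.2 y1) (fnN (zpowers_le.2 hy) hn) P f hf
    (zpowers_le.2 hP) (hf.le.trans hn) (fun z hz => by
      obtain ⟨k, rfl⟩ := mem_zpowers_iff.1 hz
      rw [hf.mulOn.map_zpow hP, e]
      exact hz)
  rw [e' x hx]
  exact (mem_normalizer_iff.1 (hA hg) x).1 hxA

/-- An element of a model normalizing `P` induces an automorphism of `P` in the system. -/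
theorem Amb.iso (a : Amb S F X) {U P : Subgroup G} (h0 : U ≠ ⊥) (hU : F.IsFullyNormalized U)
    {x : G} (hx : x ∈ X U) (hP : P ≤ S ⊓ 𝐍[U]) (hn : x ∈ 𝐍[P]) :
    F.Iso P P fun y => x * y * x⁻¹ :=
  (a.mor U h0 hU x hx P hP fun _ hy => (hP (conj_mem_of_norm hn hy)).1).iso_self
    fun _ hy => conj_mem_of_norm hn hy

/-- A conjugation map of the system normalizing `U ≤ P` is induced in the model of `U`. -/
theorem Amb.switch (a : Amb S F X) {U P : Subgroup G} (h0 : U ≠ ⊥) (hU : F.IsFullyNormalized U)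
    {x : G} (hf : F.Mor P fun y => x * y * x⁻¹) (h1 : U ≤ P) (h2 : P ≤ 𝐍[U]) (hx : x ∈ 𝐍[U]) :
    ∃ x' ∈ X U, ∀ y ∈ P, x * y * x⁻¹ = x' * y * x'⁻¹ :=
  a.ind U h0 hU P _ hf h1 h2 fun _ hy => conj_mem_of_norm hx hy

theorem cent_le_of_chp {T Y A : Subgroup G} (hc : ChP 2 Y) (hT : Syl 2 T Y) (hn : Y ≤ 𝐍[A])
    (h : T ⊓ 𝐂[A] ≤ A) : Y ⊓ 𝐂[A] ≤ A := by
  have n : Y ≤ 𝐍[Y ⊓ 𝐂[A]] := norm_inf le_normalizer (norm_cent hn)
  have h1 := (hT.inf (inf_le_left : Y ⊓ 𝐂[A] ≤ Y) (hT.le.trans n)).core_le.trans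
    ((inf_le_inf_left T inf_le_right).trans h)
  exact ((hc.of_normal inf_le_left n).le_core le_rfl (inf_le_right.trans (cent_anti h1))).trans h1

section Acts
omit [Finite G]
variable {U : Type} [Group U] {ι : U →* G} {P : Subgroup U} {g g' : G} {m m' : U → U}

theorem Acts.mul (h : Acts ι ⊤ g m) (h' : Acts ι P g' m') : Acts ι P (g * g') (m ∘ m') :=
  fun u hu => by
    rw [Function.comp_apply, ← h _ (mem_top _), ← h' u hu]; group

theorem Acts.congr (h : Acts ι P g m) (e : ∀ u ∈ P, m u = m' u) : Acts ι P g m' :=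
  fun u hu => (h u hu).trans (congrArg ι (e u hu))

theorem Acts.inner (u : U) : Acts ι P (ι u) fun x => u * x * u⁻¹ := fun x _ => by simp

theorem Acts.one : Acts ι P 1 id := fun x _ => by simp

theorem Acts.eq (hi : Function.Injective ι) (h : Acts ι P g m) (h' : Acts ι P g m') :
    ∀ u ∈ P, m u = m' u := fun u hu => hi ((h u hu).symm.trans (h' u hu))

theorem Acts.map_mul (hi : Function.Injective ι) (h : Acts ι ⊤ g m) (u v : U) :
    m (u * v) = m u * m v := hi (by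
  rw [_root_.map_mul, ← h _ (mem_top _), ← h _ (mem_top _), ← h _ (mem_top _), _root_.map_mul]
  group)

theorem Acts.cent (h : Acts ι ⊤ g m) (h' : Acts ι ⊤ g' m) : g⁻¹ * g' ∈ 𝐂[ι.range] :=
  mem_centralizer_iff.2 fun _ ⟨u, e⟩ => by
    have := (h u (mem_top _)).trans (h' u (mem_top _)).symm
    rw [← e]
    calc ι u * (g⁻¹ * g') = g⁻¹ * (g * ι u * g⁻¹) * g' := by group
      _ = _ := by rw [this]; group

end Acts

section Lift
omit [Finite G]
variable {K : Type} [Field K] [CharP K 2]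

/-- A homomorphism from the root elements. -/
theorem U3.lift (v w z : K → G) (hv : ∀ a b, v (a + b) = v a * v b)
    (hw : ∀ a b, w (a + b) = w a * w b) (hz : ∀ a b, z (a + b) = z a * z b)
    (zv : ∀ a b, z a * v b = v b * z a) (zw : ∀ a b, z a * w b = w b * z a)
    (vw : ∀ a b, v a * w b = w b * v a * z (a * b)) :
    ∃ ι : U3 K →* G, ∀ u, ι u = w u.y * v u.x * z u.z :=
  ⟨MonoidHom.mk' (fun u => w u.y * v u.x * z u.z) fun a b => by
    simp only [U3.mul_x, U3.mul_y, U3.mul_z, hv, hw, hz]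
    calc w a.y * w b.y * (v a.x * v b.x) * (z a.z * z b.z * z (a.x * b.y))
        = w a.y * w b.y * v a.x * (v b.x * (z a.z * (z b.z * z (a.x * b.y)))) := by group
      _ = w a.y * (w b.y * v a.x * z (a.x * b.y)) * (z a.z * v b.x) * z b.z := by
        rw [← hz b.z, add_comm b.z, hz, ← mul_assoc (z a.z), ← hz a.z, add_comm a.z, hz, zv,
          ← mul_assoc (v b.x), ← mul_assoc (v b.x), ← zv (a.x * b.y)]
        group
      _ = _ := by
        rw [← vw, zv, show w a.y * (v a.x * w b.y) * (v b.x * z a.z) * z b.z =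
          w a.y * v a.x * (w b.y * (v b.x * z a.z)) * z b.z by group, ← zv, ← mul_assoc (w b.y),
          ← zw]
        group, fun _ => rfl⟩

/-- A homomorphism from the root elements. -/
theorem U4.lift (v w z d : K → G) (hv : ∀ a b, v (a + b) = v a * v b)
    (hw : ∀ a b, w (a + b) = w a * w b) (hz : ∀ a b, z (a + b) = z a * z b)
    (hd : ∀ a b, d (a + b) = d a * d b)
    (zv : ∀ a b, z a * v b = v b * z a) (zw : ∀ a b, z a * w b = w b * z a)
    (dv : ∀ a b, d a * v b = v b * d a) (dw : ∀ a b, d a * w b = w b * d a)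
    (dz : ∀ a b, d a * z b = z b * d a)
    (vw : ∀ a b, v a * w b = w b * v a * (z (a * b) * d (a ^ 2 * b))) :
    ∃ ι : U4 K →* G, ∀ u, ι u = w u.a * v u.t * (z u.b * d u.c) := by
  have zz : ∀ a b, z a * z b = z b * z a := fun a b => by rw [← hz, add_comm, hz]
  have dd : ∀ a b, d a * d b = d b * d a := fun a b => by rw [← hd, add_comm, hd]
  have cv : ∀ a b c, Commute (z a * d b) (v c) := fun a b c =>
    Commute.mul_left (zv a c) (dv b c)
  have cw : ∀ a b c, Commute (z a * d b) (w c) := fun a b c =>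
    Commute.mul_left (zw a c) (dw b c)
  have ad : ∀ a b a' b', z (a + a') * d (b + b') = z a * d b * (z a' * d b') := fun a b a' b' => by
    rw [hz, hd, mul_assoc (z a) (d b), ← mul_assoc (d b), dz]; group
  refine ⟨MonoidHom.mk' (fun u => w u.a * v u.t * (z u.b * d u.c)) fun a b => ?_, fun _ => rfl⟩
  have e : a.c + b.c + 2 * a.t * b.b + a.t ^ 2 * b.a = a.t ^ 2 * b.a + (a.c + b.c) := by
    rw [CharTwo.two_eq_zero]; ring
  simp only [U4.mul_t, U4.mul_a, U4.mul_b, U4.mul_c, hv, hw]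
  rw [e, add_comm (a.b + b.b), ad, ad]
  calc w a.a * w b.a * (v a.t * v b.t) *
        (z (a.t * b.a) * d (a.t ^ 2 * b.a) * (z a.b * d a.c * (z b.b * d b.c)))
      = w a.a * w b.a * v a.t * (v b.t * (z (a.t * b.a) * d (a.t ^ 2 * b.a))) *
        (z a.b * d a.c * (z b.b * d b.c)) := by group
    _ = w a.a * (v a.t * w b.a) * (v b.t * (z a.b * d a.c)) * (z b.b * d b.c) := by
      rw [← (cv _ _ _).eq, vw]; group
    _ = w a.a * v a.t * (w b.a * (z a.b * d a.c)) * v b.t * (z b.b * d b.c) := by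
      rw [← (cv _ _ _).eq]; group
    _ = _ := by rw [← (cw _ _ _).eq]; group

end Lift

end Cfsg.Agent.MF
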