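import Mathlib
import Cfsg.Agent.MF.Base
import Cfsg.Agent.FT.Pi

/-! A complement to `B` in `Y` acting by monomial maps. -/

set_option autoImplicit false
set_option linter.unusedSectionVars false

namespace Cfsg.Agent.MF

open Cfsg Cfsg.Agent.GT Cfsg.Agent.Loc.Mss Cfsg.Agent.Loc.PU Cfsg.Agent.Loc.Blk Cfsg.Agent.Loc.GC
  Cfsg.Agent.Fus Cfsg.Agent.Fus.SU Cfsg.FusionSystem Subgroup
open scoped commutatorElement MatrixGroups

variable {G : Type*} [Group G] [Finite G]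
variable {U : Type} [Group U] {𝔐 : Md U} {ι : U →* G}

/-- The elements of `Y` acting by a map with the property `P`. -/
def cplAct (ι : U →* G) (Y : Subgroup G) (P : (U → U) → Prop) (h1 : P id)
    (h2 : ∀ m m', P m → P m' → P (m ∘ m')) : Subgroup G where
  carrier := {y | y ∈ Y ∧ ∃ m, P m ∧ Acts ι ⊤ y m}
  one_mem' := ⟨one_mem _, id, h1, Acts.one⟩
  mul_mem' := fun ⟨ha, m, hm, am⟩ ⟨hb, m', hm', am'⟩ => ⟨mul_mem ha hb, _, h2 _ _ hm hm', am.mul am'⟩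
  inv_mem' {a} := fun ⟨ha, m, hm, am⟩ => by
    have key : ∀ n : ℕ, ∃ m', P m' ∧ Acts ι ⊤ (a ^ n) m' := fun n => by
      induction n with
      | zero => exact ⟨id, h1, by rw [pow_zero]; exact Acts.one⟩
      | succ n ih =>
        obtain ⟨m', hm', am'⟩ := ih
        exact ⟨_, h2 _ _ hm' hm, by rw [pow_succ]; exact am'.mul am⟩
    have e : a⁻¹ = a ^ (orderOf a - 1) := by
      refine inv_eq_of_mul_eq_one_right ?_
      rw [← pow_succ', Nat.sub_add_cancel (orderOf_pos a), pow_orderOf_eq_one]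
    exact ⟨inv_mem ha, e ▸ key _⟩

theorem Acts.cplNorm {g : G} {m : U → U} (h : Acts ι ⊤ g m) : g ∈ 𝐍[ι.range] :=
  mem_normalizer_fintype fun _ ⟨u, e⟩ => ⟨m u, by rw [← e, h u (mem_top _)]⟩

theorem Acts.cplPow {g : G} {m : U → U} (h : Acts ι ⊤ g m) (n : ℕ) : Acts ι ⊤ (g ^ n) m^[n] := by
  induction n with
  | zero => rw [pow_zero]; exact Acts.one
  | succ n ih => rw [pow_succ, Function.iterate_succ]; exact ih.mul h

theorem cpl_odd {Z H : Subgroup G} (hH : H ≤ 𝐍[Z]) {k : ℕ} (hk : Odd k)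
    (h : ∀ x ∈ H, x ^ k ∈ Z) : ¬ 2 ∣ Z.relIndex H := fun h2 => by
  have : (Z.subgroupOf H).Normal := (normal_subgroupOf_iff_le_normalizer_inf.2
    (fun x hx => mem_normalizer_fintype fun y hy => ⟨(mem_normalizer_iff.1 (hH hx) y).1 hy.1,
      H.mul_mem (H.mul_mem hx hy.2) (H.inv_mem hx)⟩))
  have : Fact (Nat.Prime 2) := ⟨Nat.prime_two⟩
  obtain ⟨x, hx⟩ := exists_prime_orderOf_dvd_card' (G := H ⧸ Z.subgroupOf H) 2 h2
  obtain ⟨y, rfl⟩ := QuotientGroup.mk_surjective x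
  have : (y : H ⧸ Z.subgroupOf H) ^ k = 1 := by
    rw [← QuotientGroup.mk_pow, QuotientGroup.eq_one_iff]
    exact h y y.2
  have := orderOf_dvd_of_pow_eq_one this
  rw [hx] at this
  exact (Nat.not_even_iff_odd.2 hk) (even_iff_two_dvd.2 this)

theorem Mn.exists_cpl {B V W Z D Y XV : Subgroup G} (h : Mn 𝔐 ι B V W Z D Y XV) (ok : 𝔐.OK)
    (pg : IsPGroup 2 B) (hB : B ≤ Y) (hZ : Z ≤ 𝐂[B]) (hc : Y ⊓ 𝐂[B] ≤ Z) :
    ∃ N ≤ Y, (∀ y ∈ Y, ∃ u, ι u * y ∈ N) ∧ N ⊓ B = ⊥ ∧ (∀ n ∈ N, ∃ m, 𝔐.Mon m ∧ Acts ι ⊤ n m) ∧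
      ∀ m, 𝔐.Tor m → ∃ n ∈ N, Acts ι ⊤ n m := by
  have eB := h.eB
  have eZ := h.eZ
  have inj := h.inj
  have ZB : Z ≤ B := by rw [← eZ, ← eB]; exact map_le_range _ _
  have Zid : ∀ z ∈ Z, Acts ι ⊤ z id := fun z hz u _ => by
    rw [← mem_centralizer_iff.1 (hZ hz) (ι u) (eB ▸ ⟨u, rfl⟩)]; simp
  set N₂ := cplAct ι Y 𝔐.Mon (ok.mon_dg _ ok.one) ok.mul with hN₂
  set H₂ := cplAct ι Y 𝔐.Dg ok.one ok.mul_dg with hH₂
  have HN : H₂ ≤ N₂ := fun x ⟨hx, m, hm, am⟩ => ⟨hx, m, ok.mon_dg _ hm, am⟩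
  have ZH : Z ≤ H₂ := fun z hz => ⟨hB (ZB hz), id, ok.one, Zid z hz⟩
  have NZ : N₂ ≤ 𝐍[Z] := fun n ⟨hn, m, _, am⟩ => mem_normalizer_fintype fun z hz => hc
    ⟨Y.mul_mem (Y.mul_mem hn (hB (ZB hz))) (Y.inv_mem hn), mem_centralizer_iff.2 fun b hb => by
      have h1 : n⁻¹ * b * n ∈ B := by
        have := (mem_normalizer_iff.1 (inv_mem (eB ▸ am.cplNorm : n ∈ 𝐍[B])) b).1 hb
        rwa [inv_inv] at this
      have := mem_centralizer_iff.1 (hZ hz) _ h1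
      calc b * (n * z * n⁻¹) = n * (n⁻¹ * b * n * z) * n⁻¹ := by group
        _ = _ := by rw [this]; group⟩
  have NH : N₂ ≤ 𝐍[H₂] := fun n ⟨hn, m, hm, am⟩ =>
    mem_normalizer_fintype fun x ⟨hx, d, hd, ad⟩ => by
      obtain ⟨d', hd', e⟩ := ok.nor m d hm hd
      refine ⟨mul_mem (mul_mem hn hx) (inv_mem hn), d', hd', fun u _ => ?_⟩
      obtain ⟨u₀, e₀⟩ := (mem_normalizer_iff.1 (inv_mem am.cplNorm) (ι u)).1 ⟨u, rfl⟩
      have e1 : m u₀ = u := inj (by rw [← am u₀ (mem_top _), e₀]; group)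
      have e2 := (am.mul ad) u₀ (mem_top _)
      rw [e, Function.comp_apply, e1, e₀] at e2
      rw [← e2]; group
  obtain ⟨k, hk, hkd⟩ := ok.odd
  have pk : ∀ x ∈ H₂, x ^ k ∈ Z := fun x ⟨hx, d, hd, ad⟩ => hc ⟨pow_mem hx k, by
    have := ad.cplPow k
    rw [hkd d hd] at this
    exact mem_centralizer_iff.2 fun b hb => by
      obtain ⟨u, rfl⟩ : b ∈ ι.range := eB ▸ hb
      have := this u (mem_top _)
      rw [id, mul_inv_eq_iff_eq_mul] at this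
      exact this.symm⟩
  have odd := cpl_odd (HN.trans NZ) hk pk
  have : Fact (Nat.Prime 2) := ⟨Nat.prime_two⟩
  obtain ⟨a, ha⟩ := (pg.to_le ZB).exists_card_eq
  have cop : (Nat.card Z).Coprime (Z.relIndex H₂) := by
    rw [ha]
    exact Nat.Coprime.pow_left _ ((Nat.Prime.coprime_iff_not_dvd Nat.prime_two).2 odd)
  obtain ⟨H₀, le₀, sup₀, inf₀, card₀⟩ := exists_complement_of_coprime_relIndex ZH (HN.trans NZ) cop
  have sd : FT.Sdprod Z H₀ H₂ := ⟨sup₀, inf₀, le₀.trans (HN.trans NZ)⟩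
  have ZZ : ∀ a ∈ Z, ∀ b ∈ Z, a * b = b * a := fun a ha b hb =>
    mem_centralizer_iff.1 (hZ hb) a (ZB ha)
  have sol : Group.IsSolvable Z :=
    Group.isSolvable_of_comm fun a b => Subtype.ext (ZZ _ a.2 _ b.2)
  have fr : ∀ n ∈ N₂, ∃ z ∈ Z, z * n ∈ N₂ ⊓ 𝐍[H₀] := fun n hn => by
    have sd' : FT.Sdprod Z (FT.cj n H₀) H₂ := ⟨by
      rw [← FT.cj_eq_self (NZ hn), ← FT.cj_sup, sup₀, FT.cj_eq_self (NH hn)], by
      rw [← FT.cj_eq_self (NZ hn), ← FT.cj_inf, inf₀, FT.cj_bot],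
      (FT.cj_le_of_mem_normalizer (NH hn) le₀).trans (HN.trans NZ)⟩
    obtain ⟨g, hg, e⟩ := FT.SchurZassenhaus_trans sd' sd (by rw [FT.card_cj, card₀]; exact cop)
      (Or.inl sol)
    refine ⟨g, hg, mul_mem (HN (ZH hg)) hn, FT.cj_eq_self_iff.1 ?_⟩
    rw [FT.cj_mul, ← e]
  refine ⟨N₂ ⊓ 𝐍[H₀], fun x hx => hx.1.1, fun y hy => ?_, ?_, fun n hn => hn.1.2, fun m hm => ?_⟩
  · obtain ⟨u, m, hm, am⟩ := h.mon y hy
    obtain ⟨z, hz, h1⟩ := fr (ι u * y) ⟨mul_mem (hB (eB ▸ ⟨u, rfl⟩)) hy, m, hm, am⟩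
    obtain ⟨v, rfl⟩ : z ∈ ι.range := eB ▸ ZB hz
    exact ⟨v * u, by rw [map_mul, mul_assoc]; exact h1⟩
  · refine eq_bot_iff.2 fun z ⟨⟨⟨_, m, hm, am⟩, hz2⟩, hz3⟩ => ?_
    obtain ⟨u, rfl⟩ : z ∈ ι.range := eB ▸ hz3
    have e : m = fun x => u * x * u⁻¹ :=
      funext fun x => Acts.eq inj am (Acts.inner u) x (mem_top _)
    have uZ := ok.inn u (e ▸ hm)
    have zZ : ι u ∈ Z := eZ ▸ mem_map_of_mem ι uZ
    have c0 : H₀ ≤ centralizer {ι u} := fun x hx => mem_centralizer_singleton_iff.2 (by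
      have h1 : x * ι u * x⁻¹ * (ι u)⁻¹ ∈ Z ⊓ H₀ := ⟨Z.mul_mem
        ((mem_normalizer_iff.1 (NZ (HN (le₀ hx))) _).1 zZ) (Z.inv_mem zZ), by
          rw [show x * ι u * x⁻¹ * (ι u)⁻¹ = x * (ι u * x⁻¹ * (ι u)⁻¹) by group]
          exact mul_mem hx ((mem_normalizer_iff.1 hz2 _).1 (inv_mem hx))⟩
      rw [inf₀, mem_bot] at h1
      rw [mul_inv_eq_one, mul_inv_eq_iff_eq_mul] at h1
      exact h1)
    have c1 : H₂ ≤ centralizer {ι u} := by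
      rw [← sup₀]
      exact sup_le (fun x hx => mem_centralizer_singleton_iff.2 (ZZ _ hx _ zZ)) c0
    have := ok.fpf u uZ fun d hd => by
      obtain ⟨y, hy, ay⟩ := h.tor d hd
      have := mem_centralizer_singleton_iff.1 (c1 ⟨hy, d, ok.dg_tor _ hd, ay⟩)
      refine inj ?_
      rw [← ay u (mem_top _), this]; group
    rw [this, map_one]; exact one_mem _
  · obtain ⟨y, hy, ay⟩ := h.tor m hm
    obtain ⟨z, hz, h1⟩ := fr y ⟨hy, m, ok.mon_dg _ (ok.dg_tor _ hm), ay⟩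
    exact ⟨_, h1, (Zid z hz).mul ay⟩

end Cfsg.Agent.MF
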