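import Mathlib
import Cfsg.Agent.MF.Defs

/-! Blocks in a local subgroup and the centres of an opposite pair. -/

set_option autoImplicit false
set_option linter.unusedSectionVars false

namespace Cfsg.Agent.MF

open Cfsg Cfsg.Agent.GT Cfsg.Agent.Loc.Mss Cfsg.Agent.Loc.PU Cfsg.Agent.Loc.Blk Cfsg.Agent.Loc.GC
  Cfsg.Agent.Fus Cfsg.Agent.Fus.SU Cfsg.FusionSystem Subgroup
open scoped commutatorElement MatrixGroups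

variable {G : Type*} [Group G] [Finite G] {S : Subgroup G} {F : FusionSystem S}
  {X : Subgroup G → Subgroup G}

theorem exists_bk_loc {T K M : Subgroup G} (hT : Syl 2 T K) (hc : ChP 2 K)
    (hz : K ⊓ 𝐂[ΩZ[2, T]] ≤ M)
    (hC : ∀ C ≤ 𝐁[2, T], C ≠ ⊥ → (C.subgroupOf 𝐁[2, T]).Characteristic → K ⊓ 𝐍[C] ≤ M)
    (hK : ¬ K ≤ M) : ∃ (L : Subgroup G) (k : Type) (_ : Field k) (ρ : G → SL(2, k))
      (φ : G → Fin 2 → k), L ≤ K ∧ ¬ 𝐑[2, L] ≤ M ∧ Inv T L ∧ Bk L 𝐁[2, T] 𝐕[2, L] ρ φ := by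
  have h0 : T ≠ ⊥ := fun e => hK (le_trans (le_inf le_rfl (le_trans le_top (by
    rw [e, le_bot_iff.1 (Loc.Mss.oz_le ⊥), cent_bot]))) hz)
  have hJ : K ⊓ 𝐍[thJ 2 T] ≤ M := by
    refine hC _ (thJ_le_bB T) (thJ_ne_bot dvd_rfl hT.pg h0) ?_
    rw [← thJ_eq_of_le (thJ_le_bB T) (bB_le T), ← thJ_subgroupOf le_rfl, subgroupOf_self]
    exact thJ_characteristic 2 ⊤
  have hd : ∀ L ≤ K, ¬ 𝐑[2, L] ≤ M → ∀ C ≤ 𝐁[2, T], C ≠ ⊥ →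
      (C.subgroupOf 𝐁[2, T]).Characteristic → ¬ L ≤ 𝐍[C] := fun L h1 h2 C a b c l =>
    h2 ((Loc.Mss.res_le L).trans ((le_inf h1 l).trans (hC C a b c)))
  obtain ⟨P, L, -, h2, ⟨l1, l2, l3, k, _, _, M₂, P₂⟩, -⟩ := exists_pb_aux hT hc hz hJ hK
    fun k _ _ L M₂ h1 h2 h3 => by
      obtain ⟨W, D, ρ, φ, h⟩ := exists_pu1 h3 (hd L h1 h2)
      exact fun x hx => have := h.commT (commutator_mono le_rfl (Loc.Mss.res_le L) hx)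
        mem_oz.2 ⟨this.1, this.2, h.powV x this⟩
  obtain ⟨W, D, ρ, φ, h⟩ := exists_pu1 P₂ (hd L (l1.trans h2) l2)
  exact ⟨L, k, inferInstance, ρ, φ, l1.trans h2, l2, l3, Bk.of_pu1 P₂ h⟩

theorem Blk.aux {L₁ L₂ B V W A A' : Subgroup G} {k₁ k₂ : Type} [Field k₁] [Field k₂]
    {ρ₁ : G → SL(2, k₁)} {φ₁ : G → Fin 2 → k₁} {ρ₂ : G → SL(2, k₂)} {φ₂ : G → Fin 2 → k₂}
    (h1 : Bk L₁ B V ρ₁ φ₁) (h2 : Bk L₂ B W ρ₂ φ₂) (o : ¬ W ≤ 𝐎[2, L₁])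
    (n1 : L₁ ≤ 𝐍[A' ⊓ V]) (n2 : L₂ ≤ 𝐍[A' ⊓ W]) (c : ⁅A', A'⁆ ≤ A) (a : A ⊓ V ≤ 𝐙[L₁]) :
    A' ⊓ V ≤ 𝐙[L₁] := by
  by_contra hn
  obtain ⟨v, hv, hv'⟩ := SetLike.not_le_iff_exists.1 fun l : A' ⊓ V ≤ 𝐙[B] =>
    h1.not_V_le ((h1.cover inf_le_right n1 hn).ge.trans (sup_le l h1.ZL_le))
  have v2 : v ∉ 𝐎[2, L₂] := fun l => hv' ((h1.opp_inf h2 o).le ⟨hv.2, l⟩)
  obtain ⟨w, hw, hw'⟩ := SetLike.not_le_iff_exists.1 h2.not_V_le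
  have hn' : ¬ A' ⊓ W ≤ 𝐙[L₂] := fun l => (h2.nzd hw (h1.V_le hv.2) (l
    ⟨(comm_mem_of_norm (n1 (h1.le (h2.V_le hw))) hv).1,
      comm_mem_of_norm' (h2.norm_V (h2.le (h1.V_le hv.2))) hw⟩)).elim hw' v2
  obtain ⟨u, hu, hu'⟩ := SetLike.not_le_iff_exists.1 fun l : A' ⊓ W ≤ 𝐙[B] =>
    h2.not_V_le ((h2.cover inf_le_right n2 hn').ge.trans (sup_le l h2.ZL_le))
  exact (h1.nzd hv.2 (h2.V_le hu.2) (a ⟨c (commutator_mem_commutator hv.1 hu.1),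
    comm_mem_of_norm' (h1.norm_V (h1.le (h2.V_le hu.2))) hv.2⟩)).elim hv'
    fun l => hu' ((h2.opp_inf h1 (h1.opp_symm h2 o)).le ⟨hu.2, l⟩)

theorem Blk.norm {L B V U A : Subgroup G} {k : Type} [Field k] {ρ : G → SL(2, k)}
    {φ : G → Fin 2 → k} (h : Bk L B V ρ φ) (hU : U ≤ 𝐙[L])
    (m : ∀ l ∈ L, F.Mor V fun x => l * x * l⁻¹) (s : SCl F U A) : L ≤ 𝐍[A ⊓ V] := fun l hl =>
  Loc.Mss.mem_norm_of_cj_le (cj_le_iff.2 fun x hx => ⟨s V _ (m l hl) (hU.trans h.nat.le)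
    (norm_of_cent (h.ea.ab.trans (cent_anti (hU.trans h.nat.le))))
    (fun _ hy => conj_mem_of_norm (norm_of_cent ((le_cent_Z L).trans (cent_anti hU)) hl) hy)
    x hx.2 hx.1, conj_mem_of_norm (h.norm_V hl) hx.2⟩)

theorem Amb.zz (h : Amb S F X) {L₁ L₂ B V W : Subgroup G} {k₁ k₂ : Type} [Field k₁] [Field k₂]
    {ρ₁ : G → SL(2, k₁)} {φ₁ : G → Fin 2 → k₁} {ρ₂ : G → SL(2, k₂)} {φ₂ : G → Fin 2 → k₂}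
    (h1 : Bk L₁ B V ρ₁ φ₁) (h2 : Bk L₂ B W ρ₂ φ₂) (o : ¬ W ≤ 𝐎[2, L₁]) (hB : B ≤ S)
    (m1 : ∀ l ∈ L₁, F.Mor V fun x => l * x * l⁻¹) (m2 : ∀ l ∈ L₂, F.Mor W fun x => l * x * l⁻¹) :
    𝐙[L₁] ⊓ 𝐙[L₂] = ⊥ := by
  by_contra h0
  have l : 𝐙[L₁] ⊓ 𝐙[L₂] ≤ 𝐙[B] := inf_le_left.trans h1.ZL_le
  obtain ⟨A, A', a, a', -, c, -, s'⟩ := h.sol _ (l.trans (inf_le_left.trans hB)) h0
    (fun A => ¬ (A ⊓ V ≤ 𝐙[L₁] ∧ A ⊓ W ≤ 𝐙[L₂]))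
    (fun e => e ⟨inf_le_left.trans bot_le, inf_le_left.trans bot_le⟩)
    (fun e => h1.not_V_le ((le_inf (le_inf (h1.V_le.trans hB) (norm_of_cent (h1.V_le.trans
      ((le_cent_Z B).trans (cent_anti l))))) le_rfl).trans (e.1.trans h1.ZL_le)))
  have a := not_not.1 a
  have n1 := Blk.norm h1 inf_le_left m1 s'
  have n2 := Blk.norm h2 inf_le_right m2 s'
  exact a' ⟨Blk.aux h1 h2 o n1 n2 c a.1, Blk.aux h2 h1 (h1.opp_symm h2 o) n2 n1 c a.2⟩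

end Cfsg.Agent.MF
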