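import Mathlib
import Cfsg.Agent.MF.Base
import Cfsg.Agent.MF.Blk

set_option autoImplicit false
set_option linter.unusedSectionVars false

namespace Cfsg.Agent.MF

open Cfsg Cfsg.Agent.GT Cfsg.Agent.Loc.Mss Cfsg.Agent.Loc.PU Cfsg.Agent.Loc.Blk Cfsg.Agent.Loc.GC
  Cfsg.Agent.Fus Cfsg.Agent.Fus.SU Cfsg.FusionSystem Subgroup
open scoped commutatorElement MatrixGroups

variable {G : Type*} [Group G] [Finite G] {S : Subgroup G} {F : FusionSystem S}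
  {X : Subgroup G → Subgroup G}
  {L V B M : Subgroup G} {t : G} {K : Type} [Field K] {ρ : G → SL(2, K)} {φ : G → Fin 2 → K}

namespace Nrm

theorem exists_out {Z A A' : Subgroup G} (h1 : ¬ Z ≤ A) (h2 : ¬ Z ≤ A') :
    ∃ z ∈ Z, z ∉ A ∧ z ∉ A' := by
  obtain ⟨a, ha, ha'⟩ := SetLike.not_le_iff_exists.1 h1
  obtain ⟨b, hb, hb'⟩ := SetLike.not_le_iff_exists.1 h2
  by_cases e1 : a ∈ A'
  · by_cases e2 : b ∈ A
    · exact ⟨a * b, mul_mem ha hb, fun e => ha' ((mul_mem_cancel_right e2).1 e),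
        fun e => hb' ((mul_mem_cancel_left e1).1 e)⟩
    · exact ⟨b, hb, e2, hb'⟩
  · exact ⟨a, ha, ha', e1⟩

theorem mor_cj {P : Subgroup G} {l s : G} (hs : s ∈ S) (hP : cj(s, P) ≤ S)
    (h : F.Mor P fun x => l * x * l⁻¹) :
    F.Mor cj(s, P) fun x => (s * l * s⁻¹) * x * (s * l * s⁻¹)⁻¹ :=
  ((h.comp (F.mor_conj' hP hs) fun _ hx => mem_cj.1 hx).conj_comp hs).congr fun x _ => by group

section
variable (h : Op S F X L V B M t ρ φ)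
include h

theorem V_ne : V ≠ ⊥ := fun e => h.bd.not_V_le (e.le.trans bot_le)
theorem syl : Syl 2 (S ⊓ 𝐍[V]) (X V) := h.amb.syl V (V_ne h) h.fn
theorem nV : X V ≤ 𝐍[V] := h.amb.nrm V (V_ne h) h.fn
theorem BT : B ≤ S ⊓ 𝐍[V] := le_inf h.bd.le h.bd.norm_V
theorem BX : B ≤ X V := (BT h).trans (syl h).le
theorem tB : t ∈ 𝐍[B] := h.bd.norm h.tS
theorem aZ : X V ⊓ 𝐍[𝐙[B]] ≤ M := h.m2 _ h.bd.Z_ne_bot inf_le_left h.bd.T_norm_Z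
theorem aB : X V ⊓ 𝐍[B] ≤ M :=
  h.m2 _ (fun e => V_ne h (le_bot_iff.1 (h.bd.V_le.trans e.le))) le_rfl h.bd.norm

theorem morX {l : G} (hl : l ∈ X V) {P : Subgroup G} (hP : P ≤ B) (hn : l ∈ 𝐍[P]) :
    F.Mor P fun x => l * x * l⁻¹ :=
  (h.amb.iso (V_ne h) h.fn hl (hP.trans (BT h)) hn).mor

theorem exists_z : ∃ z ∈ 𝐙[B], z ≠ 1 ∧ z ∈ 𝐂[S] ∧ X V ⊓ 𝐂[zpowers z] ≤ M := by
  have h0 : S ≠ ⊥ := fun e => V_ne h (le_bot_iff.1 ((h.bd.V_le.trans h.bd.le).trans e.le))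
  obtain ⟨⟨z, hz⟩, h1⟩ := ne_bot_iff_exists_ne_one.1 (oz_ne_bot h.amb.pg h0)
  obtain ⟨zS, zC, -⟩ := mem_oz.1 hz
  have zV : z ∈ 𝐂[V] := cent_anti (h.bd.V_le.trans h.bd.le) zC
  have zB : z ∈ B := h.bd.V_le (h.cent ⟨(syl h).le ⟨zS, cent_le_norm _ zV⟩, zV⟩)
  have z1 : z ≠ 1 := fun e => h1 (Subtype.ext e)
  exact ⟨z, ⟨zB, cent_anti h.bd.le zC⟩, z1, zC, (inf_le_inf_left _ (cent_le_norm _)).trans
    (h.m2 _ (zpowers_ne_bot.2 z1) (zpowers_le.2 zB) (norm_of_cent (cent_comm (zpowers_le.2 zC))))⟩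

theorem mem_norm {g : G} (hg : cj(g, B) ≤ S) : g ∈ 𝐍[B] := by
  refine mem_norm_of_cj_le ?_
  conv_lhs => rw [← h.bd.sup, cj_sup]
  exact sup_le (h.ea _ (h.bd.eaV.cj g) ((cj_mono g h.bd.V_le).trans hg) (card_cj V g).ge)
    (h.ea _ (h.bd.eaW.cj g) ((cj_mono g h.bd.W_le).trans hg)
      ((card_cj _ g).trans h.bd.cardWV).ge)

theorem exists_x {P : Subgroup G} (hP : IsPGroup 2 P) (h1 : B ≤ P) (h2 : P ≤ X V) :
    ∃ x ∈ X V, x ∈ 𝐍[B] ∧ cj(x, P) ≤ S ⊓ 𝐍[V] := by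
  obtain ⟨x, hx, e⟩ := (syl h).conj_le hP h2
  exact ⟨x, hx, mem_norm h ((cj_mono x h1).trans (e.trans inf_le_left)), e⟩

theorem B_le_C {z : G} (hz : z ∈ 𝐙[B]) : B ≤ X V ⊓ 𝐂[zpowers z] :=
  le_inf (BX h) (cent_comm (zpowers_le.2 hz.2))

theorem mem_M {z g : G} (hz : z ∈ 𝐙[B]) (gd : X V ⊓ 𝐂[zpowers z] ≤ M) (hg : g ∈ X V)
    (e : g * z * g⁻¹ ∈ 𝐙[B]) : g ∈ M := by
  obtain ⟨P, hBP, hP⟩ := Syl.exists_ge h.bk.pg (B_le_C h hz)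
  have l1 : cj(g⁻¹, B) ≤ X V ⊓ 𝐂[zpowers z] := by
    refine le_inf (cj_le_of_mem (BX h) (inv_mem hg)) (cj_le_iff.2 fun b hb => cent_zpowers.2 ?_)
    calc z * (g⁻¹ * b * g⁻¹⁻¹) = g⁻¹ * (g * z * g⁻¹ * b) * g := by group
      _ = _ := by rw [← mem_cent.1 e.2 b hb]; group
  obtain ⟨c, hc, e1⟩ := hP.conj_le (pg_cj h.bk.pg g⁻¹) l1
  obtain ⟨x, hx, xB, e2⟩ := exists_x h hP.pg hBP (hP.le.trans inf_le_left)
  have n : x * (c * g⁻¹) ∈ 𝐍[B] := mem_norm h (by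
    rw [← cj_cj, ← cj_cj]
    exact (cj_mono x e1).trans (e2.trans inf_le_left))
  have m := aB h (mem_inf.2 ⟨mul_mem hx (mul_mem (mem_inf.1 hc).1 (inv_mem hg)), n⟩)
  exact inv_mem_iff.1 ((mul_mem_cancel_left (gd hc)).1 ((mul_mem_cancel_left (aB h ⟨hx, xB⟩)).1 m))

theorem exists_e {g : G} (hg : g ∈ X V) : ∃ e ∈ L, e * g ∈ M := by
  obtain ⟨z, hz, -, -, gd⟩ := exists_z h
  obtain ⟨e, he, e1⟩ := h.bk.exists_conj (conj_mem_of_norm (nV h hg) (h.bk.Z_le hz))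
  refine ⟨e, h.bk.E_le he, mem_M h hz gd (mul_mem (h.leX (h.bk.E_le he)) hg) ?_⟩
  rwa [show e * g * z * (e * g)⁻¹ = e * (g * z * g⁻¹) * e⁻¹ by group]

theorem normZ_of_L {g : G} (hg : g ∈ L) (hM : g ∈ M) : g ∈ 𝐍[𝐙[B]] := by
  have N := h.bk.nat
  by_contra hn
  refine h.nM fun a ha => by_contra fun ha' => ?_
  have a1 : ρ a 1 0 ≠ 0 := fun e => ha' (aZ h ⟨h.leX ha, (N.mem_norm_X ha).2 e⟩)
  have g1 : ρ g 1 0 ≠ 0 := fun e => hn ((N.mem_norm_X hg).2 e)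
  obtain ⟨s, hs, e⟩ := N.up_surj ((ρ a 0 0 * ρ g 1 0 - ρ a 1 0 * ρ g 0 0) / (ρ a 1 0 * ρ g 1 0))
  have sL := h.bk.le hs
  have m : a⁻¹ * (s * g) ∈ L := mul_mem (inv_mem ha) (mul_mem sL hg)
  have := aZ h ⟨h.leX m, (N.mem_norm_X m).2 (by
    rw [N.ρ_mul _ (inv_mem ha) _ (mul_mem sL hg), N.ρ_mul _ sL _ hg, N.toNatD.ρ_inv ha, e, sl_mul,
      sl_mul, sl_mul, (sl_inv _).2.2.1, (sl_inv _).2.2.2, (up_ent _).1, (up_ent _).2.1,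
      (up_ent _).2.2.1, (up_ent _).2.2.2]
    field_simp
    ring)⟩
  exact ha' (inv_mem_iff.1 ((mul_mem_cancel_right
    (mul_mem (aB h ⟨BX h hs, le_normalizer hs⟩) hM)).1 this))

theorem conj_Z {z m : G} (hz : z ∈ 𝐙[B]) (gd : X V ⊓ 𝐂[zpowers z] ≤ M) (hm : m ∈ X V)
    (hM : m ∈ M) : m * z * m⁻¹ ∈ 𝐙[B] := by
  obtain ⟨e, he, e1⟩ := h.bk.exists_conj (conj_mem_of_norm (nV h hm) (h.bk.Z_le hz))
  have he' := h.bk.E_le he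
  have := mem_M h hz gd (mul_mem (h.leX he') hm) (by
    rwa [show e * m * z * (e * m)⁻¹ = e * (m * z * m⁻¹) * e⁻¹ by group])
  have n := normZ_of_L h he' ((mul_mem_cancel_right hM).1 this)
  simpa [mul_assoc] using conj_mem_of_norm' n e1

theorem not_W_le : ¬ cj(t, V) ≤ V := fun e => h.bd.not_W_le ((le_inf e le_rfl).trans h.bd.inf.le)

theorem exists_bk {z : G} (hz : z ∈ 𝐙[B]) (bad : ¬ X V ⊓ 𝐂[zpowers z] ≤ M) :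
    ∃ (L₃ : Subgroup G) (k : Type) (_ : Field k) (ρ₃ : G → SL(2, k)) (φ₃ : G → Fin 2 → k),
      L₃ ≤ X V ∧ Bk L₃ B V ρ₃ φ₃ ∧ 𝐎[2, L₃] = V ∧ z ∈ 𝐙[L₃] := by
  obtain ⟨P, hBP, hP⟩ := Syl.exists_ge h.bk.pg (B_le_C h hz)
  obtain ⟨x, hx, xB, e2⟩ := exists_x h hP.pg hBP (hP.le.trans inf_le_left)
  have xM := aB h ⟨hx, xB⟩
  have eB : 𝐁[2, P] = B := by
    rw [← cj_eq_cj (g := x), cj_bB, cj_of_norm xB, Loc.CG.bB_eq_of_le ?_ e2, ← h.eqB]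
    rw [← h.eqB, ← cj_of_norm xB]
    exact cj_mono x hBP
  have nC : X V ⊓ 𝐂[zpowers z] ≤ 𝐍[V] := inf_le_left.trans (nV h)
  have hc : ChP 2 (X V ⊓ 𝐂[zpowers z]) :=
    chP_of_cent_le (P := V) (le_pCoreOf (h.bd.V_le.trans (B_le_C h hz)) nC h.bd.eaV.pg)
      ((inf_le_inf_right _ inf_le_left).trans h.cent)
  obtain ⟨y, hy, -, yS, gd⟩ := exists_z h
  have y1 : x⁻¹ * y * x ∈ ΩZ[2, P] := mem_oz.2 ⟨hBP (conj_mem_of_norm' xB hy.1),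
    mem_cent.2 fun a ha => by
      have := mem_cent.1 yS _ (e2 (conj_mem_cj ha)).1
      calc a * (x⁻¹ * y * x) = x⁻¹ * (x * a * x⁻¹ * y) * x := by group
        _ = _ := by rw [this]; group,
    h.bd.eaZ.sq _ (conj_mem_of_norm' (h.bd.norm_Z xB) hy)⟩
  obtain ⟨L₃, k, _, ρ₃, φ₃, l3, -, -, b3⟩ := exists_bk_loc hP hc (M := M) (fun g hg => by
      have := gd <| mem_inf.2 ⟨mul_mem (mul_mem hx hg.1.1) (inv_mem hx), cent_zpowers.2 (by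
        calc y * (x * g * x⁻¹) = x * (x⁻¹ * y * x * g) * x⁻¹ := by group
          _ = _ := by rw [mem_cent.1 hg.2 _ y1]; group)⟩
      exact (mul_mem_cancel_left xM).1 ((mul_mem_cancel_right (inv_mem xM)).1 this))
    (by
      rw [eB]
      intro C hC h0 hch
      refine (inf_le_inf_right _ inf_le_left).trans (h.m2 C h0 hC (h.bd.norm.trans ?_))
      have := normalizer_le_normalizer_map_subtype B (C.subgroupOf B)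
      rwa [map_subgroupOf_eq_of_le hC] at this) bad
  rw [eB] at b3
  obtain ⟨-, e3, e4⟩ := BkE.opp_third (L₂ := cj(t, L)) ⟨K, _, ρ, φ, h.bk, rfl⟩
    ⟨K, _, _, _, h.bk.cj' (tB h), rfl⟩ (h.eqO.symm ▸ not_W_le h) (cj_Z L t ▸ h.zz)
    ⟨k, _, ρ₃, φ₃, b3, rfl⟩
  have e5 : V ≤ 𝐎[2, L₃] := (le_inf le_rfl (h.bd.V_le.trans b3.le)).trans
    (b3.le_O h.bd.eaV.pg (l3.trans nC))
  have e6 : 𝐕[2, L₃] = V := e4.resolve_right fun e =>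
    h.bd.not_V_le ((le_inf le_rfl (e5.trans (e3.trans e).le)).trans h.bd.inf.le)
  rw [e6] at b3
  exact ⟨L₃, k, _, ρ₃, φ₃, l3.trans inf_le_left, b3, e3.trans e6, b3.le hz.1,
    cent_comm (l3.trans inf_le_right) (mem_zpowers z)⟩

theorem good_or {z : G} (hz : z ∈ 𝐙[B]) (z1 : z ≠ 1) :
    X V ⊓ 𝐂[zpowers z] ≤ M ∨ X V ⊓ 𝐂[zpowers (t⁻¹ * z * t)] ≤ M := by
  by_contra hh
  rw [not_or] at hh
  obtain ⟨L₃, k, _, ρ₃, φ₃, l3, b3, e3, z3⟩ := exists_bk h hz hh.1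
  obtain ⟨L₄, k', _, ρ₄, φ₄, l4, b4, -, z4⟩ :=
    exists_bk h (conj_mem_of_norm' (h.bd.norm_Z (tB h)) hz) hh.2
  have := h.amb.zz b3 (b4.cj' (tB h)) (e3.symm ▸ not_W_le h) h.bd.le
    (fun l hl => morX h (l3 hl) h.bd.V_le (nV h (l3 hl))) fun l hl => by
      have := mor_cj h.tS (h.bd.W_le.trans h.bd.le)
        (morX h (l4 (mem_cj.1 hl)) h.bd.V_le (nV h (l4 (mem_cj.1 hl))))
      rwa [show t * (t⁻¹ * l * t) * t⁻¹ = l by group] at this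
  exact z1 (mem_bot.1 (this.le ⟨z3, cj_Z L₄ t ▸ mem_cj.2 z4⟩))

theorem normZ : X V ⊓ M ≤ 𝐍[𝐙[B]] := fun m hm => by
  have tZ := h.bd.norm_Z (tB h)
  refine mem_norm_of_cj_le (cj_le_iff_le_inv.2 (by_contra fun hn => ?_))
  obtain ⟨z, hz, h1, h2⟩ := exists_out hn (A' := cj(t, cj(m⁻¹, 𝐙[B]))) fun e =>
    hn (by rw [← cj_le_cj (g := t), cj_of_norm tZ]; exact e)
  rcases good_or h hz (fun e => h1 (e ▸ one_mem _)) with gd | gd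
  · exact h1 (mem_cj.2 (by simpa using conj_Z h hz gd hm.1 hm.2))
  · exact h2 (mem_cj.2 (mem_cj.2 (by
      simpa using conj_Z h (conj_mem_of_norm' tZ hz) gd hm.1 hm.2)))

theorem normB : X V ⊓ M ≤ 𝐍[B] := by
  have l1 : B ≤ X V ⊓ 𝐂[𝐙[B]] ⊓ cmod V 𝐙[B] := le_inf (le_inf (BX h) (le_cent_Z B))
    (le_cmod.2 ⟨norm_Z le_normalizer, h.bk.comm_VB⟩)
  have n1 : X V ⊓ M ≤ 𝐍[X V ⊓ 𝐂[𝐙[B]] ⊓ cmod V 𝐙[B]] :=
    norm_inf (norm_inf (norm_of_le inf_le_left) (norm_cent (normZ h)))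
      (norm_cmod (inf_le_left.trans (nV h)) (normZ h))
  have pg : IsPGroup 2 ↥(X V ⊓ 𝐂[𝐙[B]] ⊓ cmod V 𝐙[B]) := pg_iff.2 fun b hb => ⟨2, by
    have : b ^ 2 ∈ V := h.cent ⟨pow_mem hb.1.1 2, mem_cent.2 fun v hv => by
      have c1 := (mem_cmod.1 hb.2).2 v hv
      have c2 := mem_cent.1 hb.1.2 _ c1
      have c3 := h.bd.eaZ.mul_self c1
      calc v * b ^ 2 = ⁅v, b⁆ * (b * ⁅v, b⁆) * b * v := by
            simp only [commutatorElement_def, pow_two]; group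
        _ = _ := by rw [← c2, ← mul_assoc ⁅v, b⁆, c3, one_mul, pow_two]⟩
    rw [show 2 ^ 2 = 2 * 2 from rfl, pow_mul, h.bd.eaV.sq _ this]⟩
  obtain ⟨x, hx, xB, e⟩ := exists_x h pg l1 (inf_le_left.trans inf_le_left)
  rw [cj_of_norm (n1 ⟨hx, aB h ⟨hx, xB⟩⟩)] at e
  have : X V ⊓ 𝐂[𝐙[B]] ⊓ cmod V 𝐙[B] = B := le_antisymm (fun s hs => h.bd.ker s (e hs) fun z hz =>
    (comm_eq_one.2 (mem_cent.1 hs.1.2 z hz)).symm ▸ one_mem _) l1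
  rwa [this] at n1

end

end Nrm

open Nrm

theorem Op.norm_L (h : Op S F X L V B M t ρ φ) : X V ≤ 𝐍[L] := by
  have : ncl (X V) B = L := le_antisymm ((ncl_le_of_mul fun g hg => by
    obtain ⟨e, he, m⟩ := exists_e h hg
    exact ⟨e⁻¹, inv_mem he, e * g, normB h ⟨mul_mem (h.leX he) hg, m⟩, by group⟩).trans h.bk.gen.le)
    (h.bk.gen.ge.trans (ncl_mono h.leX le_rfl))
  conv_rhs => rw [← this]
  exact le_norm_ncl _ _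

theorem Op.dich (h : Op S F X L V B M t ρ φ) : 𝐙[L] = ⊥ ∨ 𝐙[L] ⊔ cj(t, 𝐙[L]) = 𝐙[B] := by
  refine or_iff_not_imp_left.2 fun h0 => le_antisymm (sup_le h.bd.leD h.bd'.leD) fun z hz => ?_
  obtain ⟨⟨d, hd⟩, d1⟩ := ne_bot_iff_exists_ne_one.1 h0
  have N := h.bk.nat
  have tZ := h.bd.norm_Z (tB h)
  by_cases z1 : z ∈ cj(t, 𝐙[L])
  · exact mem_sup_right z1
  have hz' := conj_mem_of_norm' tZ hz
  have hd' := conj_mem_of_norm' tZ (h.bd.leD hd)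
  have key : ∀ y ∈ 𝐙[B], y ∉ 𝐙[L] → φ y 1 = 0 ∧ φ y 0 ≠ 0 := fun y hy hn =>
    have e := (N.memX y (N.X_le hy)).1 hy
    ⟨e, fun e0 => hn ((N.φ_ker y (N.X_le hy)).1 (vec_ext e0 e))⟩
  obtain ⟨a1, a0⟩ := key _ hz' fun e => z1 (mem_cj.2 e)
  obtain ⟨b1, b0⟩ := key _ hd' fun e =>
    d1 (Subtype.ext (mem_bot.1 (h.zz.le ⟨hd, mem_cj.2 e⟩)))
  obtain ⟨A, A0, A1⟩ := exists_sl_col (x := ![φ (t⁻¹ * z * t) 0 / φ (t⁻¹ * d * t) 0, 0])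
    fun e => div_ne_zero a0 b0 (congrFun e 0)
  obtain ⟨x, hx, rfl⟩ := N.ρ_surj A
  have xX := h.leX hx
  have xB : x ∈ 𝐍[B] := normB h ⟨xX, aZ h ⟨xX, (N.mem_norm_X hx).2 A1⟩⟩
  have e1 : x * (t⁻¹ * d * t) * x⁻¹ * (t⁻¹ * z * t)⁻¹ ∈ 𝐙[L] :=
    (N.toNatD.φ_eq_iff (N.toNatD.conj_mem hx (N.X_le hd')) (N.X_le hz')).1 (by
      rw [N.equiv x hx _ (N.X_le hd')]
      refine vec_ext ?_ ?_
      · rw [mv0, A0, b1]; simp [b0]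
      · rw [mv1, A1, a1, b1]; simp)
  have m1 := mor_cj h.tS ((cj_of_norm (tB h)).le.trans h.bd.le) (morX h xX le_rfl xB)
  rw [cj_of_norm (tB h)] at m1
  have n1 : t * x * t⁻¹ ∈ 𝐍[V] := by
    rw [← (h.bd.swap (tB h) h.tV).2, ← cj_norm]
    exact conj_mem_cj ((h.bd.norm_iff xB).1 (nV h xX))
  obtain ⟨x', hx', e2⟩ := h.amb.switch (V_ne h) h.fn m1 h.bd.V_le h.bd.norm_V n1
  have e3 := conj_mem_of_norm (norm_Z h.norm_L hx') hd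
  rw [← e2 d (h.bd.leD hd).1] at e3
  have e4 := mul_mem (inv_mem (mem_sup_right (S := 𝐙[L]) (conj_mem_cj (g := t) e1)))
    (mem_sup_left e3)
  convert e4 using 1
  group

end Cfsg.Agent.MF
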