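import Mathlib
import Cfsg.Agent.MF.Nrm

set_option autoImplicit false
set_option linter.unusedSectionVars false

namespace Cfsg.Agent.MF

open Cfsg Cfsg.Agent.GT Cfsg.Agent.Loc.Mss Cfsg.Agent.Loc.PU Cfsg.Agent.Loc.Blk Cfsg.Agent.Loc.GC
  Cfsg.Agent.Fus Cfsg.Agent.Fus.SU Cfsg.FusionSystem Subgroup
open scoped commutatorElement MatrixGroups

variable {G : Type*} [Group G] [Finite G] {S : Subgroup G} {F : FusionSystem S}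
  {X : Subgroup G → Subgroup G}
  {L V B M : Subgroup G} {t : G} {K : Type} [Field K] {ρ : G → SL(2, K)} {φ : G → Fin 2 → K}

variable {U : Type} [Group U] {𝔐 : Md U} {ι : U →* G}

namespace TB

open Nrm

theorem B_ne (h : Op S F X L V B M t ρ φ) : B ≠ ⊥ := fun e =>
  V_ne h (le_bot_iff.1 (h.bd.V_le.trans e.le))

theorem fnB (h : Op S F X L V B M t ρ φ) : F.IsFullyNormalized B := fnN h.bd.le h.bd.norm

theorem sylB (h : Op S F X L V B M t ρ φ) : Syl 2 S (X B) := h.amb.sylN (B_ne h) h.bd.le h.bd.norm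

theorem nB (h : Op S F X L V B M t ρ φ) : X B ≤ 𝐍[B] := h.amb.nrm B (B_ne h) (fnB h)

theorem exists_inv {n : G} (hn : n ∈ S) (pg : IsPGroup 2 S) (h1 : n ≠ 1) :
    ∃ f ∈ zpowers n, f ≠ 1 ∧ f * f = 1 := by
  have p := pg.to_le (zpowers_le.2 hn)
  obtain ⟨⟨z, hz⟩, z1⟩ := ne_bot_iff_exists_ne_one.1 (oz_ne_bot p (zpowers_ne_bot.2 h1))
  obtain ⟨a, -, b⟩ := mem_oz.1 hz
  exact ⟨z, a, fun e => z1 (Subtype.ext e), by rw [← pow_two, b]⟩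

theorem fix {D : Subgroup G} {f : G} (pg : IsPGroup 2 S) (hD : D ≤ S) (h0 : D ≠ ⊥) (hf : f ∈ S)
    (hn : f ∈ 𝐍[D]) : ∃ d ∈ D, d ≠ 1 ∧ f * d = d * f := by
  obtain ⟨d, hd, d1, e⟩ := exists_fix (X := D) (Y := ⊥) (s := f) bot_le
    (fun e => h0 (le_bot_iff.1 e)) (norm_normal _ _) (pg.to_le (sup_le hD (zpowers_le.2 hf))) hn
    (norm_normal ⊤ _ trivial)
  exact ⟨d, hd, fun e => d1 (e ▸ one_mem _), comm_eq_one.1 (mem_bot.1 e)⟩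

theorem step {A R : Subgroup G} {f l z : G} (hA : SCl F (zpowers f) A)
    (hm : F.Mor R fun x => l * x * l⁻¹) (hf : f ∈ R) (hz : z ∈ R) (zA : z ∈ A)
    (zn : z ∈ 𝐍[zpowers f]) (e : l * f = f * l) : l * z * l⁻¹ ∈ A :=
  hA (R ⊓ 𝐍[zpowers f]) _ (hm.mono inf_le_left) (le_inf (zpowers_le.2 hf) le_normalizer)
    inf_le_right (fun _ hy => conj_mem_of_norm (cent_le_norm _ (cent_zpowers.2 e.symm)) hy) z
    ⟨hz, zn⟩ zA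

theorem key (h : Op S F X L V B M t ρ φ) (c : Mn 𝔐 ι B V cj(t, V) 𝐙[B] 𝐙[L] (X B) (X V))
    (ok : 𝔐.OK) {f : G} {m : U → U} (hm : 𝔐.Mon m) (a : Acts ι ⊤ f m) (fT : f ∈ S ⊓ 𝐍[V])
    (fB : f ∉ B) (f2 : f * f = 1) :
    ∃ l ∈ X V, l * f = f * l ∧ ∀ z ∈ 𝐙[B], l * z * l⁻¹ ∈ 𝐙[B] → z ∈ 𝐙[L] := by
  have mV : ∀ {u}, ι u ∈ V ↔ u ∈ 𝔐.V := fun {u} => by rw [← c.eV, mem_map_iff_mem c.inj]
  have mZ : ∀ {u}, ι u ∈ 𝐙[B] ↔ u ∈ 𝔐.Z := fun {u} => by rw [← c.eZ, mem_map_iff_mem c.inj]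
  have exV : ∀ v ∈ V, ∃ u ∈ 𝔐.V, ι u = v := fun v hv => by rwa [← c.eV] at hv
  have fi : f⁻¹ = f := inv_eq_of_mul_eq_one_right f2
  have fX := (syl h).le fT
  obtain ⟨⟨k, hk, kV, e1⟩, e2⟩ := ok.hil m hm (fun u => c.inj (by
      rw [← a _ trivial, ← a _ trivial]
      calc f * (f * ι u * f⁻¹) * f⁻¹ = (f * f) * ι u * (f * f)⁻¹ := by group
        _ = _ := by rw [f2]; group))
    (fun u hu => mV.1 (a u trivial ▸ conj_mem_of_norm fT.2 (mV.2 hu))) (fun e => fB (h.bd.V_le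
      (h.cent ⟨fX, mem_cent.2 fun v hv => by
        obtain ⟨u, -, rfl⟩ := exV v hv
        have := a u trivial
        rw [e, id, mul_inv_eq_iff_eq_mul] at this
        exact this.symm⟩)))
  obtain ⟨y, hy, ay⟩ := c.tor k hk
  have yV : y ∈ 𝐍[V] := mem_norm_of_cj_le (cj_le_iff.2 fun v hv => by
    obtain ⟨u, hu, rfl⟩ := exV v hv
    rw [ay u trivial]
    exact mV.2 (kV u hu))
  obtain ⟨y', hy', e3⟩ := h.amb.switch (V_ne h) h.fn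
    (h.amb.iso (B_ne h) (fnB h) hy (le_inf h.bd.le le_normalizer) (nB h hy)).mor h.bd.V_le
    h.bd.norm_V yV
  obtain ⟨l, hl, al⟩ := c.nu
  have nu : ∀ u ∈ 𝔐.V, ι (𝔐.ν u) ∈ V := fun u hu => al u hu ▸ conj_mem_of_norm (nV h hl) (mV.2 hu)
  have act : ∀ u ∈ 𝔐.V, y' * l * ι u * (y' * l)⁻¹ = ι (k (𝔐.ν u)) := fun u hu => by
    rw [← ay _ trivial, e3 _ (h.bd.V_le (nu u hu)), ← al u hu]; group
  have lX := mul_mem hy' hl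
  have mem : ∀ u ∈ 𝔐.V, m u ∈ 𝔐.V := fun u hu =>
    mV.1 (a u trivial ▸ conj_mem_of_norm fT.2 (mV.2 hu))
  have zz : ∀ z ∈ 𝐙[B], y' * l * z * (y' * l)⁻¹ ∈ 𝐙[B] → z ∈ 𝐙[L] := fun z hz e => by
    obtain ⟨u, hu, rfl⟩ := exV z (h.bk.Z_le hz)
    rw [act u hu, ← ay _ trivial] at e
    have := conj_mem_of_norm' (h.bd.norm_Z (nB h hy)) e
    rw [show y⁻¹ * (y * ι (𝔐.ν u) * y⁻¹) * y = ι (𝔐.ν u) by group] at this
    rw [← c.eD]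
    exact mem_map_of_mem _ (ok.nu u (mZ.1 hz) (mZ.1 this))
  generalize y' * l = n at act lX zz
  have v1 : (f * n)⁻¹ * (n * f) ∈ V := h.cent (mem_inf.2 ⟨mul_mem (inv_mem (mul_mem fX lX))
    (mul_mem lX fX), mem_cent.2 fun v hv => by
      obtain ⟨u, hu, rfl⟩ := exV v hv
      have e4 : f * (n * ι u * n⁻¹) * f⁻¹ = n * (f * ι u * f⁻¹) * n⁻¹ := by
        rw [act u hu, a _ trivial, a _ trivial, act _ (mem u hu), e1 u hu]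
      calc ι u * ((f * n)⁻¹ * (n * f)) = (f * n)⁻¹ * (f * (n * ι u * n⁻¹) * f⁻¹) * (n * f) := by
            group
        _ = _ := by rw [e4]; group⟩)
  obtain ⟨u, hu, e5⟩ := exV _ v1
  obtain ⟨x, hx, e6⟩ := e2 u hu (c.inj (by
    rw [← a _ trivial]
    refine Eq.trans ?_ (h.bd.eaV.inv_eq (mV.2 hu))
    rw [e5]
    calc f * ((f * n)⁻¹ * (n * f)) * f⁻¹ = f * n⁻¹ * f⁻¹ * n := by group
      _ = f⁻¹ * n⁻¹ * f * n := by rw [fi]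
      _ = _ := by group))
  have e7 : n⁻¹ * f * n = (ι x)⁻¹ * f * ι x := by
    have := congrArg ι e6
    rw [e5, map_mul, map_inv, ← a _ trivial, mul_inv_rev, fi] at this
    calc n⁻¹ * f * n = n⁻¹ * f * (n * f) * f⁻¹ := by group
      _ = _ := by rw [this, fi, mul_assoc, mul_assoc (f * ι x), f2]; group
  have xV := mV.2 hx
  refine ⟨n * (ι x)⁻¹, mul_mem lX (inv_mem (BX h (h.bd.V_le xV))), ?_, fun z hz e => zz z hz ?_⟩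
  · calc n * (ι x)⁻¹ * f = n * ((ι x)⁻¹ * f * ι x) * (ι x)⁻¹ := by group
      _ = _ := by rw [← e7]; group
  · rwa [show n * (ι x)⁻¹ * z * (n * (ι x)⁻¹)⁻¹ = n * ((ι x)⁻¹ * (z * ι x)) * n⁻¹ by group,
      h.bd.mul_Z hz (h.bd.V_le xV), inv_mul_cancel_left] at e

end TB

open Nrm TB

theorem Op.tB (h : Op S F X L V B M t ρ φ) (_hD : 𝐙[L] = ⊥ ∨ 𝐙[L] ⊔ cj(t, 𝐙[L]) = 𝐙[B])
    (c : Mn 𝔐 ι B V cj(t, V) 𝐙[B] 𝐙[L] (X B) (X V)) (ok : 𝔐.OK) {N : Subgroup G} (_le : N ≤ X B)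
    (dec : ∀ y ∈ X B, ∃ u, ι u * y ∈ N) (inf : N ⊓ B = ⊥)
    (mon : ∀ n ∈ N, ∃ m, 𝔐.Mon m ∧ Acts ι ⊤ n m) : S ⊓ 𝐍[V] ≤ B := by
  intro s hs
  by_contra sB
  have iB : ∀ u, ι u ∈ B := fun u => c.eB ▸ ⟨u, rfl⟩
  obtain ⟨u, hu⟩ := dec s ((sylB h).le hs.1)
  have nT : ι u * s ∈ S ⊓ 𝐍[V] := mul_mem (BT h (iB u)) hs
  obtain ⟨f, hf, f1, f2⟩ := exists_inv nT.1 h.amb.pg fun e =>
    sB ((mul_mem_cancel_left (iB u)).1 (e ▸ one_mem _))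
  have fN := zpowers_le.2 hu hf
  have fT := zpowers_le.2 nT hf
  have kk : ∀ g ∈ N, g ∈ S ⊓ 𝐍[V] → g ≠ 1 → g * g = 1 →
      ∃ l ∈ X V, l * g = g * l ∧ ∀ z ∈ 𝐙[B], l * z * l⁻¹ ∈ 𝐙[B] → z ∈ 𝐙[L] :=
    fun g hg gT g1 g2 =>
      let ⟨_, hm, a⟩ := mon g hg
      key h c ok hm a gT (fun e => g1 (mem_bot.1 (inf.le ⟨hg, e⟩))) g2
  have mm : ∀ g, ∀ l ∈ X V, g ∈ S ⊓ 𝐍[V] → l * g = g * l →
      F.Mor (V ⊔ zpowers g) fun x => l * x * l⁻¹ := fun g l hl gT e =>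
    (h.amb.iso (V_ne h) h.fn hl (sup_le (h.bd.V_le.trans (BT h)) (zpowers_le.2 gT))
      (norm_sup (X := zpowers l) (zpowers_le.2 (nV h hl))
        (zpowers_le.2 (cent_le_norm _ (cent_zpowers.2 e.symm))) (mem_zpowers l))).mor
  obtain ⟨u', hn⟩ := dec t ((sylB h).le h.tS)
  have nS : ι u' * t ∈ S := mul_mem (h.bd.le (iB u')) h.tS
  have nV' : ι u' * t ∉ 𝐍[V] := fun e => h.tV ((mul_mem_cancel_left (h.bd.norm_V (iB u'))).1 e)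
  have nD : cj(ι u' * t, 𝐙[L]) = cj(t, 𝐙[L]) := by
    rw [← cj_cj, cj_of_cent (cent_anti h.bd'.leD (h.bd.cent_Z (iB u')))]
  generalize ι u' * t = n at hn nS nV' nD
  have nBn := h.bd.norm nS
  have nZ := h.bd.norm_Z nBn
  have sw := h.bd.swap nBn nV'
  have fW := h.bd.S_norm_W fT
  have gT : n⁻¹ * f * n ∈ S ⊓ 𝐍[V] := mem_inf.2 ⟨mul_mem (mul_mem (inv_mem nS) fT.1) nS, by
    rw [← mem_cj, cj_norm, sw.1]; exact fW⟩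
  obtain ⟨l, hl, e1, z1⟩ := kk f fN fT f1 f2
  obtain ⟨k, hk, e2, z2⟩ := kk _ (mul_mem (mul_mem (inv_mem hn) fN) hn) gT
    (fun e => f1 (by
      calc f = n * (n⁻¹ * f * n) * n⁻¹ := by group
        _ = 1 := by rw [e]; group))
    (by
      calc n⁻¹ * f * n * (n⁻¹ * f * n) = n⁻¹ * (f * f) * n := by group
        _ = 1 := by rw [f2]; group)
  have ZS : 𝐙[B] ≤ S := inf_le_left.trans h.bd.le
  obtain ⟨A, A', pA, ⟨z, zA, hz, d1, d2⟩, a1, a2, -, sc⟩ := h.amb.sol (zpowers f)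
    (zpowers_le.2 fT.1) (zpowers_ne_bot.2 f1)
    (fun A => ∃ z ∈ A, z ∈ 𝐙[B] ∧ z ∉ 𝐙[L] ∧ z ∉ cj(t, 𝐙[L]))
    (fun ⟨z, hz, _, e, _⟩ => e (mem_bot.1 hz ▸ one_mem _)) (by
      by_cases h0 : 𝐙[L] = ⊥
      · obtain ⟨z, hz, z1, e⟩ := fix h.amb.pg ZS h.bd.Z_ne_bot fT.1 (h.bd.T_norm_Z fT.1)
        rw [h0, cj_bot]
        exact ⟨z, ⟨ZS hz, cent_le_norm _ (cent_zpowers.2 e)⟩, hz, z1, z1⟩
      · obtain ⟨d, hd, d1, e⟩ := fix h.amb.pg (h.bd.leD.trans ZS) h0 fT.1 (h.bd.nD fT)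
        obtain ⟨d', hd', d1', e'⟩ := fix h.amb.pg (h.bd'.leD.trans ZS) (mt cj_eq_bot.1 h0) fT.1
          (h.bd'.nD ⟨fT.1, fW⟩)
        have hz := mul_mem (h.bd.leD hd) (h.bd'.leD hd')
        exact ⟨d * d', ⟨ZS hz, cent_le_norm _ (mul_mem (cent_zpowers.2 e) (cent_zpowers.2 e'))⟩, hz,
          fun e => d1' (mem_bot.1 (h.zz.le ⟨(mul_mem_cancel_left hd).1 e, hd'⟩)),
          fun e => d1 (mem_bot.1 (h.zz.le ⟨hd, (mul_mem_cancel_right hd').1 e⟩))⟩)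
  have hz' := conj_mem_of_norm' nZ hz
  have v1 := step sc (mm f l hl fT e1) (mem_sup_right (mem_zpowers f))
    (mem_sup_left (h.bk.Z_le hz)) zA (a1 zA).2 e1
  have w1 := step sc (mor_cj nS (cj_le_of_mem (sup_le (h.bd.V_le.trans h.bd.le)
    (zpowers_le.2 gT.1)) nS) (mm _ k hk gT e2)) (mem_cj.2 (mem_sup_right (mem_zpowers _)))
    (mem_cj.2 (mem_sup_left (h.bk.Z_le hz'))) zA (a1 zA).2 (by
      calc n * k * n⁻¹ * f = n * (k * (n⁻¹ * f * n)) * n⁻¹ := by group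
        _ = _ := by rw [e2]; group)
  have v2 := conj_mem_of_norm (nV h hl) (h.bk.Z_le hz)
  have v3 : l * z * l⁻¹ ∉ 𝐙[B] := fun e => d1 (z1 z hz e)
  have e3 : n * k * n⁻¹ * z * (n * k * n⁻¹)⁻¹ = n * (k * (n⁻¹ * z * n) * k⁻¹) * n⁻¹ := by group
  have w2 : n * k * n⁻¹ * z * (n * k * n⁻¹)⁻¹ ∈ cj(t, V) := by
    rw [e3, ← sw.1]
    exact conj_mem_cj (conj_mem_of_norm (nV h hk) (h.bk.Z_le hz'))
  have w3 : n * k * n⁻¹ * z * (n * k * n⁻¹)⁻¹ ∉ 𝐙[B] := fun e => d2 (by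
    rw [← nD, mem_cj]
    refine z2 _ hz' ?_
    have := conj_mem_of_norm' nZ e
    rwa [e3, show n⁻¹ * (n * (k * (n⁻¹ * z * n) * k⁻¹) * n⁻¹) * n = k * (n⁻¹ * z * n) * k⁻¹ by
      group] at this)
  exact pA ⟨_, a2 (commutator_mem_commutator v1 w1), h.bd.comm (commutator_mem_commutator v2 w2),
    fun e => (h.bd.nzd _ v2 _ w2 e).elim v3 w3,
    fun e => (h.bd'.nzd _ w2 _ v2 (comm_swap.1 e)).elim w3 v3⟩

end Cfsg.Agent.MF
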