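import Mathlib
import Cfsg.Agent.MF.Defs
import Cfsg.Agent.MF.Cpl
import Cfsg.Agent.MF.TB

set_option autoImplicit false
set_option linter.unusedSectionVars false

namespace Cfsg.Agent.MF

open Cfsg Cfsg.Agent.GT Cfsg.Agent.Loc.Mss Cfsg.Agent.Loc.PU Cfsg.Agent.Loc.Blk Cfsg.Agent.Loc.GC
  Cfsg.Agent.Fus Cfsg.Agent.Fus.SU Cfsg.FusionSystem Subgroup
open scoped commutatorElement MatrixGroups

variable {G : Type*} [Group G] [Finite G] {S : Subgroup G} {F : FusionSystem S}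
  {X : Subgroup G → Subgroup G}
  {L V B M : Subgroup G} {t : G} {K : Type} [Field K] {ρ : G → SL(2, K)} {φ : G → Fin 2 → K}

variable {U : Type} [Group U] {𝔐 : Md U} {ι : U →* G}

namespace Asm

open Nrm TB

theorem cen (h : Op S F X L V B M t ρ φ) : X B ⊓ 𝐂[B] ≤ B :=
  cent_le_of_chp (h.amb.chp B (B_ne h) (fnB h)) (sylB h) (nB h) fun _ hs =>
    have e := cent_anti h.bd.V_le hs.2
    h.bd.V_le (h.cent ⟨(syl h).le ⟨hs.1, cent_le_norm _ e⟩, e⟩)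

theorem src_of (h : Op S F X L V B M t ρ φ) (hX : X V ≤ 𝐍[L])
    (c : Mn 𝔐 ι B V cj(t, V) 𝐙[B] 𝐙[L] (X B) (X V)) (hq : 𝔐.q = Nat.card K)
    (hT : S ⊓ 𝐍[V] ≤ B) {N : Subgroup G} (le : N ≤ X B) (dec : ∀ y ∈ X B, ∃ u, ι u * y ∈ N)
    (inf : N ⊓ B = ⊥) (mon : ∀ n ∈ N, ∃ m, 𝔐.Mon m ∧ Acts ι ⊤ n m)
    (tor : ∀ m, 𝔐.Tor m → ∃ n ∈ N, Acts ι ⊤ n m) (mv : ∃ u ∈ 𝔐.Z, 𝔐.ν u ∉ 𝔐.Z) :
    Src 𝔐 ι S F (X B) N := by
  have iso : ∀ l ∈ X V, F.Iso V V fun x => l * x * l⁻¹ := fun l hl =>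
    h.amb.iso (V_ne h) h.fn hl (h.bd.V_le.trans (BT h)) (nV h hl)
  refine ⟨h.amb.sat, c.inj, ?_, sylB h, ?_, fun y hy P hP =>
    h.amb.mor B (B_ne h) (fnB h) y hy P (le_inf hP (hP.trans h.bd.norm)), ?_, le, dec, ?_, ?_, mon,
    tor, ?_, mv, ?_, ?_⟩
  · rw [c.eB, c.eV, c.eW, c.eZ, c.eD, hq]
    exact ⟨h.bd, hT, fun e => h.tV (e h.tS), h.ea⟩
  · rw [c.eB]; exact nB h
  · rw [c.eB]
    exact fun P f hf h1 => h.amb.ind B (B_ne h) (fnB h) P f hf h1 (hf.le.trans h.bd.norm)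
  · rw [c.eB, inf]
  · rw [c.eB, eq_bot_iff, ← inf]
    exact le_inf inf_le_left ((inf_le_inf_right _ le).trans (cen h))
  · obtain ⟨l, hl, a⟩ := c.nu
    rw [c.eV]
    exact ⟨_, iso l hl, a⟩
  · rw [c.eV, c.eD]
    intro f hf d hd
    obtain ⟨x, hx, e⟩ := h.amb.ind V (V_ne h) h.fn V f hf.mor le_rfl le_normalizer hf.maps
    rw [e d (h.bk.Z_le (h.bd.leD hd))]
    exact conj_mem_of_norm (norm_Z hX hx) hd
  · rw [c.eV, c.eZ]
    intro v hv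
    obtain ⟨e, he, e1⟩ := h.bk.exists_conj hv
    exact ⟨_, iso e (h.leX (h.bk.E_le he)), e1⟩

theorem eq_sup {W Z D : Subgroup G} {q : ℕ} (b : BD S B V W Z D q) (hT : S ⊓ 𝐍[V] ≤ B) {s : G}
    (hs : s ∈ S) (hV : s ∉ 𝐍[V]) : S = B ⊔ zpowers s :=
  le_antisymm (fun x hx => by
    by_cases e : x ∈ 𝐍[V]
    · exact mem_sup_left (hT ⟨hx, e⟩)
    · exact (mul_mem_cancel_right (mem_sup_right (mem_zpowers s))).1 (mem_sup_left
        (hT ⟨mul_mem hx hs, b.mul_mem_norm (b.norm hx) (b.norm hs) e hV⟩)))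
    (sup_le b.le (zpowers_le.2 hs))

theorem mem_two {s x : G} (h : s * s = 1) (hx : x ∈ zpowers s) : x = 1 ∨ x = s := by
  obtain ⟨k, rfl⟩ := mem_zpowers_iff.1 hx
  have h2 : s ^ (2 : ℤ) = 1 := by rw [zpow_two, h]
  rcases Int.even_or_odd' k with ⟨r, rfl | rfl⟩
  · exact .inl (by rw [zpow_mul, h2, one_zpow])
  · exact .inr (by rw [zpow_add, zpow_mul, h2, one_zpow, one_mul, zpow_one])

theorem zero_one (hq : Nat.card K = 2) (x : K) : x = 0 ∨ x = 1 := by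
  obtain ⟨y, -, hy⟩ := (Nat.card_eq_two_iff' (0 : K)).1 hq
  exact or_iff_not_imp_left.2 fun e => (hy x e).trans (hy 1 one_ne_zero).symm

theorem mon_id (hq : Nat.card K = 2) {a b : K} (ha : a ≠ 0) (hb : b ≠ 0) (σ : K ≃+* K) :
    mon4 a b σ = id := by
  have e : ∀ x, σ x = x := fun x => by rcases zero_one hq x with rfl | rfl <;> simp
  rw [(zero_one hq a).resolve_left ha, (zero_one hq b).resolve_left hb]
  funext u
  ext <;> simp [mon4, e]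

end Asm

open Nrm TB Asm

theorem Op.src (h : Op S F X L V B M t ρ φ) (hX : X V ≤ 𝐍[L])
    (hD : 𝐙[L] = ⊥ ∨ 𝐙[L] ⊔ cj(t, 𝐙[L]) = 𝐙[B])
    (c : Mn 𝔐 ι B V cj(t, V) 𝐙[B] 𝐙[L] (X B) (X V)) (ok : 𝔐.OK) (hq : 𝔐.q = Nat.card K) :
    ∃ N, Src 𝔐 ι S F (X B) N := by
  obtain ⟨N, le, dec, inf, mon, tor⟩ := c.exists_cpl ok h.bk.pg (h.bd.le.trans (sylB h).le)
    inf_le_right (le_inf (cen h) inf_le_right)
  refine ⟨N, src_of h hX c hq (h.tB hD c ok le dec inf mon) le dec inf mon tor ?_⟩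
  obtain ⟨z, hz, hz'⟩ := SetLike.not_le_iff_exists.1 h.bd.not_Z_le
  rw [← c.eZ] at hz
  obtain ⟨u, hu, rfl⟩ := hz
  exact ⟨u, hu, fun e => hz' (c.eD ▸ mem_map_of_mem _ (ok.nu u hu e))⟩

theorem Op.src2 (h : Op S F X L V B M t ρ φ) (hX : X V ≤ 𝐍[L]) {ι : U4 K →* G}
    (c : Mn (M4 K) ι B V cj(t, V) 𝐙[B] 𝐙[L] (X B) (X V)) (hq : Nat.card K = 2) :
    ∃ s, Src (M4 K) ι S F (X B) (zpowers s) ∧ Sw ι S s swp4 := by
  have hT : S ⊓ 𝐍[V] ≤ B := fun s hs => by_contra fun e => by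
    have := h.bd.four_le hs e
    omega
  have iB : ∀ u, ι u ∈ B := fun u => c.eB ▸ ⟨u, rfl⟩
  have exB : ∀ b ∈ B, ∃ u, ι u = b := fun b hb => by rwa [← c.eB] at hb
  have BY := h.bd.le.trans (sylB h).le
  have h2 : (1 : K) + 1 = 0 := (zero_one hq _).resolve_right fun e => by simp at e
  have sq : ∀ x : K, x ^ 2 = x := fun x => by rcases zero_one hq x with rfl | rfl <;> simp
  have dd : ∀ x : K, x + x = 0 := fun x => by linear_combination x * h2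
  have h3 : (2 : K) = 0 := by linear_combination h2
  have two : ∀ y ∈ X B, ∃ u, Acts ι ⊤ (ι u * y) id ∨ Acts ι ⊤ (ι u * y) swp4 := fun y hy => by
    obtain ⟨u, m, ⟨a, b, σ, ha, hb, e⟩, am⟩ := c.mon y hy
    rw [mon_id hq ha hb] at e
    rcases e with rfl | rfl
    exacts [⟨u, .inl am⟩, ⟨u, .inr am⟩]
  have cc : ∀ {g g' m}, g ∈ X B → g' ∈ X B → Acts ι ⊤ g m → Acts ι ⊤ g' m → g⁻¹ * g' ∈ 𝐙[B] :=
    fun hg hg' a a' =>
      have e := c.eB ▸ a.cent a'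
      ⟨cen h (mem_inf.2 ⟨mul_mem (inv_mem hg) hg', e⟩), e⟩
  obtain ⟨u, a0⟩ := two t ((sylB h).le h.tS)
  have sS : ι u * t ∈ S := mul_mem (h.bd.le (iB u)) h.tS
  have sV : ι u * t ∉ 𝐍[V] := fun e => h.tV ((mul_mem_cancel_left (h.bd.norm_V (iB u))).1 e)
  generalize ι u * t = s at a0 sS sV
  have sY := (sylB h).le sS
  replace a0 := a0.resolve_left fun a => sV (h.bd.norm_V (by
    simpa using (cc (one_mem _) sY Acts.one a).1))
  have a1 : s * s ∈ 𝐙[B] := by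
    simpa using cc (one_mem _) (mul_mem sY sY) Acts.one ((a0.mul a0).congr fun x _ => by
      ext <;> simp only [Function.comp_apply, swp4, sq, id]
      · linear_combination dd (x.t * x.a)
      · linear_combination dd (x.t * x.a))
  rw [← c.eZ] at a1
  obtain ⟨z, ⟨za, zt⟩, ez⟩ := a1
  replace za : z.a = 0 := za
  replace zt : z.t = 0 := zt
  have e1 : swp4 z = z := c.inj (by rw [← a0 z trivial, ez]; group)
  have e2 : z.c = z.b := by simpa [swp4, zt] using congrArg U4.b e1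
  set w : U4 K := ⟨0, 0, z.b, 0⟩ with hw
  have s2 : ι w * s * (ι w * s) = 1 := by
    calc ι w * s * (ι w * s) = ι w * (s * ι w * s⁻¹) * (s * s) := by group
      _ = ι (w * swp4 w * z) := by rw [a0 w trivial, ← ez, map_mul, map_mul]
      _ = 1 := by
        rw [← map_one ι]
        congr 1
        ext <;> simp [hw, swp4, za, zt, e2, sq, dd]
  have a2 : Acts ι ⊤ (ι w * s) swp4 := ((Acts.inner w).mul a0).congr fun x _ => by
    ext <;> simp [hw, h3]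
  have rS : ι w * s ∈ S := mul_mem (h.bd.le (iB w)) sS
  have rV : ι w * s ∉ 𝐍[V] := fun e => sV ((mul_mem_cancel_left (h.bd.norm_V (iB w))).1 e)
  generalize ι w * s = r at s2 a2 rS rV
  have rY := (sylB h).le rS
  have m1 : mon4 (1 : K) 1 (RingEquiv.refl K) = id := mon_id hq one_ne_zero one_ne_zero _
  refine ⟨r, src_of h hX c rfl hT (zpowers_le.2 rY) (fun y hy => ?_) ?_ (fun n hn => ?_)
    (fun m ⟨a, b, ha, hb, e⟩ => ⟨1, one_mem _, by rw [e, mon_id hq ha hb]; exact Acts.one⟩)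
    ⟨⟨0, 0, 1, 0⟩, ⟨rfl, rfl⟩, fun e => one_ne_zero (e.2 : (1 : K) = 0)⟩,
    c.inj, s2, a2, c.eB ▸ eq_sup h.bd hT rS rV⟩
  · obtain ⟨x, a | a⟩ := two y hy
    · obtain ⟨x', e⟩ := exB _ (cc (one_mem _) (mul_mem (BY (iB x)) hy) Acts.one a).1
      refine ⟨x'⁻¹ * x, ?_⟩
      rw [map_mul, map_inv, e, inv_one, one_mul, mul_assoc, inv_mul_cancel]
      exact one_mem _
    · obtain ⟨x', e⟩ := exB _ (conj_mem_of_norm (h.bd.norm rS)
        (cc rY (mul_mem (BY (iB x)) hy) a2 a).1)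
      refine ⟨x'⁻¹ * x, ?_⟩
      rw [map_mul, map_inv, e, show (r * (r⁻¹ * (ι x * y)) * r⁻¹)⁻¹ * ι x * y = r by group]
      exact mem_zpowers r
  · exact eq_bot_iff.2 fun x hx => (mem_two s2 hx.1).elim mem_bot.2 fun e =>
      absurd (h.bd.norm_V (e ▸ hx.2)) rV
  · rcases mem_two s2 hn with rfl | rfl
    · exact ⟨id, ⟨1, 1, _, one_ne_zero, one_ne_zero, .inl m1.symm⟩, Acts.one⟩
    · exact ⟨swp4, ⟨1, 1, _, one_ne_zero, one_ne_zero, .inr (by rw [m1]; rfl)⟩, a2⟩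

theorem Src.exists_sw {Y N : Subgroup G} (h : Src 𝔐 ι S F Y N) :
    ∃ s ∈ N, ∃ m, 𝔐.Mon m ∧ Sw ι S s m ∧ (∀ u, m (m u) = u) ∧ ¬ ∀ u ∈ 𝔐.V, m u ∈ 𝔐.V := by
  have b := h.sq.bd
  obtain ⟨s, hs, sV⟩ := SetLike.not_le_iff_exists.1 h.sq.sw
  obtain ⟨u, hn⟩ := h.dec s (h.syl.le hs)
  have nS : ι u * s ∈ S := mul_mem (b.le ⟨u, rfl⟩) hs
  have nV : ι u * s ∉ 𝐍[𝔐.V.map ι] := fun e =>
    sV ((mul_mem_cancel_left (b.norm_V ⟨u, rfl⟩)).1 e)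
  generalize ι u * s = n at hn nS nV
  have n2 : n * n = 1 := mem_bot.1 (h.inf.le ⟨mul_mem hn hn,
    h.sq.tB ⟨mul_mem nS nS, b.mul_mem_norm (b.norm nS) (b.norm nS) nV nV⟩⟩)
  obtain ⟨m, hm, a⟩ := h.mon n hn
  refine ⟨n, hn, m, hm, ⟨h.inj, n2, a, eq_sup b h.sq.tB nS nV⟩, fun x => h.inj ?_,
    fun e => nV (mem_norm_of_cj_le (cj_le_iff.2 ?_))⟩
  · rw [← a _ trivial, ← a _ trivial]
    calc n * (n * ι x * n⁻¹) * n⁻¹ = (n * n) * ι x * (n * n)⁻¹ := by group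
      _ = _ := by rw [n2]; group
  · rintro _ ⟨x, hx, rfl⟩
    rw [a x trivial]
    exact mem_map_of_mem _ (e x hx)

end Cfsg.Agent.MF
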