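import Mathlib
import Cfsg.Agent.MF.Base

set_option autoImplicit false
set_option linter.unusedSectionVars false

namespace Cfsg.Agent.MF

open Cfsg Cfsg.Agent.GT Cfsg.Agent.Loc.Mss Cfsg.Agent.Loc.PU Cfsg.Agent.Loc.Blk Cfsg.Agent.Loc.GC
  Cfsg.Agent.Fus Cfsg.Agent.Fus.SU Cfsg.FusionSystem Subgroup
open scoped commutatorElement MatrixGroups

variable {G : Type*} [Group G] [Finite G] {S : Subgroup G} {F : FusionSystem S}
  {X : Subgroup G → Subgroup G}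

namespace BadA

variable {N : FusionSystem S} {P R U : Subgroup G} {f g k : G → G}

theorem back (hg : N.Mor R g) (hP : P ≤ R) (hf : ∀ x ∈ P, f x ∈ R) (hk : N.Mor (img g P) k)
    (e : ∀ x ∈ P, k (g x) = g (f x)) : N.Mor P f := by
  obtain ⟨g', hg', l, -⟩ := hg.inv
  exact (hg'.mor.comp (hk.comp (hg.mono hP) fun x hx => mem_img_of_mem hx) fun x hx =>
    e x hx ▸ mem_img_of_mem (hf x hx)).congr fun x hx => by rw [e x hx, l _ (hf x hx)]

theorem fwd (hg : F.Mor R g) (hP : P ≤ R) (hf : F.Iso P P f) :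
    ∃ k, F.Iso (img g P) (img g P) k ∧ ∀ x ∈ P, k (g x) = g (f x) := by
  obtain ⟨g', hg', l, -⟩ := (hg.iso_img_of_le hP).inv
  exact ⟨_, (hg.iso_img_of_le hP).comp (hf.comp hg'), fun x hx => by rw [l x hx]⟩

/-- The largest normal `2`-subgroup of a model is centric. -/
theorem centric_core (h : Amb S F X) (h0 : U ≠ ⊥) (hU : F.IsFullyNormalized U) :
    U ≤ 𝐎[2, X U] ∧ 𝐎[2, X U] ≤ S ⊓ 𝐍[U] ∧ F.IsCentric 𝐎[2, X U] := by
  have sy := h.syl U h0 hU
  have l1 : U ≤ 𝐎[2, X U] :=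
    le_pCoreOf ((le_inf hU.le le_normalizer).trans sy.le) (h.nrm U h0 hU) (h.pg.to_le hU.le)
  have l2 := sy.core_le
  refine ⟨l1, l2, l2.trans inf_le_left, fun R hR s hs => ?_⟩
  obtain ⟨φ, hφ⟩ := hR.exists_iso
  obtain ⟨ψ, hψ, e⟩ := h.sat.exists_mor_normalizerIn' h.pg hU (hφ.mor.iso_img_of_le l1).isConj.symm
  have l3 : R ≤ normalizerIn S (img φ U) := fun y hy => by
    obtain ⟨x, hx, rfl⟩ := hφ.surj y hy
    exact hφ.mor.maps_normalizerIn l1 hx (l2 hx)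
  have l4 : img φ U ≤ R := img_le_iff.2 fun x hx => hφ.maps x (l1 hx)
  obtain ⟨w, hw, ew⟩ := h.ind U h0 hU _ _ (hψ.comp hφ.mor fun x hx => l3 (hφ.maps x hx)) l1 (l2.trans inf_le_right)
    fun y hy => e ▸ mem_img_of_mem (mem_img_of_mem hy)
  have e2 : img ψ R = 𝐎[2, X U] := by
    rw [← hφ.img_eq, ← hφ.mor.mulOn.img_comp, img_congr ew, img_conj]
    exact cj_of_norm (le_norm_core _ hw)
  have s1 : s ∈ normalizerIn S (img φ U) := ⟨hs.1, centralizer_le_normalizer _ (cent_anti l4 hs.2)⟩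
  have s2 := hψ.maps_centralizerIn l3 s1 hs
  rw [e2] at s2
  refine (hψ.mem_img_iff l3 s1).1 (e2 ▸ h.chp U h0 hU ⟨sy.le ⟨s2.1, ?_⟩, s2.2⟩)
  exact centralizer_le_normalizer _ (cent_anti l1 s2.2)

variable (h : Amb S F X) (hN : Hyp F N) {n : ℕ}
  (mx : ∀ R, F.IsCentric R → F.IsFullyNormalized R → n < Nat.card ↥(S ⊓ 𝐍[R]) → ∀ f, F.Iso R R f → N.Mor R f)
  (hS : S ≠ ⊥)
include h hN mx hS

theorem big (hn : n ≤ Nat.card P) (hf : F.Mor P f) : N.Mor P f := by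
  refine h.sat.alperin_induction h.pg (M := fun f => N.Mor P f) (N.mor_id hf.le) (fun a e => a.congr e)
    (fun {f R g} h1 h2 hR hg m => Mor.comp ?_ h2 m) hf
  rcases hR with rfl | hR
  · exact hN.par _ le_rfl hS (fun _ k => k.maps) _ _ hg.mor le_rfl hg.maps
  · refine mx R hR.isCentric hR.isFullyNormalized (hn.trans_lt ((h1.card_le m).trans_lt ?_)) g hg
    obtain ⟨s, hs, sR⟩ := hR.exists_notMem h.sat h.pg
    exact clt (le_inf hR.le le_normalizer) fun e => sR (e hs)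

theorem cen (hR : F.IsCentric R) (hn : n < Nat.card ↥(S ⊓ 𝐍[R])) (hf : F.Iso R R f) : N.Mor R f := by
  obtain ⟨g, hg, fn⟩ := h.sat.exists_mor_fullyNormalized h.pg hR.le
  have l : R ≤ normalizerIn S R := le_inf hR.le le_normalizer
  obtain ⟨k, hk, e⟩ := fwd hg l hf
  exact back (big h hN mx hS hn.le hg) l (fun x hx => l (hf.maps x hx))
    (mx _ (hR.img hg l) fn (hn.trans_le (fn.2 R (hg.mono l).isConj_img.symm)) k hk) e

theorem fn_big (h0 : U ≠ ⊥) (hU : F.IsFullyNormalized U) (hn : n < Nat.card ↥(S ⊓ 𝐍[U])) (l1 : U ≤ P)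
    (l2 : P ≤ 𝐍[U]) (hk : F.Iso P P k) (m : ∀ y ∈ U, k y ∈ U) : N.Mor P k := by
  obtain ⟨y, hy, ey⟩ := h.ind U h0 hU P k hk.mor l1 l2 m
  obtain ⟨q1, q2, q3⟩ := centric_core h h0 hU
  have sy := h.syl U h0 hU
  have nq : S ⊓ 𝐍[U] ≤ S ⊓ 𝐍[𝐎[2, X U]] := le_inf inf_le_left (sy.le.trans (le_norm_core _))
  have i := h.iso h0 hU hy q2 (le_norm_core _ hy)
  have i' := cen h hN mx hS q3 (hn.trans_le (card_le_of_le nq)) i
  have rc := hN.sat.receptive h.pg (q3.of_subsystem (E := N) hN.le).isFullyCentralized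
  obtain ⟨β, hβ, eβ⟩ := rc.extend (i'.iso_self i.maps)
  have l3 : 𝐎[2, X U] ⊔ P ≤ extN S 𝐎[2, X U] fun a => y * a * y⁻¹ := sup_le i'.le_extN fun s hs =>
    ⟨hk.le_left hs, (nq ⟨hk.le_left hs, l2 hs⟩).2, k s, hk.mor.mem hs, fun x _ => by rw [ey s hs]; group⟩
  obtain ⟨y', hy', e'⟩ := h.ind U h0 hU _ β (le_iff_mor.1 hN.le _ _ (hβ.mono l3)) (q1.trans le_sup_left)
    (sup_le (q2.trans inf_le_right) l2) fun a ha => by
      rw [eβ a (q1 ha)]; exact conj_mem_of_norm (h.nrm U h0 hU hy) ha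
  have hz : y'⁻¹ * y ∈ 𝐎[2, X U] := h.chp U h0 hU ⟨(X U).mul_mem ((X U).inv_mem hy') hy, mem_cent.2 fun a ha => by
    have := (eβ a ha).symm.trans (e' a (mem_sup_left ha))
    calc a * (y'⁻¹ * y) = y'⁻¹ * (y' * a * y'⁻¹) * y := by group
      _ = _ := by rw [← this]; group⟩
  have mz : ∀ s ∈ P, y'⁻¹ * y * s * (y'⁻¹ * y)⁻¹ ∈ 𝐎[2, X U] ⊔ P := fun s hs =>
    Subgroup.mul_mem _ (Subgroup.mul_mem _ (mem_sup_left hz) (mem_sup_right hs)) (Subgroup.inv_mem _ (mem_sup_left hz))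
  exact ((hβ.mono l3).comp (N.mor_conj hk.le_left (q2 hz).1) mz).congr fun s hs => by
    rw [e' _ (mz s hs), ey s hs]; group

end BadA

theorem Amb.exists_bad (h : Amb S F X) {N : FusionSystem S} (hN : Hyp F N) :
    ∃ Q M, Bad S F X Q M := by
  obtain ⟨Q, ⟨qc, qn, f, hf, nf⟩, mx⟩ := Set.exists_max_image
    {Q | F.IsCentric Q ∧ F.IsFullyNormalized Q ∧ ∃ f, F.Iso Q Q f ∧ ¬ N.Mor Q f}
    (fun Q => Nat.card ↥(S ⊓ 𝐍[Q])) (Set.toFinite _) (by
      by_contra c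
      refine hN.ne (le_antisymm' hN.le (le_iff_mor.2 fun P f hf => h.sat.mor_of_alperin h.pg (fun R g hR hg => ?_) hf))
      by_contra k
      rcases hR with rfl | hR
      · exact c ⟨_, F.isCentric_top, F.isFullyNormalized_top, g, hg, k⟩
      · exact c ⟨_, hR.isCentric, hR.isFullyNormalized, g, hg, k⟩)
  have mx' : ∀ R, F.IsCentric R → F.IsFullyNormalized R → Nat.card ↥(S ⊓ 𝐍[Q]) < Nat.card ↥(S ⊓ 𝐍[R]) →
      ∀ f, F.Iso R R f → N.Mor R f := fun R a b c f hf => by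
    by_contra k
    exact c.not_ge (mx R ⟨a, b, f, hf, k⟩)
  have q0 : Q ≠ ⊥ := fun e => nf ((N.mor_id qc.le).congr fun x hx => by
    rw [e, mem_bot] at hx
    rw [hx, hf.mor.map_one])
  have s0 : S ≠ ⊥ := fun e => q0 (le_bot_iff.1 (e ▸ qc.le))
  have nq := h.nrm Q q0 qn
  let M : Subgroup G :=
    { carrier := {x | x ∈ X Q ∧ N.Mor Q fun y => x * y * x⁻¹}
      one_mem' := ⟨one_mem _, (N.mor_id qc.le).congr fun x _ => by simp⟩
      mul_mem' := fun {a b} ha hb => ⟨mul_mem ha.1 hb.1,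
        (ha.2.comp hb.2 fun y hy => conj_mem_of_norm (nq hb.1) hy).congr fun y _ => by group⟩
      inv_mem' := fun {a} ha => ⟨(X Q).inv_mem ha.1,
        ((ha.2.iso_self fun y hy => conj_mem_of_norm (nq ha.1) hy).of_leftInv fun y _ => by group).mor⟩ }
  refine ⟨Q, M, h, qn, qc.centralizerIn_le, q0, fun c => ?_, fun U u0 uT qU hU x hx => ⟨hx.1, ?_⟩⟩
  · obtain ⟨x, hx, e⟩ := h.ind Q q0 qn Q f hf.mor le_rfl le_normalizer hf.maps
    exact nf ((c hx).2.congr fun y hy => (e y hy).symm)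
  have pT : Q ⊔ U ≤ S ⊓ 𝐍[Q] := sup_le (le_inf qc.le le_normalizer) uT
  have uS := uT.trans inf_le_left
  have i := h.iso q0 qn hx.1 pT (norm_sup (A := Q) (B := U) (X := X Q ⊓ 𝐍[U]) (inf_le_left.trans nq) inf_le_right hx)
  refine Mor.mono (P := Q ⊔ U) ?_ le_sup_left
  rcases hU with hU | hU
  · obtain ⟨g, hg, fn⟩ := h.sat.exists_mor_fullyNormalized h.pg uS
    have l : Q ⊔ U ≤ normalizerIn S U := le_inf (pT.trans inf_le_left) (sup_le qU le_normalizer)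
    have lU := le_sup_right.trans l
    obtain ⟨k, hk, e⟩ := BadA.fwd hg l i
    refine BadA.back (BadA.big h hN mx' s0 hU.le hg) l (fun y hy => l (i.maps y hy))
      (BadA.fn_big h hN mx' s0 (U := img g U) (fun c => u0 ?_) fn (hU.trans_le (fn.2 U (hg.mono lU).isConj_img.symm))
        (img_mono le_sup_right) (img_le_iff.2 fun y hy => (hg.maps_normalizerIn lU (l hy) (l hy)).2) hk fun y hy => ?_) e
    · exact card_eq_one.1 ((hg.card_img lU).symm.trans (card_eq_one.2 c))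
    · obtain ⟨y, hy', rfl⟩ := (hg.mem_img lU).1 hy
      rw [e y (mem_sup_right hy')]
      exact mem_img_of_mem (conj_mem_of_norm hx.2 hy')
  · refine hN.par U uS u0 (fun f hf y hy => ?_) _ _ i.mor le_sup_right fun y hy => conj_mem_of_norm hx.2 hy
    obtain ⟨w, hw, e⟩ := h.ind S s0 F.isFullyNormalized_top S f hf.mor le_rfl le_normalizer hf.maps
    rw [e y (uS hy)]
    exact conj_mem_of_norm (hU hw) hy

end Cfsg.Agent.MF
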