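import Mathlib
import Cfsg.Agent.MF.Base

/-! A frame of root elements for the opposite pair. -/

set_option autoImplicit false
set_option linter.unusedSectionVars false

namespace Cfsg.Agent.MF

open Cfsg Cfsg.Agent.GT Cfsg.Agent.Loc.Mss Cfsg.Agent.Loc.PU Cfsg.Agent.Loc.Blk Cfsg.Agent.Loc.GC
  Cfsg.Agent.Fus Cfsg.Agent.Fus.SU Cfsg.FusionSystem Subgroup
open scoped commutatorElement MatrixGroups

variable {G : Type*} [Group G] [Finite G] {S : Subgroup G} {F : FusionSystem S}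
  {X : Subgroup G → Subgroup G}
  {L V B M : Subgroup G} {t : G} {K : Type} [Field K] {ρ : G → SL(2, K)} {φ : G → Fin 2 → K}

/-- The elements inducing an automorphism of `B` in the system. -/
def NB (F : FusionSystem S) {B : Subgroup G} (hB : B ≤ S) : Subgroup G where
  carrier := {g | g ∈ 𝐍[B] ∧ F.Mor B fun y => g * y * g⁻¹}
  one_mem' := ⟨one_mem _, (F.mor_id hB).congr fun _ _ => by simp⟩
  mul_mem' {a b} ha hb := ⟨mul_mem ha.1 hb.1,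
    (ha.2.comp hb.2 fun _ hx => conj_mem_of_norm hb.1 hx).congr fun _ _ => by group⟩
  inv_mem' {a} ha := ⟨inv_mem ha.1,
    ((ha.2.iso_self fun _ hx => conj_mem_of_norm ha.1 hx).of_leftInv fun _ _ => by group).mor⟩

/-- `g` moves the elements `f a` to elements `f' b`. -/
def Cj (g : G) (f f' : K → G) : Prop := ∀ a, ∃ b, g * f a * g⁻¹ = f' b

theorem Cj.mul {g g' : G} {f f' f'' : K → G} (h : Cj g f' f'') (h' : Cj g' f f') :
    Cj (g * g') f f'' := fun a => by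
  obtain ⟨b, e⟩ := h' a
  obtain ⟨c, e'⟩ := h b
  exact ⟨c, by rw [← e', ← e]; group⟩

theorem Cj.fn {g : G} {f f' : K → G} (h : Cj g f f') (ha : ∀ a b, f (a + b) = f a * f b)
    (ha' : ∀ a b, f' (a + b) = f' a * f' b) (hi : ∀ a b, f a = f b → a = b)
    (hi' : ∀ a b, f' a = f' b → a = b) : ∃ α : K → K, (∀ a, g * f a * g⁻¹ = f' (α a)) ∧
      (∀ a b, α (a + b) = α a + α b) ∧ α 1 ≠ 0 := by
  choose α hα using h
  have add : ∀ a b, α (a + b) = α a + α b := fun a b => hi' _ _ (by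
    rw [ha', ← hα, ← hα, ← hα, ha]; group)
  have h0 : α 0 = 0 := by have := add 0 0; rw [add_zero] at this; exact left_eq_add.1 this
  refine ⟨α, hα, add, fun e => one_ne_zero (hi 1 0 ?_)⟩
  have := (hα 1).trans ((congrArg f' (e.trans h0.symm)).trans (hα 0).symm)
  simpa using this

theorem isotopy [Finite K] {α β γ : K → K} (ha : ∀ x y, γ (x + y) = γ x + γ y) (h1 : γ 1 ≠ 0)
    (h : ∀ x y, γ (x * y) = α x * β y) : ∃ (a b : K) (σ : K ≃+* K), a ≠ 0 ∧ b ≠ 0 ∧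
      (∀ x, α x = a * σ x) ∧ (∀ x, β x = b * σ x) ∧ ∀ x, γ x = a * b * σ x := by
  have e1 : γ 1 = α 1 * β 1 := by rw [← h, mul_one]
  have a0 : α 1 ≠ 0 := left_ne_zero_of_mul (e1 ▸ h1)
  have b0 : β 1 ≠ 0 := right_ne_zero_of_mul (e1 ▸ h1)
  have ea : ∀ x, γ x = α x * β 1 := fun x => by rw [← h, mul_one]
  have eb : ∀ x, γ x = α 1 * β x := fun x => by rw [← h, one_mul]
  have h0 : γ 0 = 0 := by have := ha 0 0; rw [add_zero] at this; exact left_eq_add.1 this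
  let s : K →+* K :=
    { toFun := fun x => γ x / γ 1, map_one' := div_self h1, map_zero' := by simp [h0]
      map_add' := fun x y => by rw [ha, add_div]
      map_mul' := fun x y => by
        rw [h, ea x, eb y, e1]; field_simp }
  refine ⟨α 1, β 1, RingEquiv.ofBijective s (Finite.injective_iff_bijective.1 s.injective), a0, b0,
    fun x => ?_, fun x => ?_, fun x => ?_⟩
  · change _ = _ * (γ x / γ 1)
    rw [ea x, e1]; field_simp
  · change _ = _ * (γ x / γ 1)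
    rw [eb x, e1]; field_simp
  · change _ = _ * (γ x / γ 1)
    rw [e1]; field_simp

theorem Acts.conj {U : Type} [Group U] [Finite U] {ι : U →* G} (hi : Function.Injective ι)
    {g g' : G} {m m' m'' : U → U} (h : Acts ι ⊤ g m) (h' : Acts ι ⊤ g' m')
    (e : ∀ u, m'' (m u) = m (m' u)) : Acts ι ⊤ (g * g' * g⁻¹) m'' := fun u _ => by
  have hm : Function.Injective m := fun a b hab => hi (by
    have := (h a (mem_top _)).trans ((congrArg ι hab).trans (h b (mem_top _)).symm)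
    simpa using this)
  obtain ⟨u, rfl⟩ := Finite.surjective_of_injective hm u
  rw [e, ← h _ (mem_top _), ← h _ (mem_top _), ← h' _ (mem_top _)]
  group

/-- The frame. -/
structure Fr (L V W B E N : Subgroup G) (ρ : G → SL(2, K)) (φ : G → Fin 2 → K) (n s : G)
    (v w z : K → G) : Prop where
  vadd : ∀ a b, v (a + b) = v a * v b
  wadd : ∀ a b, w (a + b) = w a * w b
  zadd : ∀ a b, z (a + b) = z a * z b
  vV : ∀ a, v a ∈ V
  wW : ∀ a, w a ∈ W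
  zE : ∀ a, z a ∈ E
  φv : ∀ a, φ (v a) = ![0, a]
  φz : ∀ a, φ (z a) = ![a, 0]
  ρw : ∀ a, ρ (w a) = slUp a
  zs : ∀ e ∈ E, ∃ a, z a = e
  nL : n ∈ L
  nz : ∀ a, n * z a * n⁻¹ = v a
  nv : ∀ a, n * v a * n⁻¹ = z a
  sN : s ∈ N
  sV : s ∉ 𝐍[V]
  sv : Cj s v w
  sw : Cj s w v
  dec : ∀ g ∈ N, g ∈ 𝐍[V] → ∃ b ∈ B, Cj (b * g) v v ∧ Cj (b * g) w w

namespace Op
variable (h : Op S F X L V B M t ρ φ)
include h

theorem V_ne : V ≠ ⊥ := fun e => h.bd.not_V_le (e ▸ bot_le)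
theorem B_ne : B ≠ ⊥ := fun e => h.V_ne (le_bot_iff.1 (e ▸ h.bd.V_le))
theorem fnB : F.IsFullyNormalized B := fnN h.bd.le h.bd.norm
theorem cjW : cj(t, cj(t, V)) = V := (h.bd.swap (h.bd.norm h.tS) h.tV).2
theorem kerV {g : G} (hg : g ∈ L) : ρ g = 1 ↔ g ∈ V := by rw [h.bk.ker g hg, h.eqO]

theorem S_le_NB : S ≤ NB F h.bd.le := fun _ hs => ⟨h.bd.norm hs, F.mor_conj h.bd.le hs⟩

theorem XB_le_NB : X B ≤ NB F h.bd.le := fun _ hy =>
  have hn := h.amb.nrm _ h.B_ne h.fnB hy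
  ⟨hn, (h.amb.iso h.B_ne h.fnB hy (le_inf h.bd.le le_normalizer) hn).mor⟩

theorem mem_NB {x : G} (hx : x ∈ X V) (hn : x ∈ 𝐍[B]) : x ∈ NB F h.bd.le :=
  ⟨hn, (h.amb.iso h.V_ne h.fn hx (le_inf h.bd.le h.bd.norm_V) hn).mor⟩

theorem toXB {g : G} (hg : g ∈ NB F h.bd.le) : ∃ y ∈ X B, ∀ b ∈ B, g * b * g⁻¹ = y * b * y⁻¹ :=
  h.amb.switch h.B_ne h.fnB hg.2 le_rfl le_normalizer hg.1

theorem toXV {g : G} (hg : g ∈ NB F h.bd.le) (hV : g ∈ 𝐍[V]) :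
    ∃ y ∈ X V, ∀ b ∈ B, g * b * g⁻¹ = y * b * y⁻¹ :=
  h.amb.switch h.V_ne h.fn hg.2 h.bd.V_le h.bd.norm_V hV

theorem normD (hX : X V ≤ 𝐍[L]) {g : G} (hg : g ∈ NB F h.bd.le) (hV : g ∈ 𝐍[V]) :
    g ∈ 𝐍[𝐙[L]] := by
  obtain ⟨y, hy, e⟩ := h.toXV hg hV
  refine mem_norm_of_cj_le (cj_le_iff.2 fun d hd => ?_)
  rw [e d (h.bk.ZL_le hd).1]
  exact conj_mem_of_norm (norm_Z hX hy) hd

theorem conj_t {g : G} (hg : g ∈ NB F h.bd.le) (hV : g ∈ 𝐍[V]) :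
    t⁻¹ * g * t ∈ NB F h.bd.le ∧ t⁻¹ * g * t ∈ 𝐍[V] := by
  have ht := h.S_le_NB h.tS
  refine ⟨mul_mem (mul_mem (inv_mem ht) hg) ht, ?_⟩
  have := (h.bd.norm_iff hg.1).1 hV
  rwa [← cj_norm, mem_cj] at this

theorem normD' (hX : X V ≤ 𝐍[L]) {g : G} (hg : g ∈ NB F h.bd.le) (hV : g ∈ 𝐍[V]) :
    g ∈ 𝐍[cj(t, 𝐙[L])] := by
  rw [← cj_norm, mem_cj]
  exact h.normD hX (h.conj_t hg hV).1 (h.conj_t hg hV).2

theorem mem_B {g : G} (hg : g ∈ L) {r : K} (e : ρ g = slUp r) : g ∈ B := by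
  obtain ⟨b, hb, e'⟩ := h.bk.nat.up_surj r
  have hbL := h.bk.le hb
  have : g * b⁻¹ ∈ V := (h.kerV (mul_mem hg (inv_mem hbL))).1 (by
    rw [h.bk.nat.ρ_mul _ hg _ (inv_mem hbL), h.bk.nat.toNatD.ρ_inv hbL, e, e', mul_inv_cancel])
  simpa using mul_mem (h.bd.V_le this) hb

theorem borel {k : G} (hk : k ∈ L) (e : ρ k 1 0 = 0) : k ∈ NB F h.bd.le := by
  refine h.mem_NB (h.leX hk) (mem_norm_of_cj_le (cj_le_iff.2 fun b hb => ?_))
  obtain ⟨r, er⟩ := h.bk.nat.up b hb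
  refine h.mem_B (mul_mem (mul_mem hk (h.bk.le hb)) (inv_mem hk)) (eq_slUp ?_ ?_)
  all_goals
    have hd := sl_det (ρ k)
    rw [h.bk.nat.toNatD.ρ_conj hk (h.bk.le hb), er]
    simp only [sl_mul, (sl_inv _).1, (sl_inv _).2.2.1, (up_ent r).1, (up_ent r).2.1,
      (up_ent r).2.2.1, (up_ent r).2.2.2, e] at hd ⊢
  · linear_combination hd
  · ring

theorem exists_fr (hX : X V ≤ 𝐍[L]) {E : Subgroup G} (hE : E ≤ 𝐙[B]) (hi : E ⊓ 𝐙[L] = ⊥)
    (hs : 𝐙[B] ≤ 𝐙[L] ⊔ E) (hn : ∀ g ∈ NB F h.bd.le, g ∈ 𝐍[V] → g ∈ 𝐍[E]) :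
    ∃ n s v w z, Fr L V cj(t, V) B E (NB F h.bd.le) ρ φ n s v w z := by
  have D := h.bk.nat
  have := D.toNatD.finite
  have : CharP K 2 := D.toNatD.charP h.bk.ea.pg
  have h2 : (2 : K) = 0 := CharTwo.two_eq_zero
  have hEV : E ≤ V := hE.trans h.bd.Z_le_V
  have cV : ∀ a ∈ V, ∀ b ∈ V, a * b = b * a := fun a ha b hb => mem_cent.1 (h.bk.ea.1 hb) a ha
  have uq : ∀ e ∈ E, ∀ e' ∈ E, φ e = φ e' → e = e' := fun e he e' he' x => by
    have : e * e'⁻¹ ∈ E ⊓ 𝐙[L] :=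
      mem_inf.2 ⟨mul_mem he (inv_mem he'), (D.toNatD.φ_eq_iff (hEV he) (hEV he')).1 x⟩
    rw [hi, mem_bot] at this
    exact mul_inv_eq_one.1 this
  have ez : ∀ a : K, ∃ e ∈ E, φ e = ![a, 0] := fun a => by
    obtain ⟨x, hx, e⟩ := D.φ_surj ![a, 0]
    obtain ⟨d, hd, y, hy, rfl⟩ := (mem_sup_norm (hE.trans (inf_le_left.trans (h.bk.le.trans
      (norm_Z le_normalizer))))).1 (hs ((D.memX x hx).2 (by rw [e]; rfl)))
    refine ⟨y, hy, ?_⟩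
    rwa [D.φ_mul _ (D.le hd) _ (hEV hy), D.toNatD.φ_of_mem hd, zero_add] at e
  choose z zE φz using ez
  have zadd : ∀ a b, z (a + b) = z a * z b := fun a b => uq _ (zE _) _ (mul_mem (zE _) (zE _)) (by
    rw [D.φ_mul _ (hEV (zE _)) _ (hEV (zE _)), φz, φz, φz]; simp)
  have zs : ∀ e ∈ E, ∃ a, z a = e := fun e he => ⟨φ e 0, uq _ (zE _) _ he (by
    rw [φz]; exact vec_ext rfl ((D.memX e (hEV he)).1 (hE he)).symm)⟩
  obtain ⟨n, nL, ρn⟩ := D.ρ_surj ⟨!![0, 1; 1, 0], by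
    rw [Matrix.det_fin_two_of]; linear_combination -h2⟩
  have n00 : ρ n 0 0 = 0 := by rw [ρn]; rfl
  have n01 : ρ n 0 1 = 1 := by rw [ρn]; rfl
  have n10 : ρ n 1 0 = 1 := by rw [ρn]; rfl
  have n11 : ρ n 1 1 = 0 := by rw [ρn]; rfl
  have nn : n * n ∈ V := (h.kerV (mul_mem nL nL)).1 (by
    rw [D.ρ_mul _ nL _ nL]
    refine sl_ext ?_ ?_ ?_ ?_ <;> simp [sl_mul, n00, n01, n10, n11])
  let v : K → G := fun a => n * z a * n⁻¹
  have vV : ∀ a, v a ∈ V := fun a => D.toNatD.conj_mem nL (hEV (zE a))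
  have φv : ∀ a, φ (v a) = ![0, a] := fun a => by
    rw [D.equiv _ nL _ (hEV (zE a)), φz]
    exact vec_ext (by simp [mv0, n00]) (by simp [mv1, n10])
  have vadd : ∀ a b, v (a + b) = v a * v b := fun a b => by simp only [v, zadd]; group
  have tv : ∀ a, t * v a * t⁻¹ ∈ cj(t, V) := fun a => conj_mem_cj (vV a)
  have tB : ∀ a, t * v a * t⁻¹ ∈ B := fun a => h.bd.W_le (tv a)
  choose β hβ using fun a => D.up _ (tB a)
  have βinj : Function.Injective β := fun a b e => by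
    have hm : t * v a * t⁻¹ * (t * v b * t⁻¹)⁻¹ ∈ V :=
      (h.kerV (h.bk.le (mul_mem (tB a) (inv_mem (tB b))))).1 (by
        rw [D.ρ_mul _ (h.bk.le (tB a)) _ (inv_mem (h.bk.le (tB b))),
          D.toNatD.ρ_inv (h.bk.le (tB b)), hβ, hβ, e, mul_inv_cancel])
    have hz := conj_mem_of_norm' (h.bd.T_norm_Z h.tS)
      (h.bd.mem_Z hm (mul_mem (tv a) (inv_mem (tv b))))
    rw [show t⁻¹ * (t * v a * t⁻¹ * (t * v b * t⁻¹)⁻¹) * t = v a * (v b)⁻¹ by group,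
      D.memX _ (mul_mem (vV a) (inv_mem (vV b))), D.toNatD.φ_div (vV a) (vV b), φv, φv] at hz
    exact sub_eq_zero.1 hz
  let γ := Equiv.ofBijective β (Finite.injective_iff_bijective.1 βinj)
  let w : K → G := fun a => t * v (γ.symm a) * t⁻¹
  have ρw : ∀ a, ρ (w a) = slUp a := fun a => by
    rw [hβ]; exact congrArg slUp (γ.apply_symm_apply a)
  have tw : ∀ a, t * v a * t⁻¹ = w (γ a) := fun a => by simp only [w, Equiv.symm_apply_apply]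
  have wB : ∀ a, w a ∈ B := fun a => tB _
  have wadd : ∀ a b, w (a + b) = w a * w b := fun a b => by
    have e : w a * w b = w (γ (γ.symm a + γ.symm b)) := by rw [← tw, vadd]; simp only [w]; group
    have e' := congrArg ρ e
    rw [D.ρ_mul _ (h.bk.le (wB a)) _ (h.bk.le (wB b)), ρw, ρw, ρw] at e'
    have e'' := congrArg (fun A : SL(2, K) => A 0 1) e'
    simp only [sl_mul, (up_ent _).1, (up_ent _).2.1, (up_ent _).2.2.2] at e''
    rw [e, ← e'']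
    congr 1; ring
  have BN : B ≤ NB F h.bd.le := h.bd.le.trans h.S_le_NB
  have A : ∀ g ∈ NB F h.bd.le, g ∈ 𝐍[V] → ∃ r, Cj ((w r)⁻¹ * g) v v := fun g hg hV => by
    obtain ⟨x, hx, e⟩ := h.toXV hg hV
    have xB : x ∈ 𝐍[B] := mem_norm_of_cj_le (cj_le_iff.2 fun b hb =>
      e b hb ▸ conj_mem_of_norm hg.1 hb)
    have xE := hn x (h.mem_NB hx xB) (h.amb.nrm _ h.V_ne h.fn hx)
    have lL : x * n * x⁻¹ ∈ L := conj_mem_of_norm (hX hx) nL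
    have l0 : ρ (x * n * x⁻¹) 1 0 ≠ 0 := fun e0 => by
      have := conj_mem_of_norm' (norm_norm le_rfl (h.bd.norm_Z xB)) ((D.mem_norm_X lL).2 e0)
      rw [show x⁻¹ * (x * n * x⁻¹) * x = n by group, D.mem_norm_X nL, n10] at this
      exact one_ne_zero this
    obtain ⟨l, hl⟩ : ∃ l, l = x * n * x⁻¹ := ⟨_, rfl⟩
    rw [← hl] at lL l0
    refine ⟨ρ l 0 0 / ρ l 1 0, fun a => ?_⟩
    obtain ⟨r, hr⟩ : ∃ r, r = ρ l 0 0 / ρ l 1 0 := ⟨_, rfl⟩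
    rw [← hr]
    have wL := h.bk.le (wB r)
    have kL : n⁻¹ * ((w r)⁻¹ * l) ∈ L := mul_mem (inv_mem nL) (mul_mem (inv_mem wL) lL)
    have kE := hn _ (h.borel kL (by
      rw [D.ρ_mul _ (inv_mem nL) _ (mul_mem (inv_mem wL) lL), D.ρ_mul _ (inv_mem wL) _ lL,
        D.toNatD.ρ_inv nL, D.toNatD.ρ_inv wL, ρw]
      simp only [sl_mul, (sl_inv _).1, (sl_inv _).2.1, (sl_inv _).2.2.1, (sl_inv _).2.2.2,
        (up_ent r).1, (up_ent r).2.1, (up_ent r).2.2.1, (up_ent r).2.2.2, n00, n10]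
      rw [hr]; field_simp; ring)) (h.bk.norm_V kL)
    obtain ⟨c, hc⟩ := zs _ (conj_mem_of_norm kE (conj_mem_of_norm xE (zE a)))
    refine ⟨c, ?_⟩
    calc (w r)⁻¹ * g * v a * ((w r)⁻¹ * g)⁻¹ = (w r)⁻¹ * (g * v a * g⁻¹) * w r := by group
      _ = _ := by rw [e _ (h.bd.V_le (vV a))]; simp only [v]; rw [hc, hl]; group
  have cw : ∀ r, Cj (w r)⁻¹ w w := fun r a => ⟨a, by
    rw [inv_inv, mul_assoc, ← wadd, add_comm, wadd, inv_mul_cancel_left]⟩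
  have tN := h.S_le_NB h.tS
  have t1 : Cj t v w := fun a => ⟨_, tw a⟩
  have t2 : Cj t⁻¹ w v := fun a => ⟨γ.symm a, by simp only [w]; group⟩
  obtain ⟨r₀, h₀⟩ := A (t * t) (mul_mem tN tN) (h.bd.mul_mem_norm tN.1 tN.1 h.tV h.tV)
  refine ⟨n, (w r₀)⁻¹ * t, v, w, z, vadd, wadd, zadd, vV, fun a => tv _, zE, φv, φz, ρw, zs, nL,
    fun _ => rfl, fun a => ?_, mul_mem (inv_mem (BN (wB _))) tN, fun e => h.tV ?_,
    (cw _).mul t1, ?_, fun g hg hV => ?_⟩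
  · calc n * (n * z a * n⁻¹) * n⁻¹ = n * n * z a * (n * n)⁻¹ := by group
      _ = _ := by rw [cV _ nn _ (hEV (zE a))]; group
  · simpa using mul_mem (h.bd.norm_V (wB r₀)) e
  · have := h₀.mul t2
    rwa [show (w r₀)⁻¹ * (t * t) * t⁻¹ = (w r₀)⁻¹ * t by group] at this
  · obtain ⟨r, hr⟩ := A g hg hV
    obtain ⟨c1, c2⟩ := h.conj_t (mul_mem (inv_mem (BN (wB r))) hg)
      (mul_mem (inv_mem (h.bd.norm_V (wB r))) hV)
    obtain ⟨r', hr'⟩ := A _ c1 c2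
    have hu : t * (w r')⁻¹ * t⁻¹ ∈ V := h.cjW ▸ conj_mem_cj (inv_mem (tv _))
    refine ⟨t * (w r')⁻¹ * t⁻¹ * (w r)⁻¹, mul_mem (h.bd.V_le hu) (inv_mem (wB r)), ?_, ?_⟩
    · rw [mul_assoc]
      exact Cj.mul (fun a => ⟨a, by rw [cV _ hu _ (vV a)]; group⟩) hr
    · have := t1.mul (hr'.mul t2)
      rwa [show t * ((w r')⁻¹ * (t⁻¹ * ((w r)⁻¹ * g) * t) * t⁻¹) =
        t * (w r')⁻¹ * t⁻¹ * (w r)⁻¹ * g by group] at this

end Op

namespace Fr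
variable {E : Subgroup G} {n s : G} {v w z : K → G} (h : Op S F X L V B M t ρ φ)
  (f : Fr L V cj(t, V) B E (NB F h.bd.le) ρ φ n s v w z) (hE : E ≤ 𝐙[B])
include f

theorem vinj {a b : K} (e : v a = v b) : a = b := by
  have := congrArg (fun x => φ x 1) e
  simpa [f.φv] using this

theorem zinj {a b : K} (e : z a = z b) : a = b := by
  have := congrArg (fun x => φ x 0) e
  simpa [f.φz] using this

theorem winj {a b : K} (e : w a = w b) : a = b := by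
  have := congrArg (fun x => ρ x 0 1) e
  simpa [f.ρw, (up_ent _).2.1] using this

theorem v0 : v 0 = 1 := by have := f.vadd 0 0; rw [add_zero] at this; exact left_eq_mul.1 this
theorem w0 : w 0 = 1 := by have := f.wadd 0 0; rw [add_zero] at this; exact left_eq_mul.1 this
theorem z0 : z 0 = 1 := by have := f.zadd 0 0; rw [add_zero] at this; exact left_eq_mul.1 this
theorem vB (a : K) : v a ∈ B := h.bd.V_le (f.vV a)
theorem wB (a : K) : w a ∈ B := h.bd.W_le (f.wW a)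

theorem decB {x : G} (hx : x ∈ B) : ∃ b, ∃ y ∈ V, x = w b * y := by
  obtain ⟨r, e⟩ := h.bk.nat.up x hx
  have wL := h.bk.le (f.wB h r)
  refine ⟨r, (w r)⁻¹ * x, (h.kerV (mul_mem (inv_mem wL) (h.bk.le hx))).1 ?_, by group⟩
  rw [h.bk.nat.ρ_mul _ (inv_mem wL) _ (h.bk.le hx), h.bk.nat.toNatD.ρ_inv wL, f.ρw, e,
    inv_mul_cancel]

theorem decW {x : G} (hx : x ∈ cj(t, V)) : ∃ b, ∃ y ∈ 𝐙[B], x = w b * y := by
  obtain ⟨b, y, hy, e⟩ := f.decB h (h.bd.W_le hx)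
  refine ⟨b, y, h.bd.mem_Z hy ?_, e⟩
  rw [show y = (w b)⁻¹ * x by rw [e]; group]
  exact mul_mem (inv_mem (f.wW b)) hx

theorem dec' {g : G} (hg : g ∈ NB F h.bd.le) : ∃ b ∈ B,
    (b * g ∈ 𝐍[V] ∧ Cj (b * g) v v ∧ Cj (b * g) w w) ∨
      (b * g ∉ 𝐍[V] ∧ Cj (b * g) v w ∧ Cj (b * g) w v) := by
  by_cases hV : g ∈ 𝐍[V]
  · obtain ⟨b, hb, e⟩ := f.dec g hg hV
    exact ⟨b, hb, Or.inl ⟨mul_mem (h.bd.norm_V hb) hV, e⟩⟩
  · obtain ⟨b, hb, e, e'⟩ := f.dec _ (mul_mem (inv_mem f.sN) hg)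
      (h.bd.mul_mem_norm (inv_mem f.sN.1) hg.1 (fun x => f.sV (by simpa using x)) hV)
    have hb' := conj_mem_of_norm f.sN.1 hb
    refine ⟨_, hb', Or.inr ⟨fun x => hV ((mul_mem_cancel_left (h.bd.norm_V hb')).1 x), ?_⟩⟩
    rw [show s * b * s⁻¹ * g = s * (b * (s⁻¹ * g)) by group]
    exact ⟨f.sv.mul e, f.sw.mul e'⟩

include hE

theorem zV (a : K) : z a ∈ V := h.bd.Z_le_V (hE (f.zE a))

theorem φ3 (a c : K) {d : G} (hd : d ∈ 𝐙[L]) : φ (v a * (z c * d)) = ![c, a] := by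
  have D := h.bk.nat
  rw [D.φ_mul _ (f.vV a) _ (mul_mem (f.zV h hE c) (D.le hd)), D.φ_mul _ (f.zV h hE c) _ (D.le hd),
    f.φv, f.φz, D.toNatD.φ_of_mem hd]
  simp

theorem decV {x : G} (hx : x ∈ V) : ∃ d ∈ 𝐙[L], x = v (φ x 1) * (z (φ x 0) * d) := by
  have D := h.bk.nat
  have hm := mul_mem (f.vV (φ x 1)) (mul_mem (f.zV h hE (φ x 0)) (one_mem _))
  refine ⟨(v (φ x 1) * (z (φ x 0) * 1))⁻¹ * x, (D.φ_ker _ (mul_mem (inv_mem hm) hx)).1 ?_, by group⟩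
  rw [D.φ_mul _ (inv_mem hm) _ hx, D.toNatD.φ_inv hm, f.φ3 h hE _ _ (one_mem _)]
  exact vec_ext (by simp) (by simp)

theorem decZ {x : G} (hx : x ∈ 𝐙[B]) : ∃ c, ∃ d ∈ 𝐙[L], x = z c * d := by
  obtain ⟨d, hd, e⟩ := f.decV h hE (h.bd.Z_le_V hx)
  rw [(h.bk.nat.memX x (h.bd.Z_le_V hx)).1 hx, f.v0 h, one_mul] at e
  exact ⟨_, d, hd, e⟩

theorem uqZ {c c' : K} {d d' : G} (hd : d ∈ 𝐙[L]) (hd' : d' ∈ 𝐙[L]) (e : z c * d = z c' * d') :
    c = c' ∧ d = d' := by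
  have e1 : c = c' := by
    have := (f.φ3 h hE 0 c hd).symm.trans ((congrArg (fun x => φ (v 0 * x)) e).trans
      (f.φ3 h hE 0 c' hd'))
    simpa using this
  exact ⟨e1, mul_left_cancel (e1 ▸ e)⟩

theorem eq_one {a b c : K} {d : G} (hd : d ∈ 𝐙[L]) (e : w b * v a * (z c * d) = 1) :
    b = 0 ∧ a = 0 ∧ c = 0 ∧ d = 1 := by
  have D := h.bk.nat
  have hm := mul_mem (f.vV a) (mul_mem (f.zV h hE c) (D.le hd))
  have e1 : w b = (v a * (z c * d))⁻¹ := eq_inv_of_mul_eq_one_left (by rw [← e]; group)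
  have hb : b = 0 := by
    have := (h.kerV (h.bk.le (f.wB h b))).2 (e1 ▸ inv_mem hm)
    rw [f.ρw] at this
    simpa [(up_ent _).2.1] using congrArg (fun A : SL(2, K) => A 0 1) this
  rw [hb, f.w0 h, one_mul] at e
  have e2 := f.φ3 h hE a c hd
  rw [e, D.toNatD.φ_one] at e2
  have ha : a = 0 := by simpa using (congrFun e2 1).symm
  have hc : c = 0 := by simpa using (congrFun e2 0).symm
  rw [ha, hc, f.v0 h, f.z0 h, one_mul, one_mul] at e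
  exact ⟨hb, ha, hc, e⟩

theorem comm (a b : K) : ∃ d ∈ 𝐙[L], v a * w b = w b * v a * (z (a * b) * d) := by
  have D := h.bk.nat
  have : CharP K 2 := D.toNatD.charP h.bk.ea.pg
  have wL := h.bk.le (f.wB h b)
  obtain ⟨d, hd, e⟩ := f.decV h hE (D.toNatD.conj_mem wL (f.vV a))
  rw [D.equiv _ wL _ (f.vV a), f.ρw, f.φv, up0, up1] at e
  have ww : w b * w b = 1 := by rw [← f.wadd, CharTwo.add_self_eq_zero, f.w0 h]
  refine ⟨d, hd, ?_⟩
  rw [mul_assoc (w b), show a * b = ![0, a] 0 + b * ![0, a] 1 by simp [mul_comm],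
    show v a = v (![0, a] 1) from rfl, ← e, ← mul_assoc, ← mul_assoc, ww, one_mul,
    inv_eq_of_mul_eq_one_right ww]
  rfl

theorem tor (hn : ∀ g ∈ NB F h.bd.le, g ∈ 𝐍[V] → g ∈ 𝐍[E]) {l : K} (hl : l ≠ 0) :
    ∃ g ∈ L, g ∈ NB F h.bd.le ∧ (∀ a, g * v a * g⁻¹ = v (l * a)) ∧
      (∀ a, g * w a * g⁻¹ = w ((l ^ 2)⁻¹ * a)) ∧ ∀ a, g * z a * g⁻¹ = z (l⁻¹ * a) := by
  have D := h.bk.nat
  obtain ⟨k, kL, ρk⟩ := D.ρ_surj ⟨!![l⁻¹, 0; 0, l], by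
    rw [Matrix.det_fin_two_of]; simp [hl]⟩
  have kN := h.borel kL (by rw [ρk]; rfl)
  obtain ⟨b, hb, e, e'⟩ := f.dec k kN (h.bk.norm_V kL)
  obtain ⟨r, er⟩ := D.up b hb
  have gL := mul_mem (h.bk.le hb) kL
  have gN := mul_mem (h.S_le_NB (h.bd.le hb)) kN
  have ρg := D.ρ_mul _ (h.bk.le hb) _ kL
  have k00 : ρ k 0 0 = l⁻¹ := by rw [ρk]; rfl
  have k01 : ρ k 0 1 = 0 := by rw [ρk]; rfl
  have k10 : ρ k 1 0 = 0 := by rw [ρk]; rfl
  have k11 : ρ k 1 1 = l := by rw [ρk]; rfl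
  have g00 : ρ (b * k) 0 0 = l⁻¹ := by simp [ρg, er, sl_mul, k00, k10, (up_ent r).1]
  have g10 : ρ (b * k) 1 0 = 0 := by simp [ρg, er, sl_mul, k10, (up_ent r).2.2.1]
  have g11 : ρ (b * k) 1 1 = l := by simp [ρg, er, sl_mul, k01, k11, (up_ent r).2.2.2]
  refine ⟨b * k, gL, gN, fun a => ?_, fun a => ?_, fun a => ?_⟩
  · obtain ⟨c, hc⟩ := e a
    have := congrFun (D.equiv _ gL _ (f.vV a)) 1
    rw [hc, f.φv, f.φv, mv1, g11] at this
    rw [hc]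
    congr 1
    simpa using this
  · obtain ⟨c, hc⟩ := e' a
    have := congrArg (fun A : SL(2, K) => A 0 1) (D.toNatD.ρ_conj gL (h.bk.le (f.wB h a)))
    simp only [hc, f.ρw, sl_mul, (sl_inv _).2.1, (sl_inv _).2.2.2, (up_ent _).1, (up_ent _).2.1,
      (up_ent _).2.2.1, (up_ent _).2.2.2, g00] at this
    rw [hc, this]
    congr 1
    ring
  · obtain ⟨c, hc⟩ := f.zs _ (conj_mem_of_norm (hn _ gN (h.bk.norm_V gL)) (f.zE a))
    have := congrFun (D.equiv _ gL _ (f.zV h hE a)) 0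
    rw [← hc, f.φz, f.φz, mv0, g00] at this
    rw [← hc]
    congr 1
    simpa using this

end Fr

end Cfsg.Agent.MF
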