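import Mathlib
import Cfsg.Agent.MF.Fr

/-! Coordinates in the case `L₃(q)`. -/

set_option autoImplicit false
set_option linter.unusedSectionVars false

namespace Cfsg.Agent.MF

open Cfsg Cfsg.Agent.GT Cfsg.Agent.Loc.Mss Cfsg.Agent.Loc.PU Cfsg.Agent.Loc.Blk Cfsg.Agent.Loc.GC
  Cfsg.Agent.Fus Cfsg.Agent.Fus.SU Cfsg.FusionSystem Subgroup
open scoped commutatorElement MatrixGroups

variable {G : Type*} [Group G] [Finite G] {S : Subgroup G} {F : FusionSystem S}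
  {X : Subgroup G → Subgroup G}
  {L V B M : Subgroup G} {t : G} {K : Type} [Field K] {ρ : G → SL(2, K)} {φ : G → Fin 2 → K}

theorem Op.co3 (h : Op S F X L V B M t ρ φ) (hX : X V ≤ 𝐍[L]) (hD : 𝐙[L] = ⊥) :
    ∃ ι : U3 K →* G, Mn (M3 K) ι B V cj(t, V) 𝐙[B] 𝐙[L] (X B) (X V) := by
  have D := h.bk.nat
  have := D.toNatD.finite
  have : CharP K 2 := D.toNatD.charP h.bk.ea.pg
  have hn : ∀ g ∈ NB F h.bd.le, g ∈ 𝐍[V] → g ∈ 𝐍[𝐙[B]] := fun g hg _ => h.bd.norm_Z hg.1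
  obtain ⟨n, s, v, w, z, f⟩ := h.exists_fr hX le_rfl (by rw [hD, inf_bot_eq]) le_sup_right hn
  have d1 : ∀ d ∈ 𝐙[L], d = 1 := fun d hd => by rwa [hD, mem_bot] at hd
  have zv : ∀ a b, z a * v b = v b * z a := fun a b => h.bd.mul_Z (f.zE a) (f.vB h b)
  have zw : ∀ a b, z a * w b = w b * z a := fun a b => h.bd.mul_Z (f.zE a) (f.wB h b)
  have vw : ∀ a b, v a * w b = w b * v a * z (a * b) := fun a b => by
    obtain ⟨d, hd, e⟩ := f.comm h le_rfl a b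
    rwa [d1 d hd, mul_one] at e
  have zz : ∀ a, z a * z a = 1 := fun a => by rw [← f.zadd, CharTwo.add_self_eq_zero, f.z0 h]
  have wv : ∀ a b, w b * v a = v a * w b * z (a * b) := fun a b => by
    rw [vw, mul_assoc _ (z _), zz, mul_one]
  obtain ⟨ι, hι⟩ := U3.lift v w z f.vadd f.wadd f.zadd zv zw vw
  have inj : Function.Injective ι := (injective_iff_map_eq_one ι).2 fun u e => by
    rw [hι, ← mul_one (z _)] at e
    obtain ⟨h1, h2, h3, -⟩ := f.eq_one h le_rfl (one_mem _) e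
    exact U3.ext h2 h1 h3
  have cz : ∀ g ∈ NB F h.bd.le, Cj g z z := fun g hg a => by
    obtain ⟨c, e⟩ := f.zs _ (conj_mem_of_norm (h.bd.norm_Z hg.1) (f.zE a))
    exact ⟨c, e.symm⟩
  have vi := fun a b => f.vinj h (a := a) (b := b)
  have wi := fun a b => f.winj h (a := a) (b := b)
  have zi := fun a b => f.zinj h (a := a) (b := b)
  have A1 : ∀ g ∈ NB F h.bd.le, Cj g v v → Cj g w w →
      ∃ a b σ, a ≠ 0 ∧ b ≠ 0 ∧ Acts ι ⊤ g (U3.mon a b σ) := fun g hg c1 c2 => by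
    obtain ⟨α, hα, -⟩ := c1.fn f.vadd f.vadd vi vi
    obtain ⟨β, hβ, -⟩ := c2.fn f.wadd f.wadd wi wi
    obtain ⟨γ, hγ, add, h1⟩ := (cz g hg).fn f.zadd f.zadd zi zi
    obtain ⟨a, b, σ, a0, b0, e1, e2, e3⟩ := isotopy (α := α) (β := β) add h1 fun x y => zi _ _ (by
      refine mul_left_cancel (a := w (β y) * v (α x)) ?_
      rw [← vw, ← hγ, ← hα, ← hβ, show g * v x * g⁻¹ * (g * w y * g⁻¹) = g * (v x * w y) * g⁻¹ by
        group, vw]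
      group)
    refine ⟨a, b, σ, a0, b0, fun u _ => ?_⟩
    simp only [hι, U3.mon, ← e1, ← e2, ← e3, ← hα, ← hβ, ← hγ]
    group
  have A2 : ∀ g ∈ NB F h.bd.le, Cj g v w → Cj g w v →
      ∃ a b σ, a ≠ 0 ∧ b ≠ 0 ∧ Acts ι ⊤ g (U3.swp ∘ U3.mon a b σ) := fun g hg c1 c2 => by
    obtain ⟨α, hα, -⟩ := c1.fn f.vadd f.wadd vi wi
    obtain ⟨β, hβ, -⟩ := c2.fn f.wadd f.vadd wi vi
    obtain ⟨γ, hγ, add, h1⟩ := (cz g hg).fn f.zadd f.zadd zi zi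
    obtain ⟨a, b, σ, a0, b0, e1, e2, e3⟩ := isotopy (α := α) (β := β) add h1 fun x y => zi _ _ (by
      refine mul_left_cancel (a := v (β y) * w (α x)) ?_
      rw [mul_comm (α x), ← wv, ← hγ, ← hα, ← hβ,
        show g * v x * g⁻¹ * (g * w y * g⁻¹) = g * (v x * w y) * g⁻¹ by group, vw]
      group)
    refine ⟨a, b, σ, a0, b0, fun u _ => ?_⟩
    simp only [hι, U3.mon, U3.swp, Function.comp_apply, ← e1, ← e2, ← e3]
    rw [add_comm, f.zadd, mul_comm (α _), ← mul_assoc (w (α _) * _), ← vw, ← hα, ← hβ, ← hγ]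
    group
  have eV : ∀ x ∈ V, ∃ a c, x = v a * z c := fun x hx => by
    obtain ⟨d, hd, e⟩ := f.decV h le_rfl hx
    exact ⟨_, _, by rwa [d1 d hd, mul_one] at e⟩
  have eB : ι.range = B := le_antisymm (by
    rintro _ ⟨u, rfl⟩
    rw [hι]
    exact mul_mem (mul_mem (f.wB h _) (f.vB h _)) (f.zE _).1) fun x hx => by
    obtain ⟨b, y, hy, rfl⟩ := f.decB h hx
    obtain ⟨a, c, rfl⟩ := eV y hy
    exact ⟨⟨a, b, c⟩, by rw [hι, mul_assoc]⟩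
  have toY : ∀ g ∈ NB F h.bd.le, ∀ m, Acts ι ⊤ g m → ∃ y ∈ X B, Acts ι ⊤ y m := fun g hg m hm => by
    obtain ⟨y, hy, e⟩ := h.toXB hg
    exact ⟨y, hy, fun u hu => (e _ (eB ▸ ⟨u, rfl⟩)).symm.trans (hm u hu)⟩
  have T : ∀ l : K, l ≠ 0 → ∃ g ∈ NB F h.bd.le,
      Acts ι ⊤ g (U3.mon l (l ^ 2)⁻¹ (RingEquiv.refl K)) := fun l hl => by
    obtain ⟨g, -, hg, e1, e2, e3⟩ := f.tor h le_rfl hn hl
    refine ⟨g, hg, fun u _ => ?_⟩
    simp only [hι, U3.mon, RingEquiv.refl_apply]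
    rw [show l * (l ^ 2)⁻¹ = l⁻¹ by field_simp, ← e1, ← e2, ← e3]
    group
  refine ⟨ι, inj, eB, le_antisymm ?_ fun x hx => ?_, le_antisymm ?_ fun x hx => ?_,
    le_antisymm ?_ fun x hx => ?_, (map_bot ι).trans hD.symm, fun y hy => ?_, ?_,
    n, h.leX f.nL, fun u hu => ?_⟩
  · rintro _ ⟨u, hu, rfl⟩
    rw [hι, U3.mem_V.1 hu, f.w0 h, one_mul]
    exact mul_mem (f.vV _) (f.zV h le_rfl _)
  · obtain ⟨a, c, rfl⟩ := eV x hx
    exact ⟨⟨a, 0, c⟩, rfl, by rw [hι, f.w0 h, one_mul]⟩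
  · rintro _ ⟨u, hu, rfl⟩
    rw [hι, U3.mem_W.1 hu, f.v0 h, mul_one]
    exact mul_mem (f.wW _) (h.bd.Z_le_W (f.zE _))
  · obtain ⟨b, y, hy, rfl⟩ := f.decW h hx
    obtain ⟨c, rfl⟩ := f.zs y hy
    exact ⟨⟨0, b, c⟩, rfl, by rw [hι, f.v0 h, mul_one]⟩
  · rintro _ ⟨u, hu, rfl⟩
    rw [hι, U3.mem_V.1 hu.1, U3.mem_W.1 hu.2, f.v0 h, f.w0 h, one_mul, one_mul]
    exact f.zE _
  · obtain ⟨c, rfl⟩ := f.zs x hx
    exact ⟨⟨0, 0, c⟩, ⟨rfl, rfl⟩, by rw [hι, f.v0 h, f.w0 h, one_mul, one_mul]⟩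
  · have hg := h.XB_le_NB hy
    obtain ⟨b, hb, e⟩ := f.dec' h hg
    have hb' := mul_mem (h.S_le_NB (h.bd.le hb)) hg
    obtain ⟨u, rfl⟩ : b ∈ ι.range := eB ▸ hb
    rcases e with ⟨-, c1, c2⟩ | ⟨-, c1, c2⟩
    · obtain ⟨a, b, σ, a0, b0, e⟩ := A1 _ hb' c1 c2
      exact ⟨u, _, ⟨a, b, σ, a0, b0, Or.inl rfl⟩, e⟩
    · obtain ⟨a, b, σ, a0, b0, e⟩ := A2 _ hb' c1 c2
      exact ⟨u, _, ⟨a, b, σ, a0, b0, Or.inr rfl⟩, e⟩
  · rintro _ ⟨l, k, hl, hk, rfl⟩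
    obtain ⟨a, b, σ, a0, b0, es⟩ := A2 s f.sN f.sv f.sw
    obtain ⟨g, hg, e⟩ := T l hl
    obtain ⟨g', hg', e'⟩ := T (σ.symm k) (by simpa using hk)
    have e2 := es.conj inj (m'' := U3.mon (k ^ 2)⁻¹ k (RingEquiv.refl K)) e' fun u => by
      ext <;> simp [U3.mon, U3.swp] <;> field_simp
    refine toY _ (mul_mem hg (mul_mem (mul_mem f.sN hg') (inv_mem f.sN))) _
      ((e.mul e2).congr fun u _ => ?_)
    ext <;> simp [U3.mon] <;> ring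
  · have hu' : u.y = 0 := hu
    change _ = ι ⟨u.z, 0, u.x⟩
    simp only [hι, hu', f.w0 h, one_mul]
    rw [← zv u.x, ← f.nv u.x, ← f.nz u.z]
    group

end Cfsg.Agent.MF
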