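import Mathlib
import Cfsg.Agent.MF.Fr

/-! Coordinates in the case `Sp₄(q)`. -/

set_option autoImplicit false
set_option linter.unusedSectionVars false

namespace Cfsg.Agent.MF

open Cfsg Cfsg.Agent.GT Cfsg.Agent.Loc.Mss Cfsg.Agent.Loc.PU Cfsg.Agent.Loc.Blk Cfsg.Agent.Loc.GC
  Cfsg.Agent.Fus Cfsg.Agent.Fus.SU Cfsg.FusionSystem Subgroup
open scoped commutatorElement MatrixGroups

variable {G : Type*} [Group G] [Finite G] {S : Subgroup G} {F : FusionSystem S}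
  {X : Subgroup G → Subgroup G}
  {L V B M : Subgroup G} {t : G} {K : Type} [Field K] {ρ : G → SL(2, K)} {φ : G → Fin 2 → K}

theorem Fr.exists_d {n s : G} {v w z : K → G} (h : Op S F X L V B M t ρ φ) (hX : X V ≤ 𝐍[L])
    (f : Fr L V cj(t, V) B cj(t, 𝐙[L]) (NB F h.bd.le) ρ φ n s v w z) :
    ∃ d : K → G, (∀ a, d a ∈ 𝐙[L]) ∧ (∀ a b, d (a + b) = d a * d b) ∧
      (∀ a b, d a = d b → a = b) ∧ (∀ x ∈ 𝐙[L], ∃ c, d c = x) ∧
      ∀ a b, v a * w b = w b * v a * (z (a * b) * d (a ^ 2 * b)) := by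
  have D := h.bk.nat
  have := D.toNatD.finite
  have : CharP K 2 := D.toNatD.charP h.bk.ea.pg
  have hE := h.bd'.leD
  choose δ δD hδ using f.comm h hE
  have zZ : ∀ a, z a ∈ 𝐙[B] := fun a => hE (f.zE a)
  have inv : ∀ l : K, l ≠ 0 → ∀ x y, δ (l * x) ((l ^ 2)⁻¹ * y) = δ x y := fun l hl x y => by
    obtain ⟨g, gL, -, e1, e2, e3⟩ := f.tor h hE (fun _ => h.normD' hX) hl
    refine (f.uqZ h hE (c := l * x * ((l ^ 2)⁻¹ * y)) (c' := l⁻¹ * (x * y)) (δD _ _) (δD _ _) ?_).2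
    refine mul_left_cancel (a := w ((l ^ 2)⁻¹ * y) * v (l * x)) ?_
    rw [← hδ, ← e1, ← e2, ← e3, show g * v x * g⁻¹ * (g * w y * g⁻¹) = g * (v x * w y) * g⁻¹ by
      group, hδ]
    calc g * (w y * v x * (z (x * y) * δ x y)) * g⁻¹
        = g * (w y * v x * z (x * y)) * g⁻¹ * (g * δ x y) * g⁻¹ := by group
      _ = _ := by rw [mem_cent.1 (δD x y).2 g gL]; group
  have d0 : δ 1 0 = 1 := by
    have := hδ 1 0
    rwa [mul_zero, f.w0 h, f.z0 h, mul_one, one_mul, one_mul, left_eq_mul] at this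
  have add : ∀ a b, δ 1 (a + b) = δ 1 a * δ 1 b := fun a b => by
    refine (f.uqZ h hE (c := 1 * (a + b)) (c' := 1 * a + 1 * b) (δD _ _)
      (mul_mem (δD _ _) (δD _ _)) ?_).2
    refine mul_left_cancel (a := w (a + b) * v 1) ?_
    have c2 := h.bd.mul_Z (mul_mem (zZ (1 * a)) (h.bd.leD (δD 1 a))) (f.wB h b)
    have c3 := h.bd.mul_Z (zZ (1 * b)) (h.bd.leD (δD 1 a)).1
    have c4 := h.bd.mul_Z (mul_mem (zZ (1 * a)) (h.bd.leD (δD 1 a)))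
      (mul_mem (zZ (1 * b)) (h.bd.leD (δD 1 b))).1
    rw [← hδ, f.wadd, ← mul_assoc, hδ, mul_assoc, c2, ← mul_assoc, mul_assoc (w a), hδ,
      mul_assoc, mul_assoc (w b * v 1), ← c4, f.zadd, mul_assoc (z _) (z _),
      ← mul_assoc (z _) (δ _ _), c3]
    group
  have inj : ∀ a b, δ 1 a = δ 1 b → a = b := fun a b e => by
    have e1 : δ 1 (a + b) = 1 := by rw [add, e, ← add, CharTwo.add_self_eq_zero, d0]
    have e2 := hδ 1 (a + b)
    rw [e1, mul_one] at e2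
    have e3 : ⁅w (a + b), v 1⁆ = (z (1 * (a + b)))⁻¹ := by
      have := h.bd.mul_Z (zZ (1 * (a + b))) (mul_mem (f.wB h (a + b)) (f.vB h 1))
      rw [commutatorElement_def, mul_assoc, ← mul_inv_rev, e2, ← this]
      group
    rcases h.bd'.nzd _ (f.wW _) _ (f.vV 1) (e3 ▸ inv_mem (f.zE _)) with e4 | e4
    · obtain ⟨c, d, hd, e5⟩ := f.decZ h hE (inv_mem e4)
      exact CharTwo.add_eq_zero.1 (f.eq_one h hE (a := 0) (c := c) hd (by
        rw [← e5, f.v0 h]; group)).1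
    · have := (D.memX _ (f.vV 1)).1 e4
      rw [f.φv] at this
      exact absurd this one_ne_zero
  refine ⟨δ 1, δD 1, add, inj, fun x hx => ?_, fun a b => ?_⟩
  · have c1 : Nat.card K = Nat.card ↥𝐙[L] := by
      rw [← card_cj 𝐙[L] t]
      exact Nat.card_congr (Equiv.ofBijective (fun a => (⟨z a, f.zE a⟩ : cj(t, 𝐙[L])))
        ⟨fun a b e => f.zinj h (congrArg Subtype.val e), fun e => by
          obtain ⟨a, ha⟩ := f.zs e e.2
          exact ⟨a, Subtype.ext ha⟩⟩)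
    obtain ⟨c, hc⟩ := ((Nat.bijective_iff_injective_and_card
      (fun a => (⟨δ 1 a, δD 1 a⟩ : ↥𝐙[L]))).2
        ⟨fun a b e => inj a b (congrArg Subtype.val e), c1⟩).2 ⟨x, hx⟩
    exact ⟨c, congrArg Subtype.val hc⟩
  · by_cases ha : a = 0
    · simp [ha, f.v0 h, f.z0 h, d0]
    · rw [hδ, ← inv a ha 1, mul_one, inv_mul_cancel_left₀ (pow_ne_zero 2 ha)]

theorem Op.co4 (h : Op S F X L V B M t ρ φ) (hX : X V ≤ 𝐍[L])
    (hD : 𝐙[L] ⊔ cj(t, 𝐙[L]) = 𝐙[B]) :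
    ∃ ι : U4 K →* G, Mn (M4 K) ι B V cj(t, V) 𝐙[B] 𝐙[L] (X B) (X V) := by
  have D := h.bk.nat
  have := D.toNatD.finite
  have : CharP K 2 := D.toNatD.charP h.bk.ea.pg
  have h2 : (2 : K) = 0 := CharTwo.two_eq_zero
  have hE := h.bd'.leD
  have hn : ∀ g ∈ NB F h.bd.le, g ∈ 𝐍[V] → g ∈ 𝐍[cj(t, 𝐙[L])] := fun _ => h.normD' hX
  obtain ⟨n, s, v, w, z, f⟩ := h.exists_fr hX hE (by rw [inf_comm, h.zz]) hD.ge hn
  obtain ⟨d, dD, dadd, di, ds, vw⟩ := f.exists_d h hX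
  have zZ : ∀ a, z a ∈ 𝐙[B] := fun a => hE (f.zE a)
  have dZ : ∀ a, d a ∈ 𝐙[B] := fun a => h.bd.leD (dD a)
  have d0 : d 0 = 1 := by have := dadd 0 0; rw [add_zero] at this; exact left_eq_mul.1 this
  have zv : ∀ a b, z a * v b = v b * z a := fun a b => h.bd.mul_Z (zZ a) (f.vB h b)
  have dz : ∀ a b, d a * z b = z b * d a := fun a b => h.bd.mul_Z (dZ a) (zZ b).1
  have ad : ∀ a b a' b', z (a + a') * d (b + b') = z a * d b * (d b' * z a') := fun a b a' b' => by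
    rw [f.zadd, mul_assoc (z a), ← dz (b + b'), dadd]; group
  obtain ⟨ι, hι⟩ := U4.lift v w z d f.vadd f.wadd f.zadd dadd zv
    (fun a b => h.bd.mul_Z (zZ a) (f.wB h b)) (fun a b => h.bd.mul_Z (dZ a) (f.vB h b))
    (fun a b => h.bd.mul_Z (dZ a) (f.wB h b)) dz vw
  have inj : Function.Injective ι := (injective_iff_map_eq_one ι).2 fun u e => by
    rw [hι] at e
    obtain ⟨h1, h2, h3, h4⟩ := f.eq_one h hE (dD _) e
    exact U4.ext h2 h1 h3 (di _ _ (h4.trans d0.symm))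
  have vi := fun a b => f.vinj h (a := a) (b := b)
  have wi := fun a b => f.winj h (a := a) (b := b)
  have zi := fun a b => f.zinj h (a := a) (b := b)
  have tN := h.S_le_NB h.tS
  have A1 : ∀ g ∈ NB F h.bd.le, g ∈ 𝐍[V] → Cj g v v → Cj g w w →
      ∃ a b σ, a ≠ 0 ∧ b ≠ 0 ∧ Acts ι ⊤ g (mon4 a b σ) := fun g hg hV c1 c2 => by
    have c3 : Cj g z z := fun a => by
      obtain ⟨c, e⟩ := f.zs _ (conj_mem_of_norm (hn g hg hV) (f.zE a))
      exact ⟨c, e.symm⟩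
    have c4 : Cj g d d := fun a => by
      obtain ⟨c, e⟩ := ds _ (conj_mem_of_norm (h.normD hX hg hV) (dD a))
      exact ⟨c, e.symm⟩
    obtain ⟨α, hα, -⟩ := c1.fn f.vadd f.vadd vi vi
    obtain ⟨β, hβ, -⟩ := c2.fn f.wadd f.wadd wi wi
    obtain ⟨γ, hγ, add, h1⟩ := c3.fn f.zadd f.zadd zi zi
    obtain ⟨ε, hε, -⟩ := c4.fn dadd dadd di di
    have R := fun x y => f.uqZ h hE (c := γ (x * y)) (c' := α x * β y) (dD (ε (x ^ 2 * y)))
      (dD (α x ^ 2 * β y)) (by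
        refine mul_left_cancel (a := w (β y) * v (α x)) ?_
        rw [← vw, ← hγ, ← hα, ← hβ, ← hε,
          show g * v x * g⁻¹ * (g * w y * g⁻¹) = g * (v x * w y) * g⁻¹ by group, vw]
        group)
    obtain ⟨a, b, σ, a0, b0, e1, e2, e3⟩ := isotopy add h1 fun x y => (R x y).1
    have e4 : ∀ c, ε c = a ^ 2 * b * σ c := fun c => by
      have := di _ _ (R 1 c).2
      rw [one_pow, one_mul, e1, e2, map_one] at this
      rw [this]; ring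
    refine ⟨a, b, σ, a0, b0, fun u _ => ?_⟩
    simp only [hι, mon4, ← e1, ← e2, ← e3, ← e4, ← hα, ← hβ, ← hγ, ← hε]
    group
  have A2 : ∀ g ∈ NB F h.bd.le, g ∉ 𝐍[V] → Cj g v w → Cj g w v →
      ∃ a b σ, a ≠ 0 ∧ b ≠ 0 ∧ Acts ι ⊤ g (swp4 ∘ mon4 a b σ) := fun g hg hV c1 c2 => by
    have c3 : Cj g z d := fun a => by
      obtain ⟨c, e⟩ := ds _ (conj_mem_of_norm (h.normD hX (mul_mem hg tN)
        (h.bd.mul_mem_norm hg.1 tN.1 hV h.tV)) (mem_cj.1 (f.zE a)))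
      exact ⟨c, by rw [e]; group⟩
    have c4 : Cj g d z := fun a => by
      obtain ⟨c, e⟩ := f.zs _ (conj_mem_cj (g := t) (conj_mem_of_norm (h.normD hX
        (mul_mem (inv_mem tN) hg) (h.bd.mul_mem_norm (inv_mem tN.1) hg.1
          (fun x => h.tV (by simpa using x)) hV)) (dD a)))
      exact ⟨c, by rw [e]; group⟩
    obtain ⟨α, hα, -⟩ := c1.fn f.vadd f.wadd vi wi
    obtain ⟨β, hβ, -⟩ := c2.fn f.wadd f.vadd wi vi
    obtain ⟨γ, hγ, -⟩ := c3.fn f.zadd dadd zi di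
    obtain ⟨ε, hε, add, h1⟩ := c4.fn dadd f.zadd di zi
    have R := fun x y => f.uqZ h hE (c := β y * α x + ε (x ^ 2 * y)) (c' := 0)
      (dD (β y ^ 2 * α x + γ (x * y))) (one_mem _) (by
        refine mul_left_cancel (a := w (α x) * v (β y)) ?_
        rw [ad, ← mul_assoc, ← vw, f.z0 h, ← hγ, ← hα, ← hβ, ← hε, mul_one, mul_one,
          show g * v x * g⁻¹ * (g * w y * g⁻¹) = g * (v x * w y) * g⁻¹ by group, vw]
        group)
    let r := (frobeniusEquiv K 2).symm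
    have hr : ∀ x, r x ^ 2 = x := fun x => frobeniusEquiv_symm_pow_p K 2 x
    have hr' : ∀ x, r (x ^ 2) = x := fun x => (frobeniusEquiv K 2).symm_apply_apply x
    obtain ⟨a, b, σ, a0, b0, e1, e2, e3⟩ := isotopy (α := fun x => α (r x)) (β := β) add h1
      fun x y => by
        have := CharTwo.add_eq_zero.1 (R (r x) y).1
        rw [hr] at this
        rw [← this, mul_comm]
    have e1' : ∀ x, α x = a * σ x ^ 2 := fun x => by rw [← map_pow, ← e1, hr']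
    have e4 : ∀ c, γ c = a * b ^ 2 * σ c ^ 2 := fun c => by
      have := CharTwo.add_eq_zero.1 (di _ _ ((R 1 c).2.trans d0.symm))
      rw [one_mul, e1', e2, map_one] at this
      rw [← this]; ring
    refine ⟨r a, b, σ, fun e => a0 (by rw [← hr a, e]; ring), b0, fun u _ => ?_⟩
    have e5 : (swp4 ∘ mon4 (r a) b σ) u = ⟨β u.a, α u.t, β u.a * α u.t + ε u.c,
        β u.a ^ 2 * α u.t + γ u.b⟩ := by
      ext <;> simp only [Function.comp_apply, swp4, mon4, e1', e2, e3, e4, mul_pow, hr] <;> ring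
    rw [e5]
    simp only [hι]
    rw [ad, ← mul_assoc (w (α _) * _), ← vw, ← hα, ← hβ, ← hγ, ← hε]
    group
  have eV : ∀ x ∈ V, ∃ a b c, x = v a * (z b * d c) := fun x hx => by
    obtain ⟨e, he, e'⟩ := f.decV h hE hx
    obtain ⟨c, rfl⟩ := ds e he
    exact ⟨_, _, c, e'⟩
  have eZ : ∀ x ∈ 𝐙[B], ∃ b c, x = z b * d c := fun x hx => by
    obtain ⟨b, e, he, e'⟩ := f.decZ h hE hx
    obtain ⟨c, rfl⟩ := ds e he
    exact ⟨_, c, e'⟩
  have eB : ι.range = B := le_antisymm (by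
    rintro _ ⟨u, rfl⟩
    rw [hι]
    exact mul_mem (mul_mem (f.wB h _) (f.vB h _)) (mul_mem (zZ _) (dZ _)).1) fun x hx => by
    obtain ⟨b, y, hy, rfl⟩ := f.decB h hx
    obtain ⟨a, c, e, rfl⟩ := eV y hy
    exact ⟨⟨a, b, c, e⟩, by rw [hι, mul_assoc]⟩
  have toY : ∀ g ∈ NB F h.bd.le, ∀ m, Acts ι ⊤ g m → ∃ y ∈ X B, Acts ι ⊤ y m := fun g hg m hm => by
    obtain ⟨y, hy, e⟩ := h.toXB hg
    exact ⟨y, hy, fun u hu => (e _ (eB ▸ ⟨u, rfl⟩)).symm.trans (hm u hu)⟩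
  have T : ∀ l : K, l ≠ 0 → ∃ g ∈ NB F h.bd.le,
      Acts ι ⊤ g (mon4 l (l ^ 2)⁻¹ (RingEquiv.refl K)) := fun l hl => by
    obtain ⟨g, gL, hg, e1, e2, e3⟩ := f.tor h hE hn hl
    refine ⟨g, hg, fun u _ => ?_⟩
    simp only [hι, mon4, RingEquiv.refl_apply]
    rw [show l * (l ^ 2)⁻¹ = l⁻¹ by field_simp, mul_inv_cancel₀ (pow_ne_zero 2 hl), one_mul, ← e1,
      ← e2, ← e3]
    calc g * (w u.a * v u.t * (z u.b * d u.c)) * g⁻¹
        = g * (w u.a * v u.t * z u.b) * g⁻¹ * (g * d u.c) * g⁻¹ := by group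
      _ = _ := by rw [mem_cent.1 (dD u.c).2 g gL]; group
  refine ⟨ι, inj, eB, le_antisymm ?_ fun x hx => ?_, le_antisymm ?_ fun x hx => ?_,
    le_antisymm ?_ fun x hx => ?_, le_antisymm ?_ fun x hx => ?_, fun y hy => ?_, ?_,
    n, h.leX f.nL, fun u hu => ?_⟩
  · rintro _ ⟨u, hu, rfl⟩
    rw [hι, mem_V4.1 hu, f.w0 h, one_mul]
    exact mul_mem (f.vV _) (h.bd.Z_le_V (mul_mem (zZ _) (dZ _)))
  · obtain ⟨a, b, c, rfl⟩ := eV x hx
    exact ⟨⟨a, 0, b, c⟩, rfl, by rw [hι, f.w0 h, one_mul]⟩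
  · rintro _ ⟨u, hu, rfl⟩
    rw [hι, mem_W4.1 hu, f.v0 h, mul_one]
    exact mul_mem (f.wW _) (h.bd.Z_le_W (mul_mem (zZ _) (dZ _)))
  · obtain ⟨a, y, hy, rfl⟩ := f.decW h hx
    obtain ⟨b, c, rfl⟩ := eZ y hy
    exact ⟨⟨0, a, b, c⟩, rfl, by rw [hι, f.v0 h, mul_one]⟩
  · rintro _ ⟨u, hu, rfl⟩
    rw [hι, mem_V4.1 hu.1, mem_W4.1 hu.2, f.v0 h, f.w0 h, one_mul, one_mul]
    exact mul_mem (zZ _) (dZ _)
  · obtain ⟨b, c, rfl⟩ := eZ x hx
    exact ⟨⟨0, 0, b, c⟩, ⟨rfl, rfl⟩, by rw [hι, f.v0 h, f.w0 h, one_mul, one_mul]⟩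
  · rintro _ ⟨u, hu, rfl⟩
    obtain ⟨h1, h2, h3⟩ := mem_D4.1 hu
    rw [hι, h1, h2, h3, f.v0 h, f.w0 h, f.z0 h, one_mul, one_mul, one_mul]
    exact dD _
  · obtain ⟨c, rfl⟩ := ds x hx
    exact ⟨⟨0, 0, 0, c⟩, ⟨rfl, rfl, rfl⟩, by
      rw [hι, f.v0 h, f.w0 h, f.z0 h, one_mul, one_mul, one_mul]⟩
  · have hg := h.XB_le_NB hy
    obtain ⟨b, hb, e⟩ := f.dec' h hg
    have hb' := mul_mem (h.S_le_NB (h.bd.le hb)) hg
    obtain ⟨u, rfl⟩ : b ∈ ι.range := eB ▸ hb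
    rcases e with ⟨c, c1, c2⟩ | ⟨c, c1, c2⟩
    · obtain ⟨a, b, σ, a0, b0, e⟩ := A1 _ hb' c c1 c2
      exact ⟨u, _, ⟨a, b, σ, a0, b0, Or.inl rfl⟩, e⟩
    · obtain ⟨a, b, σ, a0, b0, e⟩ := A2 _ hb' c c1 c2
      exact ⟨u, _, ⟨a, b, σ, a0, b0, Or.inr rfl⟩, e⟩
  · rintro _ ⟨l, k, hl, hk, rfl⟩
    obtain ⟨a, b, σ, a0, b0, es⟩ := A2 s f.sN f.sV f.sv f.sw
    obtain ⟨μ, hμ⟩ := (frobeniusEquiv K 2).surjective (l ^ 2 * k)⁻¹
    have hμ' : μ ^ 2 = (l ^ 2 * k)⁻¹ := hμ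
    have μ0 : μ ≠ 0 := fun e => inv_ne_zero (mul_ne_zero (pow_ne_zero 2 hl) hk) (by
      rw [← hμ', e]; ring)
    obtain ⟨g, hg, e⟩ := T (l * μ ^ 2) (mul_ne_zero hl (pow_ne_zero 2 μ0))
    obtain ⟨g', hg', e'⟩ := T (σ.symm μ) (by simpa using μ0)
    have e2 := es.conj inj (m'' := mon4 (μ ^ 2)⁻¹ (μ ^ 2) (RingEquiv.refl K)) e' fun u => by
      ext <;> simp [mon4, swp4] <;> field_simp
    refine toY _ (mul_mem hg (mul_mem (mul_mem f.sN hg') (inv_mem f.sN))) _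
      ((e.mul e2).congr fun u _ => ?_)
    ext <;> simp only [mon4, Function.comp_apply, RingEquiv.refl_apply, hμ'] <;> field_simp
  · have hu' : u.a = 0 := hu
    change _ = ι ⟨u.b, 0, u.t, u.c⟩
    simp only [hι, hu', f.w0 h, one_mul]
    rw [← mul_assoc (v u.b), ← zv u.t, ← f.nv u.t, ← f.nz u.b]
    calc n * (v u.t * (z u.b * d u.c)) * n⁻¹
        = n * (v u.t * z u.b) * n⁻¹ * (n * d u.c) * n⁻¹ := by group
      _ = _ := by rw [mem_cent.1 (dD u.c).2 n f.nL]; group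

end Cfsg.Agent.MF
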