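import Mathlib
import Cfsg.Agent.MF.Defs

set_option autoImplicit false
set_option linter.unusedSectionVars false

namespace Cfsg.Agent.MF

open Cfsg Cfsg.Agent.GT Cfsg.Agent.Loc.Mss Cfsg.Agent.Loc.PU Cfsg.Agent.Loc.Blk Cfsg.Agent.Loc.GC
  Cfsg.Agent.Fus Cfsg.Agent.Fus.SU Cfsg.FusionSystem Subgroup
open scoped commutatorElement MatrixGroups

variable {G : Type*} [Group G] [Finite G] {S B V W Z D : Subgroup G} {q : ℕ}
  {F F' : FusionSystem S}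

namespace Ess

theorem inv_Z (h : BD S B V W Z D q) {P P₀ : Subgroup G} (hP : P ≤ S) (h0 : P₀ ≤ P) (hB : P₀ ≤ B) (hZ : Z ≤ P₀)
    (hI : ∀ f, F.Iso P P f → ∀ x ∈ P₀, f x ∈ P₀)
    (hz : ∀ v ∈ P₀, v ^ 2 = 1 → (∀ x ∈ P₀, v * x = x * v) → v ∈ Z) : InvA (F.autGroup P) Z :=
  invA_autGroup_of_iso hP (hZ.trans h0) fun f hf z hzZ => by
    have zP := h0 (hZ hzZ)
    refine hz _ (hI f hf z (hZ hzZ)) (by rw [← hf.mor.map_pow zP, h.eaZ.sq z hzZ, hf.mor.map_one]) fun x hx => ?_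
    obtain ⟨y, hy, rfl⟩ := ((hf.mor.mono h0).iso_self (hI f hf)).surj x hx
    exact (hf.mor.commute_iff zP (h0 hy)).2 (h.mul_Z hzZ (hB hy))

theorem inv_bot {P : Subgroup G} (hP : P ≤ S) : InvA (F.autGroup P) ⊥ :=
  invA_autGroup_of_iso hP bot_le fun f hf x hx => by rw [mem_bot.1 hx, hf.mor.map_one]; exact one_mem _

theorem eq_V (h : BD S B V W Z D q) {P : Subgroup G} (hP : F.IsEssential 2 P) (hB : P ≤ B) {v : G} (hv : v ∈ V)
    (hZ : v ∉ Z) (hc : ∀ x ∈ P, v * x = x * v) : P = V := by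
  have l : P ≤ V := fun x hx => h.cent_V hv hZ (hB hx) (comm_eq_one.2 (hc x hx) ▸ one_mem D)
  exact le_antisymm l fun y hy => hP.mem_of_comm (h.le (h.V_le hy)) fun x hx => mem_cent.1 (h.eaV.ab hy) x (l hx)

theorem swap_false (h : BD S B V W Z D q) {a v : G} (ha : a ∈ 𝐍[B]) (hV : a ∉ 𝐍[V]) (hv : v ∈ V)
    (e : v * (a * v * a⁻¹) = a * v * a⁻¹ * v) : v ∈ Z := by
  have m : a * v * a⁻¹ ∈ W := (h.swap ha hV).1 ▸ mem_cj.2 (by simpa [mul_assoc] using hv)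
  refine (h.nzd v hv _ m (comm_eq_one.2 e ▸ one_mem D)).elim id fun k => ?_
  simpa [mul_assoc] using conj_mem_of_norm' (h.norm_Z ha) k

end Ess

theorem Sq.ess_le (h : Sq S B V W Z D q) (hF : F.IsSaturated 2) {P : Subgroup G}
    (hP : F.IsEssential 2 P) (hB : P ≤ B) : P = B ∨ P = V ∨ P = W := by
  have b := h.bd
  have hZ : Z ≤ P := fun z hz => hP.mem_of_comm (b.le (b.V_le (b.Z_le_V hz))) fun x hx => (b.mul_Z hz (hB hx)).symm
  by_cases hz : ∀ v ∈ P, v ^ 2 = 1 → (∀ x ∈ P, v * x = x * v) → v ∈ Z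
  · refine .inl (le_antisymm hB fun s hs => ?_)
    refine (hP.isRadical b.pg).mem_of_chain2 b.pg hP.isCentric
      (Ess.inv_Z b hP.le le_rfl hB hZ (fun f hf => hf.maps) hz) (Ess.inv_bot hP.le) bot_le bot_le
      ⟨b.le hs, norm_of_comm_le hB (b.comm_B.trans hZ) hs⟩ (fun x hx => ?_) fun x hx => ?_
    · rw [comm_mem_iff_conj]; exact b.comm_mem (inv_mem (hB hx)) hs
    · rw [b.conj_Z hx hs, inv_mul_cancel]; exact one_mem _
  · push Not at hz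
    obtain ⟨v, hv, v2, c, vZ⟩ := hz
    rcases b.mem_or (hB hv) v2 with k | k
    exacts [.inr (.inl (Ess.eq_V b hP hB k vZ c)), .inr (.inr (Ess.eq_V b.symm hP hB k vZ c))]

theorem Sq.ess_sc (h : Sq S B V W Z D q) (hF : F.IsSaturated 2) (hB : F.StronglyClosed B)
    {P : Subgroup G} (hP : F.IsEssential 2 P) : P = B ∨ P = V ∨ P = W := by
  by_cases hPB : P ≤ B
  · exact h.ess_le hF hP hPB
  exfalso
  have b := h.bd
  obtain ⟨a, aP, aB⟩ := SetLike.not_le_iff_exists.1 hPB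
  have aS := hP.le aP
  have aV : a ∉ 𝐍[V] := fun k => aB (h.tB ⟨aS, k⟩)
  have I0 := hB.invA' hP.le
  have r := hP.isRadical b.pg
  have ZB : Z ≤ B := b.Z_le_V.trans b.V_le
  have cm : ∀ {A : Subgroup G} {s x : G}, s ∈ A → s ∈ 𝐍[P] → x ∈ P → x ∈ 𝐍[A] → x⁻¹ * (s * x * s⁻¹) ∈ P ⊓ A :=
    fun hs hn hx hA => ⟨P.mul_mem (P.inv_mem hx) (conj_mem_of_norm hn hx), by
      simpa [mul_assoc] using mul_mem (conj_mem_of_norm' hA hs) (inv_mem hs)⟩
  have hZ : Z ≤ P := by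
    by_contra c
    haveI := (b.pg.to_le (sup_le hP.le (ZB.trans b.le))).isNilpotent
    obtain ⟨y, hy, yP, yN⟩ := PG.exists_mem_normalizer_notMem (N := P) (M := P ⊔ Z) (left_lt_sup.2 c)
    obtain ⟨x, hx, z, hz, rfl⟩ := (mem_sup_norm' (hP.le.trans b.T_norm_Z)).1 hy
    have zN : z ∈ 𝐍[P] := (mul_mem_cancel_left (le_normalizer hx)).1 yN
    refine yP (mul_mem hx (r.mem_of_chain2 b.pg hP.isCentric I0 (Ess.inv_bot hP.le) bot_le bot_le
      ⟨b.le (ZB hz), zN⟩ (fun x hx => cm (ZB hz) zN hx (b.norm (hP.le hx))) fun x hx => ?_))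
    rw [b.mul_Z hz hx.2, mul_inv_cancel_right, inv_mul_cancel]; exact one_mem _
  have IZ : InvA (F.autGroup P) Z := Ess.inv_Z b hP.le inf_le_left inf_le_right (le_inf hZ ZB)
    (fun f hf x hx => I0.iso_mem hf hx) fun v hv v2 c => by
      have c' := c _ ⟨P.mul_mem (P.mul_mem aP hv.1) (P.inv_mem aP), conj_mem_of_norm (b.norm aS) hv.2⟩
      rcases b.mem_or hv.2 v2 with k | k
      · exact Ess.swap_false b (b.norm aS) aV k c'
      · exact Ess.swap_false b.symm (b.norm aS) (fun e => aV ((b.norm_iff (b.norm aS)).2 e)) k c'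
  have k3 : ∀ s ∈ B, s ∈ 𝐍[P] → s ∈ P := fun s hs sN =>
    r.mem_of_chain3 b.pg hP.isCentric I0 IZ (Ess.inv_bot hP.le) (le_inf hZ ZB) bot_le bot_le ⟨b.le hs, sN⟩
      (fun x hx => cm hs sN hx (b.norm (hP.le hx)))
      (fun x hx => by rw [comm_mem_iff_conj]; exact b.comm_mem (inv_mem hx.2) hs)
      fun x hx => by rw [b.conj_Z hx hs, inv_mul_cancel]; exact one_mem _
  obtain ⟨s, hs, sP⟩ := hP.exists_notMem hF b.pg
  by_cases sV : s ∈ 𝐍[V]
  · exact sP (k3 s (h.tB ⟨hs.1, sV⟩) hs.2)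
  · exact sP ((mul_mem_cancel_right aP).1 (k3 _ (h.tB ⟨mul_mem hs.1 aS,
      b.mul_mem_norm (b.norm hs.1) (b.norm aS) sV aV⟩) (mul_mem hs.2 (le_normalizer aP))))

theorem Sq.fn (h : Sq S B V W Z D q) : F.IsFullyNormalized V := by
  have b := h.bd
  refine ⟨b.V_le.trans b.le, fun Q hQ => ?_⟩
  obtain ⟨f, hf⟩ := hQ.exists_iso
  have e : EA Q := ⟨fun x hx => mem_cent.2 fun y hy => by
      obtain ⟨x, hx', rfl⟩ := hf.surj x hx
      obtain ⟨y, hy', rfl⟩ := hf.surj y hy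
      exact (hf.mor.commute_iff hy' hx').2 (mem_cent.1 (b.eaV.ab hx') y hy'), fun x hx => by
    obtain ⟨x, hx', rfl⟩ := hf.surj x hx
    rw [← hf.mor.map_pow hx', b.eaV.sq x hx', hf.mor.map_one]⟩
  rcases b.ea_eq' e (h.ea Q e hf.le_right hf.card_eq.le) hf.card_eq.le with rfl | rfl
  · exact le_rfl
  · exact (congrArg (fun A : Subgroup G => Nat.card A) b.S_eq).le

end Cfsg.Agent.MF
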