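import Mathlib
import Cfsg.Agent.MF.Base
import Cfsg.Agent.Fus.InvGroup
import Cfsg.Agent.Loc.GCBd

/-! Transport of the normalizer of `B` into a finite group and comparison of automizers. -/

set_option autoImplicit false
set_option linter.unusedSectionVars false

namespace Cfsg.Agent.MF

open Cfsg Cfsg.Agent.GT Cfsg.Agent.Loc.Mss Cfsg.Agent.Loc.PU Cfsg.Agent.Loc.Blk Cfsg.Agent.Loc.GC
  Cfsg.Agent.Fus Cfsg.Agent.Fus.SU Cfsg.FusionSystem Subgroup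
open scoped commutatorElement MatrixGroups

variable {G : Type*} [Group G] [Finite G] {A : Type*} [Group A] [Finite A]

theorem exists_psi {U : Type*} [Group U] {ι : U →* G} {j : U →* A} (hι : Function.Injective ι)
    (hj : Function.Injective j) {Y N : Subgroup G} {M : Subgroup A} (hB : ι.range ≤ Y) (hN : N ≤ Y)
    (nrm : Y ≤ 𝐍[ι.range]) (dec : ∀ y ∈ Y, ∃ u, ι u * y ∈ N) (inf : N ⊓ ι.range = ⊥)
    (cen : N ⊓ 𝐂[ι.range] = ⊥) (cenM : M ⊓ 𝐂[j.range] = ⊥) (infM : M ⊓ j.range = ⊥)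
    (h : ∀ n ∈ N, ∃ a ∈ M, ∀ u u', n * ι u * n⁻¹ = ι u' → a * j u * a⁻¹ = j u') :
    ∃ θ : G → A, MulOn Y θ ∧ Set.InjOn θ Y ∧ (∀ u, θ (ι u) = j u) ∧ ∀ n ∈ N, θ n ∈ M := by
  choose! α αM hα using h
  choose! d hd using dec
  have ex : ∀ n ∈ N, ∀ u, ∃ u', n * ι u * n⁻¹ = ι u' := fun n hn u =>
    let ⟨u', e⟩ := conj_mem_of_norm (nrm (hN hn)) (⟨u, rfl⟩ : ι u ∈ ι.range); ⟨u', e.symm⟩
  have uq : ∀ n ∈ N, ∀ a ∈ M, (∀ u u', n * ι u * n⁻¹ = ι u' → a * j u * a⁻¹ = j u') →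
      α n = a := fun n hn a ha e => by
    have : (α n)⁻¹ * a ∈ M ⊓ 𝐂[j.range] := ⟨M.mul_mem (M.inv_mem (αM n hn)) ha,
      mem_centralizer_iff.2 fun _ ⟨u, e'⟩ => by
        obtain ⟨u', e1⟩ := ex n hn u
        have := (hα n hn u u' e1).trans (e u u' e1).symm
        rw [← e']
        calc j u * ((α n)⁻¹ * a) = (α n)⁻¹ * (α n * j u * (α n)⁻¹) * a := by group
          _ = _ := by rw [this]; group⟩
    rwa [cenM, mem_bot, inv_mul_eq_one] at this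
  have αm : ∀ n ∈ N, ∀ n' ∈ N, α (n * n') = α n * α n' := fun n hn n' hn' =>
    uq _ (N.mul_mem hn hn') _ (M.mul_mem (αM n hn) (αM n' hn')) fun u u'' e => by
      obtain ⟨u', e1⟩ := ex n' hn' u
      rw [← hα n hn u' u'' (by rw [← e1, ← e]; group), ← hα n' hn' u u' e1]; group
  have α1 : α 1 = 1 := uq 1 N.one_mem 1 M.one_mem fun u u' e => by
    rw [hι (by simpa using e : ι u = ι u')]; simp
  let θ : G → A := fun y => (j (d y))⁻¹ * α (ι (d y) * y)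
  have key : ∀ u, ∀ n ∈ N, θ (ι u * n) = j u * α n := fun u n hn => by
    have h1 := hd _ (Y.mul_mem (hB ⟨u, rfl⟩) (hN hn))
    have h2 : ι (d (ι u * n) * u) ∈ N ⊓ ι.range := ⟨by
      have := N.mul_mem h1 (N.inv_mem hn)
      rwa [mul_assoc, mul_inv_cancel_right, ← map_mul] at this, ⟨_, rfl⟩⟩
    rw [inf, mem_bot, map_eq_one_iff ι hι, mul_eq_one_iff_eq_inv] at h2
    simp only [θ]
    rw [h2, map_inv, map_inv, inv_inv, inv_mul_cancel_left]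
  have sp : ∀ y ∈ Y, ∃ u, ∃ n ∈ N, y = ι u * n := fun y hy =>
    ⟨(d y)⁻¹, _, hd y hy, by rw [map_inv, inv_mul_cancel_left]⟩
  refine ⟨θ, fun x hx y hy => ?_, fun x hx y hy e => ?_, fun u => ?_, fun n hn => ?_⟩
  · obtain ⟨u, n, hn, rfl⟩ := sp x hx
    obtain ⟨u', n', hn', rfl⟩ := sp y hy
    obtain ⟨w, e⟩ := ex n hn u'
    rw [show ι u * n * (ι u' * n') = ι (u * w) * (n * n') by rw [map_mul, ← e]; group,
      key _ _ (N.mul_mem hn hn'), key _ _ hn, key _ _ hn', map_mul, ← hα n hn _ _ e,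
      αm _ hn _ hn']
    group
  · obtain ⟨u, n, hn, rfl⟩ := sp x hx
    obtain ⟨u', n', hn', rfl⟩ := sp y hy
    rw [key _ _ hn, key _ _ hn'] at e
    have h1 : j (u'⁻¹ * u) ∈ M ⊓ j.range := ⟨by
      rw [show j (u'⁻¹ * u) = α n' * (α n)⁻¹ by
        rw [map_mul, map_inv, eq_mul_inv_iff_mul_eq, mul_assoc, e, inv_mul_cancel_left]]
      exact M.mul_mem (αM _ hn') (M.inv_mem (αM _ hn)), ⟨_, rfl⟩⟩
    rw [infM, mem_bot, map_eq_one_iff j hj, inv_mul_eq_one] at h1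
    subst h1
    have h2 := mul_left_cancel e
    have h3 : n⁻¹ * n' ∈ N ⊓ 𝐂[ι.range] := ⟨N.mul_mem (N.inv_mem hn) hn',
      mem_centralizer_iff.2 fun _ ⟨v, e'⟩ => by
        obtain ⟨w, e1⟩ := ex n hn v
        obtain ⟨w', e2⟩ := ex n' hn' v
        have := hj ((hα n hn _ _ e1).symm.trans (h2 ▸ hα n' hn' _ _ e2))
        subst this
        rw [← e']
        calc ι v * (n⁻¹ * n') = n⁻¹ * (n * ι v * n⁻¹) * n' := by group
          _ = _ := by rw [e1, ← e2]; group⟩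
    rw [cen, mem_bot, inv_mul_eq_one] at h3
    rw [h3]
  · simpa [α1] using key u 1 N.one_mem
  · have := key 1 n hn
    rw [map_one, map_one, one_mul, one_mul] at this
    exact this ▸ αM n hn

theorem exists_pull {S : Subgroup G} (hS : IsPGroup 2 S) {θ : G → A} {H : Subgroup A}
    (h1 : MulOn S θ) (h2 : Set.InjOn θ S) (h3 : img θ S ≤ H) (h4 : ¬ 2 ∣ (img θ S).relIndex H) :
    ∃ F' : FusionSystem S, F'.Realizes θ H ∧ F'.IsSaturated 2 ∧ MG.RealizedIn F' ↥H := by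
  have : Fact (Nat.Prime 2) := ⟨Nat.prime_two⟩
  let η : A → G := Function.invFunOn θ S
  have l : ∀ x ∈ S, η (θ x) = x := fun x hx => h2.leftInvOn_invFunOn hx
  obtain ⟨F', hF⟩ := (fusionSystemOfSubgroup H (img θ S) h3).exists_isIsoVia (θ := η) (η := θ)
    (S' := S) (fun a ha b hb => by
      obtain ⟨x, hx, rfl⟩ := h1.mem_img.1 ha
      obtain ⟨y, hy, rfl⟩ := h1.mem_img.1 hb
      rw [← h1 x hx y hy, l _ hx, l _ hy, l _ (S.mul_mem hx hy)])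
    (le_antisymm (img_le_iff.2 fun a ha => by
      obtain ⟨x, hx, rfl⟩ := h1.mem_img.1 ha
      rwa [l _ hx]) fun x hx => l x hx ▸ mem_img_of_mem (mem_img_of_mem hx))
    fun a ha => by
      obtain ⟨x, hx, rfl⟩ := h1.mem_img.1 ha
      rw [l _ hx]
  have r : F'.Realizes θ H := hF.symm.realizes realizes_ofSubgroup
  exact ⟨F', r, r.isSaturated hS h4, _, r.toSub, by rw [r.img_toSub]; exact h4⟩

theorem Psi.maps {S B V W Z D : Subgroup G} {q : ℕ} (h : Sq S B V W Z D q) {E : FusionSystem S}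
    {f : G → G} (hf : E.Mor S f) : ∀ x ∈ B, f x ∈ B := by
  have k : ∀ X ≤ S, EA X → Nat.card V ≤ Nat.card X → ∀ x ∈ X, f x ∈ B := fun X hX ea c =>
    img_le_iff.1 (h.ea _ ⟨fun a ha => mem_centralizer_iff.2 fun b hb => by
      obtain ⟨x, hx, rfl⟩ := (hf.mem_img hX).1 ha
      obtain ⟨y, hy, rfl⟩ := (hf.mem_img hX).1 hb
      rw [← hf.mulOn _ (hX hy) _ (hX hx), ← hf.mulOn _ (hX hx) _ (hX hy), ea.mul_comm hx hy],
      fun a ha => by
        obtain ⟨x, hx, rfl⟩ := (hf.mem_img hX).1 ha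
        rw [← hf.mulOn.map_pow (hX hx), ea.sq x hx, hf.map_one]⟩
      (img_le_iff.2 fun x hx => hf.mem (hX hx)) (by rwa [hf.card_img hX]))
  have b := h.bd
  have m := hf.mulOn.mono b.le
  rw [← b.sup] at m
  intro x hx
  exact m.mapsTo_sup (k V (b.V_le.trans b.le) b.eaV le_rfl)
    (k W (b.W_le.trans b.le) b.eaW b.cardWV.ge) x (b.sup ▸ hx)

variable {S : Subgroup G} {F : FusionSystem S} {U : Type} [Group U] {𝔐 : Md U} {ι : U →* G}
  {Y N : Subgroup G}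

theorem Src.cmp (h : Src 𝔐 ι S F Y N) {θ : G → A} (h1 : MulOn Y θ) (h2 : Set.InjOn θ Y)
    {H : Subgroup A} {F' : FusionSystem S} (hF : F'.Realizes θ H) (h3 : img θ Y ≤ H)
    (h4 : H ⊓ 𝐍[img θ ι.range] ≤ img θ Y) :
    (∀ f, F.Iso ι.range ι.range f ↔ F'.Iso ι.range ι.range f) ∧
      ∀ f, F.Iso S S f ↔ F'.Iso S S f := by
  have SY := h.syl.le
  have BS := h.sq.bd.le
  have k : ∀ P f, ι.range ≤ P → (∀ x ∈ ι.range, f x ∈ ι.range) →
      (F.Iso P P f ↔ F'.Iso P P f) := fun P f hP hf => ⟨fun i => by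
    obtain ⟨y, hy, e⟩ := h.ind P f i.mor hP hf
    exact ⟨hF.mor_iff.2 ⟨i.mor.le, fun x hx => i.mor.mem hx, θ y, h3 (mem_img_of_mem hy),
      fun x hx => by rw [e x hx, h1.map_conj hy (SY (i.mor.le hx))]⟩, i.maps, i.surj⟩, fun i => by
    obtain ⟨a, ha, e⟩ := hF.exists_conj i.mor
    obtain ⟨y, hy, rfl⟩ := h1.mem_img.1 (h4 ⟨ha, mem_norm_of_cj_le (cj_le_iff.2 fun b hb => by
      obtain ⟨x, hx, rfl⟩ := (h1.mem_img_of_le (BS.trans SY)).1 hb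
      rw [← e x (hP hx)]
      exact mem_img_of_mem (hf x hx))⟩)
    have e' : ∀ x ∈ P, y * x * y⁻¹ = f x := fun x hx =>
      h2 (Y.mul_mem (Y.mul_mem hy (SY (i.mor.le hx))) (Y.inv_mem hy)) (SY (i.mor.mem hx))
        (by rw [e x hx, h1.map_conj hy (SY (i.mor.le hx))])
    exact ⟨(h.mor y hy P i.mor.le fun x hx => e' x hx ▸ i.mor.mem hx).congr e', i.maps, i.surj⟩⟩
  exact ⟨fun f => ⟨fun i => (k _ f le_rfl i.maps).1 i, fun i => (k _ f le_rfl i.maps).2 i⟩,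
    fun f => ⟨fun i => (k _ f BS (Psi.maps h.sq i.mor)).1 i,
      fun i => (k _ f BS (Psi.maps h.sq i.mor)).2 i⟩⟩

theorem Src.odd (h : Src 𝔐 ι S F Y N) : Odd (Nat.card ↥(N ⊓ 𝐍[𝔐.V.map ι])) := by
  have : Fact (Nat.Prime 2) := ⟨Nat.prime_two⟩
  by_contra h2
  obtain ⟨⟨f, fN, fV⟩, hf⟩ := exists_prime_orderOf_dvd_card' 2
    (even_iff_two_dvd.1 (Nat.not_odd_iff_even.1 h2))
  rw [← orderOf_coe] at hf
  replace hf : orderOf f = 2 := hf
  have b := h.sq.bd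
  obtain ⟨g, hg, l⟩ := h.syl.conj_le (P := zpowers f)
    (IsPGroup.of_card (n := 1) (by rw [Nat.card_zpowers, hf, pow_one])) (zpowers_le.2 (h.le fN))
  have m := l (conj_mem_cj (mem_zpowers f))
  have m1 : g * f * g⁻¹ ∈ 𝐍[cj(g, 𝔐.V.map ι)] := cj_norm _ g ▸ conj_mem_cj fV
  have m2 : g * f * g⁻¹ ∈ 𝐍[𝔐.V.map ι] := by
    rcases b.cj_or (h.nrm hg) with ⟨e, -⟩ | ⟨e, -⟩
    · rwa [e] at m1
    · rw [e] at m1
      exact (b.norm_iff (b.norm m)).2 m1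
  have m3 := conj_mem_of_norm' (h.nrm hg) (h.sq.tB ⟨m, m2⟩)
  have m4 : f ∈ N ⊓ ι.range := ⟨fN, by simpa [mul_assoc] using m3⟩
  rw [h.inf, mem_bot] at m4
  rw [m4, orderOf_one] at hf
  omega

end Cfsg.Agent.MF
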