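import Mathlib
import Cfsg.Agent.MF.Base

/-! MF-HAut: automorphisms of subgroups of the group of order 32, by computation on codes. -/

set_option autoImplicit false
set_option linter.unusedSectionVars false

namespace Cfsg.Agent.MF

open Cfsg Cfsg.Agent.GT Cfsg.Agent.Loc.Mss Cfsg.Agent.Loc.PU Cfsg.Agent.Loc.Blk Cfsg.Agent.Loc.GC
  Cfsg.Agent.Fus Cfsg.Agent.Fus.SU Cfsg.FusionSystem Subgroup
open scoped commutatorElement MatrixGroups

namespace HAut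

/-- Codes `t + 2a + 4b + 8c + 16s`. -/
abbrev Cd := Fin 32

/-- Triples of codes. -/
abbrev Tr := Cd × Cd × Cd

/-- The multiplication table. -/
def tbl : ℕ :=
  0x9a3428ab219276382f84bb3c6abba5b37e7a3f68c022ad0a49c860bd8eece12aef1acde968ff9e101e1520e9311657306d943f1d62f9b5375f727d784403a548594c41b5ccfc650be758dd6d49f7dc219276382f009a3428aba5b37e7a3f84bb3c6abb49c860bd8e68c022ad0acde968ff9eece12aef1a311657306d101e1520e9b5375f727d943f1d62f9594c41b5cc784403a548dd6d49f7dcfc650be758428ab009a36382f21927c6abb84bb3e7a3fa5b372ad0a68c020bd8e49c86aef1aece128ff9ecde96520e9101e17306d31165d62f9943f1f727db53753a548784401b5cc594c4be758fc6509f7dcdd6d46382f21927428ab009a3e7a3fa5b37c6abb84bb30bd8e49c862ad0a68c028ff9ecde96aef1aece127306d31165520e9101e1f727db5375d62f9943f11b5cc594c43a548784409f7dcdd6d4be758fc650e7653c66d7a575b847df63443424c72154b005cf8c272ad2f6ce37aef3fe08062290e64a16a6b1eef7e11d6e95b5f199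4f9d73c0152c8531d0910d8d9ca30bdab4deb38ffbbc18820398a45a9287b9acc66d7e7653847dfa575b424c763443005cf2154bad2f68c272ef3fece37a290e6080626b1ee4a16ad6e95f7e1194f9db5f1952c8573c0110d8d31d09bdab49ca30ffbbcdeb38398a4188207b9ac5a928a575b847dfe7653c66d72154b005cf63443424c7ce37aef3fe8c272ad2f64a16a6b1ee08062290e6b5f1994f9df7e11d6e9531d0910d8d73c0152c85deb38ffbbc9ca30bdab45a9287b9ac18820398a4847dfa575bc66d7e7653005cf2154b424c763443ef3fece37aad2f68c2726b1ee4a16a290e60806294f9db5f19d6e95f7e1110d8d31d0952c8573c01ffbbcdeb38bdab49ca307b9ac5a928398a418820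

/-- The product of two codes. -/
def mu (x y : Cd) : Cd := Fin.ofNat 32 (tbl >>> (5 * (32 * x.val + y.val)))

/-- The inverse of a code. -/
def iv (x : Cd) : Cd := Fin.ofNat 32 (0xff7dcbd6d4de7589c6501b9ac3a928598a478820 >>> (5 * x.val))

/-- Conjugation of codes. -/
def cd (s x : Cd) : Cd := mu (mu s x) (iv s)

/-- A coordinate. -/
def bt (x : Cd) (i : ℕ) : Bool := x.val.testBit i

/-- An entry of a triple. -/
def pick (g : Tr) : ℕ → Cd
  | 0 => g.1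
  | 1 => g.2.1
  | _ => g.2.2

/-- The value of a word. -/
def ev (g : Tr) : List ℕ → Cd
  | [] => 0
  | i :: l => mu (pick g i) (ev g l)

/-- Apply a map to a triple. -/
def mp (φ : Cd → Cd) (g : Tr) : Tr := (φ g.1, φ g.2.1, φ g.2.2)

/-- Composition of the maps given by two triples. -/
def cmp (wd : List (List ℕ)) (x y : Tr) : Tr := mp (fun m => ev x (wd.getD m.val [])) y

/-- The two triples satisfy the same relations among `ws`. -/
def Ok (g x : Tr) (ws : List (List ℕ)) : Prop := ∀ l ∈ ws, (ev x l = 0 ↔ ev g l = 0)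

instance (g x : Tr) (ws : List (List ℕ)) : Decidable (Ok g x ws) := by unfold Ok; infer_instance

/-- Search over all candidate images of `g`. -/
def Stg (g : Tr) (w1 w2 w3 : List (List ℕ)) (c : Tr → Prop) : Prop :=
  ∀ x, Ok (g.1, 0, 0) (x, 0, 0) w1 → ∀ y, Ok (g.1, g.2.1, 0) (x, y, 0) w2 → ∀ z, Ok g (x, y, z) w3 → c (x, y, z)

instance (g : Tr) (w1 w2 w3 : List (List ℕ)) (c : Tr → Prop) [DecidablePred c] :
    Decidable (Stg g w1 w2 w3 c) := by unfold Stg; infer_instance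

/-- Words for `S`. -/
def wS : List (List ℕ) :=
  [[], [0], [1, 0, 1], [1, 0, 1, 0], [1, 2, 1], [1, 2, 1, 0], [1, 2, 0, 1], [1, 2, 0, 1, 0], [2], [2, 0], [2, 1,
   0, 1], [2, 1, 0, 1, 0], [2, 1, 2, 1], [2, 1, 2, 1, 0], [0, 1, 0, 1, 0], [0, 1, 0, 1], [1], [0, 1], [1, 0], [2,
   0, 1, 2, 0], [1, 2], [0, 1, 2], [1, 2, 0], [2, 0, 1, 0], [2, 1], [2, 0, 1], [2, 1, 0], [0, 1, 2, 0], [2, 1,
   2], [2, 0, 1, 2], [2, 1, 2, 0], [0, 1, 0]]

/-- Words for `B`. -/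
def wB : List (List ℕ) :=
  [[], [0], [1], [1, 0], [2, 1, 0, 1, 0], [2, 1, 0, 1], [2, 0, 1, 0], [2, 0, 1], [2], [2, 0], [2, 1], [2, 1, 0],
   [1, 0, 1, 0], [1, 0, 1], [0, 1, 0], [0, 1]]

/-- Words for `R`. -/
def wR : List (List ℕ) :=
  [[], [], [], [2, 0], [2, 0, 0], [], [], [0, 0, 0], [2], [], [], [0], [0, 0], [], [], [2, 0, 0, 0], [1], [],
   [], [2, 1, 0], [1, 2], [], [], [1, 0, 0, 0], [2, 1], [], [], [1, 0], [1, 0, 0], [], [], [1, 2, 0]]

/-- Words for `V`. -/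
def wV : List (List ℕ) := [[], [2, 1, 0], [], [], [2, 0], [1], [], [], [2], [1, 0], [], [], [0], [2, 1]]

theorem chkS : Stg (1, 16, 8) [[0, 0]] [[1, 1], [0, 1, 0, 1, 0, 1, 0, 1]]
    [[2, 2], [0, 2, 0, 2], [2, 1, 2, 1, 0, 1, 0, 1, 0, 1, 0, 1]]
    fun x => cmp wS (cmp wS x x) (cmp wS x x) = (1, 16, 8) := by decide +kernel

theorem chkB : Stg (1, 2, 8) [[0, 0]] [[1, 1], [0, 1, 0, 1], [0, 1, 0, 1, 0, 1, 0, 1]]
    [[2, 2], [0, 2, 0, 2], [1, 2, 1, 2], [2], [2, 0, 1, 0, 1]]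
    fun x => cmp wB (cmp wB x x) (cmp wB x x) = (1, 2, 8) := by decide +kernel

/-- The automorphisms of order three of `R`. -/
def lR : List Tr :=
  [(11, 4, 19), (11, 4, 31), (11, 8, 19), (11, 8, 31), (11, 19, 16), (11, 19, 28), (11, 31, 16), (11, 31, 28)]

theorem chkR : Stg (11, 16, 8) [[0, 0], [0, 0, 0, 0]] [[1, 1], [1], [0, 1, 0, 0, 0, 1], [1, 0, 0]]
    [[2, 2], [0, 2, 0, 0, 0, 2], [1, 2, 1, 2, 0, 0]]
    fun x => cmp wR (cmp wR x x) (cmp wR x x) = (11, 16, 8) ∨ cmp wR x x ∈ lR := by decide +kernel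

theorem chkL : ∀ a ∈ lR, ∀ b ∈ lR, ∃ s, a = mp (cd s) b ∨ a = mp (cd s) (cmp wR b b) := by
  have : (lR.all fun a => lR.all fun b => ([0, 8, 16, 24] : List Cd).any fun s =>
      a = mp (cd s) b ∨ a = mp (cd s) (cmp wR b b)) = true := by decide +kernel
  simp only [List.all_eq_true, List.any_eq_true, decide_eq_true_eq] at this
  exact fun a ha b hb => (this a ha b hb).imp fun _ => And.right

/-- The search for `V`. -/
abbrev StV (c : Tr → Prop) : Prop :=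
  Stg (12, 5, 8) [[0], [0, 0]] [[1, 1], [0, 1, 0, 1], [1], [0, 1]]
    [[2, 2], [0, 2, 0, 2], [1, 2, 1, 2], [2], [0, 2], [1, 2], [0, 1, 2]] c

theorem chkV1 : StV fun x => x.1 = 12 → x.2.1 ∈ [0, 5, 9, 12] → bt x.2.2 1 = false →
    cmp wV (cmp wV x x) (cmp wV x x) = (12, 5, 8) := by decide +kernel

theorem chkV2 : StV fun y => ∀ s, cd s y.2.1 = mu y.2.1 y.1 → cd s y.2.2 = y.2.2 →
    ∀ r, cd r y.2.2 = y.2.2 ∨ ∀ l ∈ wV, ev y l ≠ cd r y.2.1 := by decide +kernel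

theorem chkV3 : StV fun x => x.1 ∈ [0, 5, 9, 12] → x.1 = 12 ∨
    (cmp wV (9, 5, 8) x).1 = 12 ∧ ((cmp wV (9, 5, 8) x).2.2 = 8 → x.2.2 = 8) ∨
    (cmp wV (9, 5, 8) (cmp wV (12, 9, 8) x)).1 = 12 ∧
      ((cmp wV (9, 5, 8) (cmp wV (12, 9, 8) x)).2.2 = 8 → x.2.2 = 8) := by decide +kernel

theorem bits : ∀ x y : Cd, bt (mu x y) 4 = xor (bt x 4) (bt y 4) ∧
    bt (mu x y) 0 = xor (bt x 0) (bt y (cond (bt x 4) 1 0)) ∧
    bt (mu x y) 1 = xor (bt x 1) (bt y (cond (bt x 4) 0 1)) ∧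
    bt (mu x y) 2 = xor (xor (bt x 2) (cond (bt x 4) (xor (bt y 3) (bt y 0 && bt y 1)) (bt y 2)))
      (bt x 0 && bt y (cond (bt x 4) 0 1)) ∧
    bt (mu x y) 3 = xor (xor (bt x 3) (cond (bt x 4) (xor (bt y 2) (bt y 0 && bt y 1)) (bt y 3)))
      (bt x 0 && bt y (cond (bt x 4) 0 1)) := by decide +kernel

theorem fin1 : mu 0 0 = 0 ∧ (∀ x, mu (iv x) x = 0) ∧ ∀ x y, mu (iv y) x = 0 → x = y := by decide +kernel

theorem fin2 : ∀ x : Cd, mu (mu (mu x x) (mu x x)) (mu (mu x x) (mu x x)) = 0 := by decide +kernel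

theorem fin3 : ∀ a b c d s : Bool, ∃ m ∈ List.finRange 32,
    bt m 0 = a ∧ bt m 1 = b ∧ bt m 2 = c ∧ bt m 3 = d ∧ bt m 4 = s := by decide +kernel

theorem fin4 : ∀ m : Cd, bt m 4 = false → bt m 0 = false → bt m 1 = false → (bt m 2 = false →
    (bt m 3 = false → m = 0) ∧ (m = 0 ∨ m = 8)) := by decide +kernel

theorem fin5 : ∀ m : Cd, bt m 4 = false → bt m 1 = false → xor (xor (bt m 0) (bt m 2)) (bt m 3) = false →
    m ∈ [0, 5, 9, 12] := by decide +kernel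

/-- The generators of `R`. -/
def Ou (m : Cd) : Prop := bt m 4 = true ∧ mu (mu m m) (mu m m) = 0

instance : DecidablePred Ou := fun m => by unfold Ou; infer_instance

theorem fin6 : (∀ m, Ou m → bt m 0 = bt m 1) ∧ Ou 16 ∧
    (∀ m, bt m 0 = bt m 1 → Ou m ∨ Ou (mu m 16) ∧ mu (mu m 16) 16 = m) ∧
    (∀ m, bt m 0 = bt m 1 → bt (iv m) 0 = bt (iv m) 1) ∧
    ∀ m, bt m 0 = bt m 1 → ∀ n, bt n 0 = bt n 1 → bt (mu m n) 0 = bt (mu m n) 1 := by decide +kernel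

theorem pick_mp (φ : Cd → Cd) (g : Tr) (i : ℕ) : pick (mp φ g) i = φ (pick g i) := by
  rcases i with _ | _ | i <;> rfl

theorem pick_all {q : Cd → Cd → Prop} {g x : Tr} (h1 : q g.1 x.1) (h2 : q g.2.1 x.2.1) (h3 : q g.2.2 x.2.2)
    (i : ℕ) : q (pick g i) (pick x i) := by
  rcases i with _ | _ | i
  exacts [h1, h2, h3]

theorem odd4 {X : Type*} [Group X] {α : X} (ho : Odd (orderOf α)) (h : α * α * (α * α) = 1) : α = 1 :=
  orderOf_eq_one_iff.1 (Nat.Coprime.eq_one_of_dvd (ho.coprime_two_right.pow_right 2)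
    (orderOf_dvd_of_pow_eq_one (by rw [← h]; simp only [pow_succ, pow_zero, one_mul, mul_assoc, Nat.reduceMul])))

theorem mem_of_sq {X : Type*} [Group X] {A : Subgroup X} {α : X} (ho : Odd (orderOf α)) (h : α * α ∈ A) :
    α ∈ A := by
  obtain ⟨k, hk⟩ := ho
  have : α = (α * α) ^ (k + 1) := by
    rw [← pow_two, ← pow_mul, show 2 * (k + 1) = 2 * k + 1 + 1 by ring, pow_succ, ← hk, pow_orderOf_eq_one, one_mul]
  exact this ▸ pow_mem h _

variable {G : Type*} [Group G] [Finite G] {e : Cd → G} {S P : Subgroup G} {F F' : FusionSystem S}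
  {f : G → G} {g x y : Tr} {p : Cd → Prop} {wd : List (List ℕ)}

/-- Coordinates on `S`. -/
structure Fr (e : Cd → G) (S : Subgroup G) : Prop where
  mul : ∀ x y, e (mu x y) = e x * e y
  inj : Function.Injective e
  mem : ∀ g, g ∈ S ↔ ∃ n, g = e n

/-- The triple lies in `P`. -/
def In (e : Cd → G) (P : Subgroup G) (g : Tr) : Prop := ∀ i, e (pick g i) ∈ P

/-- `f` maps the triple `g` to `x`. -/
def Im (e : Cd → G) (f : G → G) (g x : Tr) : Prop := ∀ i, f (e (pick g i)) = e (pick x i)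

theorem Fr.one (h : Fr e S) : e 0 = 1 := by
  have := h.mul 0 0
  rw [fin1.1] at this
  exact mul_eq_left.1 this.symm

theorem Fr.inv (h : Fr e S) (x : Cd) : e (iv x) = (e x)⁻¹ :=
  eq_inv_of_mul_eq_one_left (by rw [← h.mul, fin1.2.1, h.one])

theorem Fr.cd (h : Fr e S) (s x : Cd) : e (cd s x) = e s * e x * (e s)⁻¹ := by
  rw [HAut.cd, h.mul, h.mul, h.inv]

theorem Fr.eq_one (h : Fr e S) {x : Cd} : e x = 1 ↔ x = 0 := by rw [← h.one, h.inj.eq_iff]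

theorem Fr.pg (h : Fr e S) : IsPGroup 2 S := fun s => ⟨3, Subtype.ext (by
  obtain ⟨n, hn⟩ := (h.mem _).1 s.2
  have := congrArg e (fin2 n)
  simp only [h.mul, h.one] at this
  rw [SubgroupClass.coe_pow, hn, OneMemClass.coe_one, ← this]
  simp only [pow_succ, pow_zero, one_mul, mul_assoc, Nat.reduceMul])⟩

theorem Fr.ev_mem (h : Fr e S) (hg : In e P g) : ∀ l, e (ev g l) ∈ P
  | [] => h.one ▸ one_mem P
  | i :: l => by rw [ev, h.mul]; exact mul_mem (hg i) (h.ev_mem hg l)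

theorem Fr.ev (h : Fr e S) (hf : MulOn P f) (hg : In e P g) (hx : Im e f g x) :
    ∀ l, f (e (ev g l)) = e (ev x l)
  | [] => by rw [HAut.ev, HAut.ev, h.one, hf.map_one]
  | i :: l => by rw [HAut.ev, HAut.ev, h.mul, h.mul, hf _ (hg i) _ (h.ev_mem hg l), hx i, h.ev hf hg hx l]

theorem Fr.ok (h : Fr e S) (hf : F.Mor P f) (hg : In e P g) (hx : Im e f g x) (ws : List (List ℕ)) :
    Ok g x ws := fun l _ => by
  rw [← h.eq_one, ← h.eq_one, ← h.ev hf.mulOn hg hx, hf.eq_one_iff (h.ev_mem hg l)]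

theorem Fr.im (h : Fr e S) (hf : F.Mor P f) (hg : In e P g) : ∃ x, Im e f g x := by
  obtain ⟨a, ha⟩ := (h.mem _).1 (hf.mem (hg 0))
  obtain ⟨b, hb⟩ := (h.mem _).1 (hf.mem (hg 1))
  obtain ⟨c, hc⟩ := (h.mem _).1 (hf.mem (hg 2))
  exact ⟨(a, b, c), pick_all (q := fun u v => f (e u) = e v) ha hb hc⟩

theorem Fr.stg (h : Fr e S) (hf : F.Mor P f) (hg : In e P g) (hx : Im e f g x) {w1 w2 w3 : List (List ℕ)}
    {c : Tr → Prop} (hc : Stg g w1 w2 w3 c) : c x := by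
  have h0 : e 0 ∈ P := h.one ▸ one_mem P
  have h1 : f (e 0) = e 0 := by rw [h.one, hf.map_one]
  exact hc x.1 (h.ok hf (pick_all (q := fun u _ => e u ∈ P) (g := (g.1, 0, 0)) (x := g) (hg 0) h0 h0)
      (pick_all (q := fun u v => f (e u) = e v) (g := (g.1, 0, 0)) (x := (x.1, 0, 0)) (hx 0) h1 h1) _) x.2.1
    (h.ok hf (pick_all (q := fun u _ => e u ∈ P) (g := (g.1, g.2.1, 0)) (x := g) (hg 0) (hg 1) h0)
      (pick_all (q := fun u v => f (e u) = e v) (g := (g.1, g.2.1, 0)) (x := (x.1, x.2.1, 0)) (hx 0) (hx 1) h1) _)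
    x.2.2 (h.ok hf hg hx _)

/-- `P` is generated by the triple `g`. -/
structure Gn (e : Cd → G) (S P : Subgroup G) (p : Cd → Prop) (g : Tr) (wd : List (List ℕ)) : Prop where
  fr : Fr e S
  le : P ≤ S
  mem : ∀ m, e m ∈ P ↔ p m
  fin : p g.1 ∧ p g.2.1 ∧ p g.2.2 ∧ ∀ m, p m → ev g (wd.getD m.val []) = m

theorem Gn.i (h : Gn e S P p g wd) : In e P g :=
  pick_all (q := fun u _ => e u ∈ P) (x := g) ((h.mem _).2 h.fin.1) ((h.mem _).2 h.fin.2.1) ((h.mem _).2 h.fin.2.2.1)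

theorem Gn.app (h : Gn e S P p g wd) (hf : MulOn P f) (hx : Im e f g x) {m : Cd} (hm : e m ∈ P) :
    f (e m) = e (ev x (wd.getD m.val [])) := by
  rw [← h.fr.ev hf h.i hx, h.fin.2.2.2 m ((h.mem m).1 hm)]

theorem Gn.mul (h : Gn e S P p g wd) {α β : MulAut P} (hx : Im e (totA α) g x) (hy : Im e (totA β) g y) :
    Im e (totA (α * β)) g (cmp wd x y) := fun i => by
  rw [totA_mul _ _ (h.i i), hy i, cmp, pick_mp, h.app (mulOn_totA α) hx (hy i ▸ totA_mem β (h.i i))]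

theorem Gn.ext (h : Gn e S P p g wd) {α β : MulAut P} (hx : Im e (totA α) g x) (hy : Im e (totA β) g x) :
    α = β := mulAut_ext_totA fun z hz => by
  obtain ⟨m, rfl⟩ := (h.fr.mem z).1 (h.le hz)
  rw [h.app (mulOn_totA α) hx hz, h.app (mulOn_totA β) hy hz]

theorem Gn.four (h : Gn e S P p g wd) {α : MulAut P} (hx : Im e (totA α) g x)
    (e4 : cmp wd (cmp wd x x) (cmp wd x x) = g) : α * α * (α * α) = 1 :=
  h.ext (e4 ▸ h.mul (h.mul hx hx) (h.mul hx hx) :) fun i => totA_one (h.i i)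

theorem Gn.cA (h : Gn e S P p g wd) {s : Cd} (hs : e s ∈ 𝐍[P]) {β : MulAut P} (hy : Im e (totA β) g y) :
    Im e (totA (cAut P (e s) * β)) g (mp (cd s) y) := fun i => by
  rw [totA_mul _ _ (h.i i), totA_cAut hs (totA_mem β (h.i i)), hy i, pick_mp, h.fr.cd]

theorem Gn.nrm (h : Gn e S P p g wd) {s : Cd} (hc : ∀ m, p m → p (cd s m)) : e s ∈ 𝐍[P] :=
  mem_normalizer_fintype fun z hz => by
    obtain ⟨m, rfl⟩ := (h.fr.mem z).1 (h.le hz)
    rw [← h.fr.cd]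
    exact (h.mem _).2 (hc m ((h.mem m).1 hz))

theorem Gn.im (h : Gn e S P p g wd) {α : MulAut P} (hα : α ∈ F.autGroup P) {w1 w2 w3 : List (List ℕ)}
    {c : Tr → Prop} (hc : Stg g w1 w2 w3 c) : ∃ x, Im e (totA α) g x ∧ c x := by
  obtain ⟨x, hx⟩ := h.fr.im (mor_totA h.le hα) h.i
  exact ⟨x, hx, h.fr.stg (mor_totA h.le hα) h.i hx hc⟩

theorem Gn.aut (h : Gn e S P p g wd) (hc : ∀ s m, p m → p (cd s m)) (hF : F.IsSaturated 2)
    (h2 : S ≤ 𝐍[P] → ∀ α ∈ F.autGroup P, Odd (orderOf α) → α ≠ 1 → α ∈ F'.autGroup P) (hf : F.Iso P P f) :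
    F'.Iso P P f := by
  have hn : S ≤ 𝐍[P] := fun z hz => by
    obtain ⟨s, rfl⟩ := (h.fr.mem z).1 hz
    exact h.nrm (hc s)
  obtain ⟨α, hα, k⟩ := hf.exists_aut
  exact (iso_totA h.le (MG.autGroup_le_of_odd h.fr.pg (hF.fullyAutomized h.fr.pg (fnN h.le hn))
    (F'.autInducedBy_le_autGroup h.le) (h2 hn) hα)).congr k

section Coord
variable {K : Type} [Field K] [CharP K 2] {ι : U4 K →* G} {t : G}

/-- A bit as a field element. -/
def κ (K : Type) [Field K] (b : Bool) : K := cond b 1 0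

theorem κ_xor (a b : Bool) : κ K (xor a b) = κ K a + κ K b := by
  cases a <;> cases b <;> simp [κ, CharTwo.add_self_eq_zero]

theorem κ_and (a b : Bool) : κ K (a && b) = κ K a * κ K b := by cases a <;> cases b <;> simp [κ]

theorem κ_sq (a : Bool) : κ K a ^ 2 = κ K a := by cases a <;> simp [κ]

theorem κ_eq {a : Bool} : κ K a = 0 ↔ a = false := by cases a <;> simp [κ]

theorem κ_surj (hK : Nat.card K = 2) (k : K) : ∃ b, κ K b = k := by
  obtain ⟨y, -, hy⟩ := (Nat.card_eq_two_iff' (0 : K)).1 hK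
  by_cases h : k = 0
  exacts [⟨false, h.symm⟩, ⟨true, (hy 1 one_ne_zero).trans (hy k h).symm⟩]

/-- The unipotent part of a code. -/
def uu (K : Type) [Field K] (m : Cd) : U4 K := ⟨κ K (bt m 0), κ K (bt m 1), κ K (bt m 2), κ K (bt m 3)⟩

/-- The element with a given code. -/
def el (ι : U4 K →* G) (t : G) (m : Cd) : G := ι (uu K m) * cond (bt m 4) t 1

theorem uu_mu (x y : Cd) : uu K (mu x y) = uu K x * cond (bt x 4) (swp4 (uu K y)) (uu K y) := by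
  obtain ⟨-, h0, h1, h2, h3⟩ := bits x y
  have h : (2 : K) = 0 := CharTwo.two_eq_zero
  unfold uu
  rw [h0, h1, h2, h3]
  cases bt x 4 <;> ext <;> simp [swp4, κ_xor, κ_and, κ_sq, h, add_assoc]

theorem uu_surj (hK : Nat.card K = 2) (u : U4 K) (s : Bool) : ∃ m, bt m 4 = s ∧ uu K m = u := by
  obtain ⟨a, ha⟩ := κ_surj hK u.t
  obtain ⟨b, hb⟩ := κ_surj hK u.a
  obtain ⟨c, hc⟩ := κ_surj hK u.b
  obtain ⟨d, hd⟩ := κ_surj hK u.c
  obtain ⟨m, -, rfl, rfl, rfl, rfl, h⟩ := fin3 a b c d s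
  exact ⟨m, h, U4.ext ha hb hc hd⟩

theorem el_eq {m : Cd} (h : bt m 4 = false) : el ι t m = ι (uu K m) := by rw [el, h, cond_false, mul_one]

theorem el_mul (h : Sw ι S t swp4) (x y : Cd) : el ι t (mu x y) = el ι t x * el ι t y := by
  have h1 : ∀ u, t * ι u = ι (swp4 u) * t := fun u => by rw [← h.act u trivial, inv_mul_cancel_right]
  unfold el
  rw [uu_mu, (bits x y).1, map_mul]
  cases bt x 4 <;> cases bt y 4 <;> simp [mul_assoc, ← mul_assoc t, h1, h.sq]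

theorem fr (h : Sw ι S t swp4) (hK : Nat.card K = 2) : Fr (el ι t) S := by
  have h0 : el ι t 0 = 1 := by
    have := el_mul h 0 0
    rw [fin1.1] at this
    exact mul_eq_left.1 this.symm
  have hi : ∀ x, el ι t (iv x) = (el ι t x)⁻¹ := fun x =>
    eq_inv_of_mul_eq_one_left (by rw [← el_mul h, fin1.2.1, h0])
  have h1 : ∀ m, el ι t m = 1 → m = 0 := fun m hm => by
    cases hb : bt m 4
    · rw [el_eq hb, ← map_one ι] at hm
      have := h.inj hm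
      exact (fin4 m hb (κ_eq.1 (congrArg U4.t this)) (κ_eq.1 (congrArg U4.a this))
        (κ_eq.1 (congrArg U4.b this))).1 (κ_eq.1 (congrArg U4.c this))
    · rw [el, hb, cond_true, mul_eq_one_iff_inv_eq, ← map_inv] at hm
      have := h.act ⟨1, 0, 0, 0⟩ trivial
      rw [← hm, ← map_inv, ← map_mul, ← map_mul] at this
      simpa [swp4] using congrArg U4.t (h.inj this)
  refine ⟨el_mul h, fun x y e => fin1.2.2 x y (h1 _ (by rw [el_mul h, hi, e, inv_mul_cancel])), fun z => ⟨?_, ?_⟩⟩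
  · let A : Subgroup G :=
      { carrier := {z | ∃ n, z = el ι t n}
        one_mem' := ⟨0, h0.symm⟩
        mul_mem' := by rintro _ _ ⟨a, rfl⟩ ⟨b, rfl⟩; exact ⟨_, (el_mul h a b).symm⟩
        inv_mem' := by rintro _ ⟨a, rfl⟩; exact ⟨_, (hi a).symm⟩ }
    refine fun hz => (h.eq.le.trans (sup_le ?_ (zpowers_le.2 ?_)) : S ≤ A) hz
    · rintro _ ⟨u, rfl⟩
      obtain ⟨m, hm, rfl⟩ := uu_surj hK u false
      exact ⟨m, (el_eq hm).symm⟩
    · obtain ⟨m, hm, e⟩ := uu_surj hK 1 true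
      exact ⟨m, by rw [el, hm, e, map_one, one_mul, cond_true]⟩
  · rintro ⟨n, rfl⟩
    rw [h.eq]
    refine mul_mem (mem_sup_left ⟨_, rfl⟩) (mem_sup_right ?_)
    cases bt n 4
    exacts [one_mem _, mem_zpowers t]

theorem mem_map (h : Sw ι S t swp4) (hK : Nat.card K = 2) {A : Subgroup (U4 K)} {m : Cd} :
    el ι t m ∈ A.map ι ↔ bt m 4 = false ∧ uu K m ∈ A := by
  refine ⟨?_, fun k => ⟨_, k.2, (el_eq k.1).symm⟩⟩
  rintro ⟨u, hu, e⟩
  obtain ⟨n, hn, rfl⟩ := uu_surj hK u false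
  rw [← el_eq (t := t) hn] at e
  exact (fr h hK).inj e ▸ ⟨hn, hu⟩

theorem map_le (h : Sw ι S t swp4) (A : Subgroup (U4 K)) : A.map ι ≤ S :=
  (map_le_range ι A).trans (h.eq ▸ le_sup_left)

theorem mem_B (h : Sw ι S t swp4) (hK : Nat.card K = 2) {m : Cd} : el ι t m ∈ ι.range ↔ bt m 4 = false := by
  rw [MonoidHom.range_eq_map, mem_map h hK, and_iff_left (mem_top _)]

theorem gnS (h : Sw ι S t swp4) (hK : Nat.card K = 2) : Gn (el ι t) S S (fun _ => True) (1, 16, 8) wS :=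
  ⟨fr h hK, le_rfl, fun m => iff_true_intro (((fr h hK).mem _).2 ⟨m, rfl⟩), by decide +kernel⟩

theorem gnB (h : Sw ι S t swp4) (hK : Nat.card K = 2) :
    Gn (el ι t) S ι.range (fun m => bt m 4 = false) (1, 2, 8) wB :=
  ⟨fr h hK, h.eq ▸ le_sup_left, fun _ => mem_B h hK, by decide +kernel⟩

theorem gnV (h : Sw ι S t swp4) (hK : Nat.card K = 2) :
    Gn (el ι t) S ((V4 K).map ι) (fun m => bt m 4 = false ∧ bt m 1 = false) (12, 5, 8) wV :=
  ⟨fr h hK, map_le h _, fun _ => (mem_map h hK).trans (and_congr_right' κ_eq), by decide +kernel⟩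

theorem gnR (h : Sw ι S t swp4) (hK : Nat.card K = 2) :
    Gn (el ι t) S (Out S ι.range 4) (fun m => bt m 0 = bt m 1) (11, 16, 8) wR := by
  have r := fr h hK
  have h1 : ∀ m, el ι t m ∈ {x | x ∈ S ∧ x ∉ ι.range ∧ x ^ 4 = 1} ↔ Ou m := fun m => by
    rw [Set.mem_setOf_eq, and_iff_right ((r.mem _).2 ⟨m, rfl⟩), mem_B h hK, Ou, ← r.eq_one, Bool.not_eq_false]
    simp only [r.mul, pow_succ, pow_zero, one_mul, mul_assoc]
  refine ⟨r, (closure_le _).2 fun x hx => hx.1, fun m => ⟨fun hm => ?_, fun hm => ?_⟩, by decide +kernel⟩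
  · suffices ∀ x ∈ Out S ι.range 4, ∃ n, x = el ι t n ∧ bt n 0 = bt n 1 by
      obtain ⟨n, e, hn⟩ := this _ hm
      exact r.inj e ▸ hn
    intro x hx
    induction hx using closure_induction with
    | mem x hx =>
      obtain ⟨n, rfl⟩ := (r.mem x).1 hx.1
      exact ⟨n, rfl, fin6.1 n ((h1 n).1 hx)⟩
    | one => exact ⟨0, r.one.symm, by decide⟩
    | mul x y _ _ hx hy =>
      obtain ⟨a, rfl, ha⟩ := hx
      obtain ⟨b, rfl, hb⟩ := hy
      exact ⟨_, (r.mul a b).symm, fin6.2.2.2.2 a ha b hb⟩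
    | inv x _ hx =>
      obtain ⟨a, rfl, ha⟩ := hx
      exact ⟨_, (r.inv a).symm, fin6.2.2.2.1 a ha⟩
  · rcases fin6.2.2.1 m hm with k | k
    · exact subset_closure ((h1 m).2 k)
    · rw [← k.2, r.mul]
      exact mul_mem (subset_closure ((h1 _).2 k.1)) (subset_closure ((h1 _).2 fin6.2.1))

end Coord

/-- The stabiliser of `12` fixes `8`. -/
theorem fixV {V : Subgroup G} (h : Gn e S V (fun m => bt m 4 = false ∧ bt m 1 = false) (12, 5, 8) wV)
    (hF : F.IsSaturated 2)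
    (hE : ∀ α ∈ F.autGroup V, ∀ x, Im e (totA α) (12, 5, 8) x → x.2.1 ∈ [0, 5, 9, 12])
    {β : MulAut V} (hβ : β ∈ F.autGroup V) (hx : Im e (totA β) (12, 5, 8) x) (h1 : x.1 = 12) : x.2.2 = 8 := by
  have hA : ∀ {a : MulAut V}, a ∈ MulAction.stabilizer (MulAut V) (⟨e 12, h.i 0⟩ : V) ↔ totA a (e 12) = e 12 :=
    fun {a} => by rw [totA_apply a (x := e 12) (h.i 0)]; exact Subtype.ext_iff
  have hp : IsPGroup 2 (F.autGroup V ⊓ MulAction.stabilizer (MulAut V) (⟨e 12, h.i 0⟩ : V) : Subgroup _) :=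
    fun a => ⟨2, Subtype.ext (by
      obtain ⟨y, hy, k⟩ := h.im a.2.1 chkV1
      rw [SubgroupClass.coe_pow, OneMemClass.coe_one, ← h.four hy (k (h.fr.inj ((hy 0).symm.trans (hA.1 a.2.2)))
        (hE _ a.2.1 y hy) ((h.mem _).1 (hy 2 ▸ totA_mem _ (h.i 2))).2)]
      simp only [pow_succ, pow_zero, one_mul, mul_assoc, Nat.reduceMul])⟩
  obtain ⟨Q, k, hk, -, hQ⟩ := hF.exists_iso_conj_of_isPGroup h.fr.pg h.le hp inf_le_left
  obtain ⟨y, hy⟩ := h.fr.im hk.mor h.i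
  have key : ∀ a ∈ F.autGroup V, ∀ z, Im e (totA a) (12, 5, 8) z → z.1 = 12 →
      ∃ s, ∀ i, ev y (wV.getD (pick z i).val []) = cd s (pick y i) := fun a ha z hz z1 => by
    obtain ⟨s, hs, k1⟩ := mem_autInducedBy.1 (hQ a ⟨ha, hA.2 ((hz 0).trans (congrArg e z1))⟩)
    obtain ⟨s, rfl⟩ := (h.fr.mem s).1 hs
    refine ⟨s, fun i => h.fr.inj ?_⟩
    rw [← h.app hk.mor.mulOn hy (hz i ▸ totA_mem a (h.i i)), ← hz i, ← hk.totA_autCongr a (h.i i),
      totA_apply _ (hk.maps _ (h.i i)), k1, h.fr.cd, ← hy i]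
  have hw : e 2 ∈ 𝐍[V] := h.nrm (by decide +kernel)
  obtain ⟨s, hs⟩ := key _ (mul_mem (F.cAut_mem_autGroup h.le ⟨(h.fr.mem _).2 ⟨2, rfl⟩, hw⟩) (one_mem _)) _
    (h.cA hw fun i => totA_one (h.i i)) (by decide +kernel)
  obtain ⟨r, hr⟩ := key β hβ x hx h1
  have e1 : pick (mp (cd 2) (12, 5, 8)) 1 = 9 ∧ pick (mp (cd 2) (12, 5, 8)) 2 = 8 := by decide +kernel
  have e2 : ∀ m, mu m 0 = m := by decide +kernel
  have s1 := hs 1
  have s2 := hs 2
  rw [e1.1] at s1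
  rw [e1.2] at s2
  rcases h.fr.stg hk.mor h.i hy chkV2 s (s1.symm.trans (congrArg (mu y.2.1) (e2 _))) (s2.symm.trans (e2 _)) r
    with k1 | k1
  · have hm : e x.2.2 ∈ V := hx 2 ▸ totA_mem β (h.i 2)
    exact h.fr.inj (hk.mor.inj hm (h.i 2) ((h.app hk.mor.mulOn hy hm).trans
      ((congrArg e ((hr 2).trans k1)).trans (hy 2).symm)))
  · refine absurd (hr 1) (k1 _ ?_)
    have : ∀ m : Cd, wV.getD m.val [] ∈ wV := by decide +kernel
    exact this _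

end HAut

open HAut

variable {G : Type*} [Group G] [Finite G] {K : Type} [Field K] [CharP K 2] {ι : U4 K →* G}
  {S : Subgroup G} {t : G} {F F' : FusionSystem S}

theorem Sw.autR (h : Sw ι S t swp4) (hK : Nat.card K = 2) (hF : F.IsSaturated 2)
    (hF' : F'.IsSaturated 2) (ho : MG.OddA F' (Out S ι.range 4)) {f : G → G}
    (hf : F.Iso (Out S ι.range 4) (Out S ι.range 4) f) :
    F'.Iso (Out S ι.range 4) (Out S ι.range 4) f := by
  have g := gnR h hK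
  refine g.aut (by decide +kernel) hF (fun hn α hα o1 n1 => ?_) hf
  obtain ⟨ρ, hρ, o2, n2⟩ := MG.exists_odd_of_not_isPGroup ho
  obtain ⟨x, hx, k1⟩ := g.im hα chkR
  obtain ⟨y, hy, k2⟩ := g.im hρ chkR
  obtain ⟨s, k⟩ := chkL _ (k1.resolve_left fun e => n1 (odd4 o1 (g.four hx e))) _
    (k2.resolve_left fun e => n2 (odd4 o2 (g.four hy e)))
  have hs : el ι t s ∈ S := (g.fr.mem _).2 ⟨s, rfl⟩
  have hc := F'.cAut_mem_autGroup g.le ⟨hs, hn hs⟩
  refine mem_of_sq o1 ?_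
  rcases k with k | k
  · rw [g.ext (g.mul hx hx) (k ▸ g.cA (hn hs) (g.mul hy hy) :)]
    exact mul_mem hc (mul_mem hρ hρ)
  · rw [g.ext (g.mul hx hx) (k ▸ g.cA (hn hs) (g.mul (g.mul hy hy) (g.mul hy hy)) :)]
    exact mul_mem hc (mul_mem (mul_mem hρ hρ) (mul_mem hρ hρ))

theorem Sw.autB (h : Sw ι S t swp4) (hK : Nat.card K = 2) (hF : F.IsSaturated 2) {P : Subgroup G}
    (hP : P = ι.range ∨ P = S) {f : G → G} (hf : F.Iso P P f) : F'.Iso P P f := by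
  rcases hP with rfl | rfl
  · refine (gnB h hK).aut (by decide +kernel) hF (fun _ α hα o n => (n ?_).elim) hf
    obtain ⟨x, hx, k⟩ := (gnB h hK).im hα chkB
    exact odd4 o ((gnB h hK).four hx k)
  · refine (gnS h hK).aut (fun _ _ => id) hF (fun _ α hα o n => (n ?_).elim) hf
    obtain ⟨x, hx, k⟩ := (gnS h hK).im hα chkS
    exact odd4 o ((gnS h hK).four hx k)

theorem Sw.invD (h : Sw ι S t swp4) (hK : Nat.card K = 2) (hF : F.IsSaturated 2) {ν : G → G}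
    (hν : F.Iso ((V4 K).map ι) ((V4 K).map ι) ν) (e : ∀ u ∈ V4 K, ν (ι u) = ι ((M4 K).ν u))
    (hE : ∀ f, F.Iso ((V4 K).map ι) ((V4 K).map ι) f → ∀ x ∈ (E4 K).map ι, f x ∈ (E4 K).map ι)
    {f : G → G} (hf : F.Iso ((V4 K).map ι) ((V4 K).map ι) f) :
    ∀ d ∈ (D4 K).map ι, f d ∈ (D4 K).map ι := by
  have g := gnV h hK
  have mE : ∀ {m}, el ι t m ∈ (E4 K).map ι ↔
      bt m 4 = false ∧ bt m 1 = false ∧ xor (xor (bt m 0) (bt m 2)) (bt m 3) = false := fun {m} => by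
    rw [mem_map h hK, ← κ_eq (K := K) (a := bt m 1), ← κ_eq (K := K) (a := xor _ _), κ_xor, κ_xor]
    rfl
  have hE' : ∀ α ∈ F.autGroup ((V4 K).map ι), ∀ x, Im (el ι t) (totA α) (12, 5, 8) x →
      x.1 ∈ [0, 5, 9, 12] ∧ x.2.1 ∈ [0, 5, 9, 12] := fun α hα x hx => by
    have k1 := mE.1 (hx 0 ▸ hE _ (iso_totA g.le hα) _ (mE.2 (by decide +kernel)) :)
    have k2 := mE.1 (hx 1 ▸ hE _ (iso_totA g.le hα) _ (mE.2 (by decide +kernel)) :)
    exact ⟨fin5 _ k1.1 k1.2.1 k1.2.2, fin5 _ k2.1 k2.2.1 k2.2.2⟩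
  have fx := fun β hβ x => fixV (β := β) (x := x) g hF (fun α hα x hx => (hE' α hα x hx).2) hβ
  obtain ⟨α, hα, k⟩ := hf.exists_aut
  obtain ⟨N, hN, kN⟩ := hν.exists_aut
  have iN : Im (el ι t) (totA N) (12, 5, 8) (9, 5, 8) := fun i => by
    rw [kN _ (g.i i)]
    have : ∀ m n, bt m 4 = false → bt n 4 = false → uu K m ∈ V4 K → (M4 K).ν (uu K m) = uu K n →
        ν (el ι t m) = el ι t n := fun m n h1 h2 h3 h4 => by rw [el_eq h1, el_eq h2, e _ h3, h4]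
    exact pick_all (q := fun u v => ν (el ι t u) = el ι t v) (this 12 9 rfl rfl rfl rfl) (this 5 5 rfl rfl rfl rfl)
      (this 8 8 rfl rfl rfl rfl) i
  have hw : el ι t 2 ∈ 𝐍[(V4 K).map ι] := g.nrm (by decide +kernel)
  have hγ := mul_mem (F.cAut_mem_autGroup g.le ⟨(g.fr.mem _).2 ⟨2, rfl⟩, hw⟩) (one_mem _)
  have iγ := g.cA hw fun i => totA_one (g.i i)
  rw [show mp (cd 2) (12, 5, 8) = (12, 9, 8) by decide +kernel] at iγ
  obtain ⟨x, hx, c⟩ := g.im hα chkV3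
  have h8 : x.2.2 = 8 := by
    rcases c (hE' α hα x hx).1 with c | ⟨y1, y2⟩ | ⟨y1, y2⟩
    · exact fx α hα x hx c
    · exact y2 (fx _ (mul_mem hN hα) _ (g.mul iN hx) y1)
    · exact y2 (fx _ (mul_mem hN (mul_mem hγ hα)) _ (g.mul iN (g.mul iγ hx)) y1)
  intro d hd
  obtain ⟨m, rfl⟩ := (g.fr.mem d).1 (map_le h _ hd)
  obtain ⟨b4, b0, b1, b2⟩ := (mem_map h hK).1 hd
  rcases (fin4 m b4 (κ_eq.1 b0) (κ_eq.1 b1) (κ_eq.1 b2)).2 with rfl | rfl
  · rw [g.fr.one, hf.mor.map_one]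
    exact one_mem _
  · rwa [← k (el ι t 8) (g.i 2), show totA α (el ι t 8) = el ι t 8 from (hx 2).trans (congrArg _ h8)]

end Cfsg.Agent.MF
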