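import Mathlib
import Cfsg.Agent.MF.Defs
import Cfsg.Agent.Fus.EssBasic

/-! The essential subgroups of a system on the Sylow 2-subgroup of `Aut(A₆)`. -/

set_option autoImplicit false
set_option linter.unusedSectionVars false

namespace Cfsg.Agent.MF

open Cfsg Cfsg.Agent.GT Cfsg.Agent.Loc.Mss Cfsg.Agent.Loc.PU Cfsg.Agent.Loc.Blk Cfsg.Agent.Loc.GC
  Cfsg.Agent.Fus Cfsg.Agent.Fus.SU Cfsg.FusionSystem Subgroup
open scoped commutatorElement MatrixGroups

namespace HEss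

/-- The concrete group of order 32. -/
@[ext] structure Gm where
  u : U4 (ZMod 2)
  e : Bool

set_option synthInstance.maxSize 2000 in
theorem swp_mul (u v : U4 (ZMod 2)) : swp4 (u * v) = swp4 u * swp4 v := by
  rcases u with ⟨t, a, b, c⟩
  rcases v with ⟨t', a', b', c'⟩
  ext <;> simp only [swp4, U4.mul_t, U4.mul_a, U4.mul_b, U4.mul_c] <;>
    revert t a b c t' a' b' c' <;> decide +kernel

theorem swp_swp (u : U4 (ZMod 2)) : swp4 (swp4 u) = u := by
  rcases u with ⟨t, a, b, c⟩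
  ext <;> simp only [swp4] <;> revert t a b c <;> decide +kernel

theorem swp_one : swp4 (1 : U4 (ZMod 2)) = 1 := by
  ext <;> simp [swp4]

/-- The twist. -/
def tw (e : Bool) (u : U4 (ZMod 2)) : U4 (ZMod 2) := bif e then swp4 u else u

instance instMulGm : Mul Gm := ⟨fun x y => ⟨x.u * tw x.e y.u, xor x.e y.e⟩⟩
instance instOneGm : One Gm := ⟨⟨1, false⟩⟩
instance instInvGm : Inv Gm := ⟨fun x => ⟨tw x.e x.u⁻¹, x.e⟩⟩

theorem mul_u (x y : Gm) : (x * y).u = x.u * tw x.e y.u := rfl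
theorem mul_e (x y : Gm) : (x * y).e = xor x.e y.e := rfl

instance instGroupGm : Group Gm := Group.ofLeftAxioms
  (fun x y z => by
    rcases x with ⟨u, _ | _⟩ <;> rcases y with ⟨v, _ | _⟩ <;> ext1 <;>
      simp [mul_u, mul_e, tw, swp_mul, swp_swp, mul_assoc])
  (fun x => by ext1 <;> simp [mul_u, mul_e, tw, show (1 : Gm).u = 1 from rfl,
    show (1 : Gm).e = false from rfl])
  fun x => by
    rcases x with ⟨u, _ | _⟩ <;> ext1
    · exact inv_mul_cancel u
    · rfl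
    · show swp4 u⁻¹ * swp4 u = 1
      rw [← swp_mul, inv_mul_cancel, swp_one]
    · rfl

/-- Coordinates. -/
def eqv : (ZMod 2 × ZMod 2 × ZMod 2 × ZMod 2 × Bool) ≃ Gm :=
  ⟨fun x => ⟨⟨x.1, x.2.1, x.2.2.1, x.2.2.2.1⟩, x.2.2.2.2⟩,
    fun x => (x.u.t, x.u.a, x.u.b, x.u.c, x.e), fun _ => rfl, fun _ => rfl⟩

instance instFintypeGm : Fintype Gm := Fintype.ofEquiv _ eqv
instance instDecEqGm : DecidableEq Gm := eqv.symm.decidableEq

theorem card_Gm : Nat.card Gm = 32 := by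
  rw [← Nat.card_congr eqv]; simp

/-- The involution outside. -/
def τ : Gm := ⟨1, true⟩
/-- The central involution. -/
def z : Gm := ⟨⟨0, 0, 1, 1⟩, false⟩
/-- A generator of the centre of `R`. -/
def i : Gm := ⟨⟨1, 1, 1, 0⟩, false⟩
/-- A generator of the commutator subgroup. -/
def j : Gm := ⟨⟨1, 1, 0, 0⟩, false⟩

/-- The commutator subgroup. -/
abbrev A (x : Gm) : Prop := x.e = false ∧ x.u.t = x.u.a ∧ x.u.b = x.u.c

theorem f_comm : ∀ x s : Gm, A (x⁻¹ * (s * x * s⁻¹)) := by decide +kernel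

theorem f_eight : ∀ y a : Gm, y.e = true → y.u.t ≠ y.u.a → A a →
    a = 1 ∨ a = y * y ∨ a = y * y * (y * y) ∨ a = y * y * (y * y) * (y * y) := by decide +kernel

theorem f_j : ∀ a : Gm, A a → a = 1 ∨ a = j ∨ a = j * j ∨ a = j * j * j := by decide +kernel

theorem f_mul : ∀ x y : Gm, x.e = false → x.u.t ≠ x.u.a → y.e = true → y.u.t = y.u.a →
    (x * y).e = true ∧ (x * y).u.t ≠ (x * y).u.a := by decide +kernel

theorem f_i : ∀ x : Gm, x.u.t = x.u.a → x * i = i * x := by decide +kernel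

theorem f_R : ∀ x s : Gm, x.u.t = x.u.a → s.u.t = s.u.a →
    x⁻¹ * (s * x * s⁻¹) = 1 ∨ x⁻¹ * (s * x * s⁻¹) = z := by decide +kernel

theorem f_B : ∀ x s : Gm, x.e = false → s.e = false →
    x⁻¹ * (s * x * s⁻¹) = 1 ∨ x⁻¹ * (s * x * s⁻¹) = z := by decide +kernel

theorem f_sq : ∀ x : Gm, x.e = false → x.u.t ≠ 0 → x.u.a ≠ 0 → x * x = z := by decide +kernel

theorem f_sq' : ∀ x : Gm, x.e = false → x ^ 2 ≠ 1 → x.u.t = x.u.a := by decide +kernel

set_option synthInstance.maxSize 2000 in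
theorem f_VW : ∀ x y : Gm, x.e = false → y.e = false → x.u.t ≠ 0 → x.u.a = 0 → y.u.a ≠ 0 →
    y.u.t = 0 → (x * y).u.t ≠ 0 ∧ (x * y).u.a ≠ 0 := by decide +kernel

theorem f_V : ∀ x y : Gm, x.e = false → y.e = false → x.u.a = 0 → y.u.a = 0 → x * y = y * x := by
  decide +kernel

theorem f_W : ∀ x y : Gm, x.e = false → y.e = false → x.u.t = 0 → y.u.t = 0 → x * y = y * x := by
  decide +kernel

theorem f_four : ∀ x : Gm, x.e = true → (x ^ 4 = 1 ↔ x.u.t = x.u.a) := by decide +kernel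

theorem f_mulR : ∀ x y : Gm, x.u.t = x.u.a → y.u.t = y.u.a → (x * y).u.t = (x * y).u.a := by
  decide +kernel

theorem f_invR : ∀ x : Gm, x.u.t = x.u.a → x⁻¹.u.t = x⁻¹.u.a := by decide +kernel

theorem f_conj : ∀ x : Gm, x.e = false → (τ * x * τ⁻¹).e = false := by decide +kernel

theorem f_τ : ∀ x : Gm, x.e = false → x.u.t = x.u.a →
    (x * τ).e = true ∧ (x * τ).u.t = (x * τ).u.a ∧ x = x * τ * τ := by decide +kernel

/-- The subgroup `t = a`. -/
def R : Subgroup Gm where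
  carrier := {x | x.u.t = x.u.a}
  one_mem' := rfl
  mul_mem' := f_mulR _ _
  inv_mem' := f_invR _

/-- The subgroup `e = 0`, `a = 0`. -/
def V : Subgroup Gm where
  carrier := {x | x.e = false ∧ x.u.a = 0}
  one_mem' := ⟨rfl, rfl⟩
  mul_mem' {x y} hx hy := by simp [mul_u, mul_e, tw, hx.1, hx.2, hy.1, hy.2]
  inv_mem' {x} := by revert x; decide +kernel

/-- The subgroup `e = 0`, `t = 0`. -/
def W : Subgroup Gm where
  carrier := {x | x.e = false ∧ x.u.t = 0}
  one_mem' := ⟨rfl, rfl⟩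
  mul_mem' {x y} hx hy := by simp [mul_u, mul_e, tw, hx.1, hx.2, hy.1, hy.2]
  inv_mem' {x} := by revert x; decide +kernel

section Main
variable {G : Type*} [Group G] [Finite G] {S P : Subgroup G} {F : FusionSystem S} {φ : Gm →* G}

theorem sq_mem {x : G} (hx : x ∈ P) : x * x ∈ ⁅P, P⁆ ⊔ powerClosure 2 1 P :=
  mem_sup_right (pow_two x ▸ PG.pow_mem_powerClosure_one hx)

theorem card_S (inj : Function.Injective φ) (hS : S = φ.range) : Nat.card S = 32 := by
  rw [hS, ← card_Gm]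
  exact (Nat.card_congr (MonoidHom.ofInjective inj).toEquiv).symm

theorem pg (inj : Function.Injective φ) (hS : S = φ.range) : IsPGroup 2 S :=
  IsPGroup.of_card (n := 5) (card_S inj hS)

/-- If the commutators with `s` lie in `⟨z⟩ ≤ Φ(P)`, then `s ∈ P`. -/
theorem mem_of_z (inj : Function.Injective φ) (hS : S = φ.range) (hP : F.IsEssential 2 P)
    {y s : Gm} (hy : φ y ∈ P) (hz : y * y = z)
    (h : ∀ x, φ x ∈ P → x⁻¹ * (s * x * s⁻¹) = 1 ∨ x⁻¹ * (s * x * s⁻¹) = z) : φ s ∈ P := by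
  have hΦ : φ z ∈ ⁅P, P⁆ ⊔ powerClosure 2 1 P := by rw [← hz, map_mul]; exact sq_mem hy
  have hzP : φ z ∈ P := by rw [← hz, map_mul]; exact mul_mem hy hy
  have key : ∀ Q : Subgroup G, φ z ∈ Q → ∀ x ∈ P, x⁻¹ * (φ s * x * (φ s)⁻¹) ∈ Q := by
    intro Q hQ x hx
    obtain ⟨x, rfl⟩ : x ∈ φ.range := hS ▸ hP.le hx
    rw [← map_inv, ← map_inv, ← map_mul, ← map_mul, ← map_mul]
    rcases h x hx with e | e <;> rw [e]
    exacts [by rw [map_one]; exact one_mem _, hQ]
  refine (hP.isRadical (pg inj hS)).mem_of_frattini (pg inj hS) hP.isCentric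
    ⟨hS ▸ ⟨s, rfl⟩, mem_normalizer_fintype fun x hx => ?_⟩ (key _ hΦ)
  have := mul_mem hx (key P hzP x hx)
  rwa [mul_inv_cancel_left] at this

theorem no_eight (inj : Function.Injective φ) (hS : S = φ.range) (hF : F.IsSaturated 2)
    (hP : F.IsEssential 2 P) {y : Gm} (hy : φ y ∈ P) (h1 : y.e = true) (h2 : y.u.t ≠ y.u.a) :
    False := by
  obtain ⟨s, hs, hsP⟩ := hP.exists_notMem hF (pg inj hS)
  refine hsP ((hP.isRadical (pg inj hS)).mem_of_frattini (pg inj hS) hP.isCentric hs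
    fun x hx => ?_)
  obtain ⟨x, rfl⟩ : x ∈ φ.range := hS ▸ hP.le hx
  obtain ⟨s, rfl⟩ : s ∈ φ.range := hS ▸ hs.1
  have k : φ (y * y) ∈ ⁅P, P⁆ ⊔ powerClosure 2 1 P := by rw [map_mul]; exact sq_mem hy
  rw [← map_inv, ← map_inv, ← map_mul, ← map_mul, ← map_mul]
  rcases f_eight y _ h1 h2 (f_comm x s) with e | e | e | e <;> rw [e]
  · rw [map_one]; exact one_mem _
  · exact k
  · rw [map_mul]; exact mul_mem k k
  · rw [map_mul, map_mul φ (y * y)]; exact mul_mem (mul_mem k k) k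

theorem eq_map (hS : S = φ.range) (hP : P ≤ S) {Q : Subgroup Gm} (h : ∀ x, φ x ∈ P ↔ x ∈ Q) :
    P = Q.map φ := by
  ext x
  refine ⟨fun hx => ?_, ?_⟩
  · obtain ⟨x, rfl⟩ : x ∈ φ.range := hS ▸ hP hx
    exact mem_map_of_mem _ ((h x).1 hx)
  · rintro ⟨x, hx, rfl⟩
    exact (h x).2 hx

theorem mem_of_comm (hS : S = φ.range) (hP : F.IsEssential 2 P) {s : Gm}
    (h : ∀ x, φ x ∈ P → x * s = s * x) : φ s ∈ P :=
  hP.mem_of_comm (hS ▸ ⟨s, rfl⟩) fun x hx => by
    obtain ⟨x, rfl⟩ : x ∈ φ.range := hS ▸ hP.le hx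
    rw [← map_mul, h x hx, map_mul]

theorem not_B (inj : Function.Injective φ) (hS : S = φ.range) (hP : F.IsEssential 2 P)
    (h : ∀ x, φ x ∈ P ↔ x.e = false) : False := by
  set X : Subgroup G := closure {x | x ∈ P ∧ x ^ 2 ≠ 1} with hX
  have XP : X ≤ P := (closure_le _).2 fun x hx => hx.1
  have iX : InvA (F.autGroup P) X := invA_autGroup_of_iso hP.le XP fun f hf x hx => by
    induction hx using closure_induction with
    | mem x hx =>
      refine subset_closure ⟨hf.maps x hx.1, fun e => hx.2 ?_⟩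
      rwa [← hf.mor.map_pow hx.1, hf.mor.eq_one_iff (pow_mem hx.1 _)] at e
    | one => rw [hf.mor.map_one]; exact one_mem _
    | mul x y hx hy ix iy => rw [hf.mor.map_mul (XP hx) (XP hy)]; exact mul_mem ix iy
    | inv x hx ix => rw [hf.mor.map_inv (XP hx)]; exact inv_mem ix
  have iΦ : InvA (F.autGroup P) (⁅P, P⁆ ⊔ powerClosure 2 1 P) :=
    ((invA_top _).commutator (invA_top _)).sup ((invA_top _).powerClosure 2 1)
  have jP : φ j ∈ P := (h j).2 rfl
  have jX : φ j ∈ X := subset_closure ⟨jP, fun e => by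
    rw [← map_pow, map_eq_one_iff φ inj] at e
    exact absurd e (by decide +kernel)⟩
  have XR : X ≤ R.map φ := (closure_le _).2 fun x hx => by
    obtain ⟨x, rfl⟩ : x ∈ φ.range := hS ▸ hP.le hx.1
    exact mem_map_of_mem _ (f_sq' x ((h x).1 hx.1) fun e => hx.2 (by rw [← map_pow, e, map_one]))
  have hz : z = j * j := by decide +kernel
  have : φ τ ∈ P := by
    refine (hP.isRadical (pg inj hS)).mem_of_chain2 (pg inj hS) hP.isCentric iX (iX.inf iΦ)
      inf_le_left inf_le_right ⟨hS ▸ ⟨τ, rfl⟩, mem_normalizer_fintype fun x hx => ?_⟩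
      (fun x hx => ?_) fun x hx => ?_
    · obtain ⟨x, rfl⟩ : x ∈ φ.range := hS ▸ hP.le hx
      rw [← map_inv, ← map_mul, ← map_mul]
      exact (h _).2 (f_conj x ((h x).1 hx))
    · obtain ⟨x, rfl⟩ : x ∈ φ.range := hS ▸ hP.le hx
      rw [← map_inv, ← map_inv, ← map_mul, ← map_mul, ← map_mul]
      rcases f_j _ (f_comm x τ) with e | e | e | e <;> rw [e]
      · rw [map_one]; exact one_mem _
      · exact jX
      · rw [map_mul]; exact mul_mem jX jX
      · rw [map_mul, map_mul]; exact mul_mem (mul_mem jX jX) jX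
    · obtain ⟨x, hx', rfl⟩ := XR hx
      rw [← map_inv, ← map_inv, ← map_mul, ← map_mul, ← map_mul]
      rcases f_R x τ hx' rfl with e | e <;> rw [e]
      · rw [map_one]; exact one_mem _
      · rw [hz, map_mul]; exact ⟨mul_mem jX jX, sq_mem jP⟩
  exact absurd ((h τ).1 this) (by decide)

theorem main (inj : Function.Injective φ) (hS : S = φ.range) (hF : F.IsSaturated 2)
    (hP : F.IsEssential 2 P) : P = V.map φ ∨ P = W.map φ ∨ P = R.map φ := by
  by_cases hB : ∀ x, φ x ∈ P → x.e = false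
  · by_cases h4 : ∃ y, φ y ∈ P ∧ y.u.t ≠ 0 ∧ y.u.a ≠ 0
    · obtain ⟨y, hy, h1, h2⟩ := h4
      exact (not_B inj hS hP fun s => ⟨hB s, fun hs =>
        mem_of_z inj hS hP hy (f_sq y (hB y hy) h1 h2) fun x hx => f_B x s (hB x hx) hs⟩).elim
    push Not at h4
    by_cases hV : ∀ x, φ x ∈ P → x.u.a = 0
    · exact .inl (eq_map hS hP.le fun s => ⟨fun hs => ⟨hB s hs, hV s hs⟩, fun hs =>
        mem_of_comm hS hP fun x hx => f_V x s (hB x hx) hs.1 (hV x hx) hs.2⟩)
    push Not at hV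
    obtain ⟨y, hy, ha⟩ := hV
    have hW : ∀ x, φ x ∈ P → x.u.t = 0 := fun x hx => by
      by_contra ht
      have := f_VW x y (hB x hx) (hB y hy) ht (h4 x hx ht) ha
        (by_contra fun k => ha (h4 y hy k))
      exact this.2 (h4 _ (by rw [map_mul]; exact mul_mem hx hy) this.1)
    exact .inr (.inl (eq_map hS hP.le fun s => ⟨fun hs => ⟨hB s hs, hW s hs⟩, fun hs =>
      mem_of_comm hS hP fun x hx => f_W x s (hB x hx) hs.1 (hW x hx) hs.2⟩))
  push Not at hB
  obtain ⟨y, hy, he⟩ := hB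
  rw [Bool.ne_false_iff] at he
  have hR : ∀ x, φ x ∈ P → x.u.t = x.u.a := fun x hx => by
    by_contra k
    rcases ex : x.e with _ | _
    · have := f_mul x y ex k he (by_contra fun k' => no_eight inj hS hF hP hy he k')
      exact no_eight inj hS hF hP (by rw [map_mul]; exact mul_mem hx hy) this.1 this.2
    · exact no_eight inj hS hF hP hx ex k
  exact .inr (.inr (eq_map hS hP.le fun s => ⟨hR s, fun hs =>
    mem_of_z inj hS hP (mem_of_comm hS hP fun x hx => f_i x (hR x hx)) (by decide +kernel)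
      fun x hx => f_R x s (hR x hx) hs⟩))

theorem out_eq (inj : Function.Injective φ) (hS : S = φ.range) {B : Subgroup G}
    (hB : ∀ x, φ x ∈ B ↔ x.e = false) : R.map φ = Out S B 4 := by
  have k : ∀ x : Gm, x.e = true → x.u.t = x.u.a → φ x ∈ Out S B 4 := fun x h1 h2 =>
    subset_closure ⟨hS ▸ ⟨x, rfl⟩, by simp [hB, h1], by
      rw [← map_pow, (f_four x h1).2 h2, map_one]⟩
  refine le_antisymm ?_ ((closure_le _).2 ?_)
  · rintro _ ⟨x, hx, rfl⟩
    rcases ex : x.e with _ | _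
    · obtain ⟨h1, h2, h3⟩ := f_τ x ex hx
      rw [h3, map_mul]
      exact mul_mem (k _ h1 h2) (k τ rfl rfl)
    · exact k x ex hx
  · rintro x ⟨h1, h2, h3⟩
    obtain ⟨x, rfl⟩ : x ∈ φ.range := hS ▸ h1
    rw [← map_pow, map_eq_one_iff φ inj] at h3
    exact mem_map_of_mem _ ((f_four x (by simpa [hB] using h2)).1 h3)

end Main

section Tr
variable {G : Type*} [Group G] [Finite G] {K : Type} [Field K] [CharP K 2] {ι : U4 K →* G}
  {S : Subgroup G} {t : G}

/-- The prime field. -/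
def κ (K : Type) [Field K] [CharP K 2] : ZMod 2 →+* K := ZMod.castHom (dvd_refl 2) K

/-- Extension of scalars. -/
def mu (K : Type) [Field K] [CharP K 2] : U4 (ZMod 2) →* U4 K :=
  MonoidHom.mk' (fun u => ⟨κ K u.t, κ K u.a, κ K u.b, κ K u.c⟩) fun u v => by
    ext <;> simp only [U4.mul_t, U4.mul_a, U4.mul_b, U4.mul_c, map_add, map_mul, map_pow, map_ofNat]

theorem mu_swp (u : U4 (ZMod 2)) : mu K (swp4 u) = swp4 (mu K u) := by
  ext <;> simp only [mu, swp4, MonoidHom.mk'_apply, map_add, map_mul, map_pow]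

theorem mu_inj : Function.Injective (mu K) := fun u v e => by
  have i := (κ K).injective
  ext
  exacts [i (congrArg U4.t e), i (congrArg U4.a e), i (congrArg U4.b e), i (congrArg U4.c e)]

theorem mu_surj (hK : Nat.card K = 2) : Function.Surjective (mu K) := fun u => by
  have : Finite K := Nat.finite_of_card_ne_zero (by omega)
  have s : Function.Surjective (κ K) :=
    ((Nat.bijective_iff_injective_and_card _).2 ⟨(κ K).injective, by simp [hK]⟩).2
  obtain ⟨t, ht⟩ := s u.t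
  obtain ⟨a, ha⟩ := s u.a
  obtain ⟨b, hb⟩ := s u.b
  obtain ⟨c, hc⟩ := s u.c
  exact ⟨⟨t, a, b, c⟩, U4.ext ht ha hb hc⟩

/-- The coordinates on `S`. -/
def ph (h : Sw ι S t swp4) : Gm →* G :=
  MonoidHom.mk' (fun x => ι (mu K x.u) * bif x.e then t else 1) fun x y => by
    have a : ∀ u, t * ι u = ι (swp4 u) * t := fun u => by rw [← h.act u trivial]; group
    rcases x with ⟨u, _ | _⟩ <;> rcases y with ⟨v, _ | _⟩ <;>
      simp only [mul_u, mul_e, tw, cond_true, cond_false, map_mul, mu_swp, mul_one, mul_assoc,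
        Bool.xor_false, Bool.xor_true, Bool.not_false, Bool.not_true]
    · rw [a]
    · rw [← mul_assoc t, a, mul_assoc, h.sq, mul_one]

theorem ph_false (h : Sw ι S t swp4) (u : U4 (ZMod 2)) : ph h ⟨u, false⟩ = ι (mu K u) :=
  mul_one _

theorem ph_true (h : Sw ι S t swp4) (u : U4 (ZMod 2)) : ph h ⟨u, true⟩ = ι (mu K u) * t := rfl

theorem t_notMem (h : Sw ι S t swp4) : t ∉ ι.range := by
  rintro ⟨u, rfl⟩
  have := h.act ⟨1, 0, 0, 0⟩ trivial
  rw [← map_inv, ← map_mul, ← map_mul] at this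
  simpa [swp4] using congrArg U4.t (h.inj this)

theorem ph_mem (h : Sw ι S t swp4) (x : Gm) : ph h x ∈ ι.range ↔ x.e = false := by
  rcases x with ⟨u, _ | _⟩
  · simp [ph_false]
  · simp only [ph_true, Bool.true_eq_false, iff_false]
    exact fun k => t_notMem h ((mul_mem_cancel_left (MonoidHom.mem_range.2 ⟨_, rfl⟩)).1 k)

theorem ph_inj (h : Sw ι S t swp4) : Function.Injective (ph h) := by
  refine (injective_iff_map_eq_one _).2 fun x hx => ?_
  have := (ph_mem h x).1 (hx ▸ one_mem _)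
  rcases x with ⟨u, e⟩
  obtain rfl : e = false := this
  rw [ph_false, map_eq_one_iff _ h.inj, map_eq_one_iff _ mu_inj] at hx
  subst hx; rfl

theorem ph_range (h : Sw ι S t swp4) (hK : Nat.card K = 2) : S = (ph h).range := by
  refine h.eq.trans (le_antisymm (sup_le ?_ ?_) ?_)
  · rintro _ ⟨u, rfl⟩
    obtain ⟨u, rfl⟩ := mu_surj hK u
    exact ⟨⟨u, false⟩, ph_false h u⟩
  · exact zpowers_le_of_mem ⟨τ, by simp [τ, ph_true]⟩
  · rintro _ ⟨⟨u, _ | _⟩, rfl⟩
    · rw [ph_false]; exact mem_sup_left ⟨_, rfl⟩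
    · exact mul_mem (mem_sup_left ⟨_, rfl⟩) (mem_sup_right (mem_zpowers t))

theorem map_eq (h : Sw ι S t swp4) (hK : Nat.card K = 2) {Q : Subgroup Gm} {Q' : Subgroup (U4 K)}
    (e : ∀ x : Gm, x ∈ Q ↔ x.e = false ∧ mu K x.u ∈ Q') : Q.map (ph h) = Q'.map ι := by
  ext x
  constructor
  · rintro ⟨⟨u, b⟩, hx, rfl⟩
    obtain ⟨rfl, k⟩ := (e _).1 hx
    exact ⟨_, k, (ph_false h u).symm⟩
  · rintro ⟨u, hu, rfl⟩
    obtain ⟨u, rfl⟩ := mu_surj hK u
    exact ⟨⟨u, false⟩, (e _).2 ⟨rfl, hu⟩, ph_false h u⟩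

end Tr

end HEss

variable {G : Type*} [Group G] [Finite G] {K : Type} [Field K] [CharP K 2] {ι : U4 K →* G}
  {S : Subgroup G} {t : G} {F F' : FusionSystem S}

theorem Sw.essH (h : Sw ι S t swp4) (hK : Nat.card K = 2) (hF : F.IsSaturated 2) {P : Subgroup G}
    (hP : F.IsEssential 2 P) :
    P = (V4 K).map ι ∨ P = (W4 K).map ι ∨ P = Out S ι.range 4 := by
  rw [← HEss.map_eq h hK (Q := HEss.V) fun x => and_congr_right fun _ =>
      (map_eq_zero_iff _ (HEss.κ K).injective).symm,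
    ← HEss.map_eq h hK (Q := HEss.W) fun x => and_congr_right fun _ =>
      (map_eq_zero_iff _ (HEss.κ K).injective).symm,
    ← HEss.out_eq (HEss.ph_inj h) (HEss.ph_range h hK) (HEss.ph_mem h)]
  exact HEss.main (HEss.ph_inj h) (HEss.ph_range h hK) hF hP

theorem Sw.cardH (h : Sw ι S t swp4) (hK : Nat.card K = 2) : Nat.card S = 32 :=
  HEss.card_S (HEss.ph_inj h) (HEss.ph_range h hK)

end Cfsg.Agent.MF
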