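import Mathlib
import Cfsg.Agent.MF.Base

/-! From data in a group with trivial centre to the target in its automorphism group. -/

set_option autoImplicit false
set_option linter.unusedSectionVars false

namespace Cfsg.Agent.MF

open Cfsg Cfsg.Agent.GT Cfsg.Agent.Loc.Mss Subgroup

variable {U : Type} [Group U] {P P' : Type*} [Group P] [Group P'] [Finite P]

/-- The data in the group itself. -/
structure Dat (𝔐 : Md U) (e : U →* P) (M : Subgroup (MulAut P)) : Prop where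
  zen : center P = ⊥
  inj : Function.Injective e
  act : ∀ α ∈ M, ∀ u, ∃ u', α (e u) = e u'
  one : ∀ α ∈ M, ∀ w : U, (∀ u, α (e u) = e (w * u * w⁻¹)) → α = 1
  mon : ∀ m, 𝔐.Mon m → ∃ α ∈ M, ∀ u, α (e u) = e (m u)
  bor : ∀ g ∈ 𝐍[e.range], ∃ u m, MulAut.conj (e u * g) ∈ M ∧ 𝔐.Tor m ∧ Acts e ⊤ (e u * g) m
  nu : ∃ n, Acts e 𝔐.V n 𝔐.ν
  odd : ¬ 2 ∣ e.range.index
  borV : 𝐍[e.range] ≤ 𝐍[𝔐.V.map e]
  invD : 𝐍[𝔐.V.map e] ≤ 𝐍[𝔐.D.map e]

theorem Dat.norm_map {A : Type*} [Group A] {c : P →* A} (hc : Function.Injective c)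
    {X : Subgroup P} {g : P} : c g ∈ 𝐍[X.map c] ↔ g ∈ 𝐍[X] := by
  refine ⟨fun h => mem_normalizer_iff.2 fun x => ?_, fun h => le_normalizer_map c ⟨g, h, rfl⟩⟩
  rw [← mem_map_iff_mem hc, mem_normalizer_iff.1 h, ← map_inv, ← map_mul, ← map_mul,
    mem_map_iff_mem hc]

theorem Dat.tg {𝔐 : Md U} {e : U →* P} {M : Subgroup (MulAut P)} (h : Dat 𝔐 e M) (π : P ≃* P') :
    ∃ (j : U →* MulAut P') (M' : Subgroup (MulAut P')),
      Tg 𝔐 j M' (MulAut.conj : P' →* MulAut P').range := by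
  have : Finite P' := Finite.of_equiv _ π.toEquiv
  let E := (MulAut.congr π).toMonoidHom
  let c : P →* MulAut P' := E.comp MulAut.conj
  have ec : ∀ s, c s = MulAut.conj (π s) := fun s => by ext x; simp [c, E, MulAut.congr]
  have hc : Function.Injective c := (MulAut.congr π).injective.comp
    ((injective_iff_map_eq_one _).2 fun s hs => by
      rw [← mem_bot, ← h.zen]
      exact mem_center_iff.2 fun g => by
        have : s * g * s⁻¹ = g := DFunLike.congr_fun hs g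
        exact (mul_inv_eq_iff_eq_mul.1 this).symm)
  have key : ∀ (α : MulAut P) s, E α * c s * (E α)⁻¹ = c (α s) := fun α s => by
    change E α * E _ * _ = E _
    rw [← map_inv, ← map_mul, ← map_mul]
    congr 1
    ext x; simp
  have hL : ∀ l ∈ (MulAut.conj : P' →* MulAut P').range, ∃ g, c g = l := by
    rintro _ ⟨g, rfl⟩
    exact ⟨π.symm g, by rw [ec, MulEquiv.apply_symm_apply]⟩
  have cL : ∀ g, c g ∈ (MulAut.conj : P' →* MulAut P').range := fun g => ⟨_, (ec g).symm⟩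
  have ac : ∀ {Q : Subgroup U} {g : P} {m : U → U}, Acts e Q g m → Acts (c.comp e) Q (c g) m :=
    fun hg u hu => by
      simp only [MonoidHom.comp_apply]
      rw [← hg u hu, map_mul, map_mul, map_inv]
  refine ⟨c.comp e, M.map E, ⟨⟨hc.comp h.inj, ?_, ?_, ?_, fun m hm => ?_⟩, ⟨?_⟩, ?_, fun l hl hn => ?_,
    ?_⟩, ?_, fun l hl => ?_, fun l hl => ?_⟩
  · rintro _ ⟨α, hα, rfl⟩
    refine mem_norm_of_cj_le (cj_le_iff.2 ?_)
    rintro _ ⟨u, rfl⟩
    obtain ⟨u', hu⟩ := h.act α hα u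
    exact ⟨u', ((key α _).trans (congrArg c hu)).symm⟩
  · refine eq_bot_iff.2 ?_
    rintro _ ⟨⟨α, hα, rfl⟩, h2⟩
    rw [h.one α hα 1 fun u => hc ?_, map_one]
    · exact one_mem _
    · rw [← key, ← show _ = E α * c (e u) from mem_cent.1 h2 _ ⟨u, rfl⟩]
      simp
  · refine eq_bot_iff.2 ?_
    rintro _ ⟨⟨α, hα, rfl⟩, w, h2⟩
    rw [h.one α hα w fun u => hc ?_, map_one]
    · exact one_mem _
    · rw [← key, ← h2]
      simp
  · obtain ⟨α, hα, h1⟩ := h.mon m hm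
    exact ⟨_, ⟨α, hα, rfl⟩, fun u _ => (key α _).trans (congrArg c (h1 u))⟩
  · intro l hl a
    obtain ⟨g, rfl⟩ := hL l hl
    obtain ⟨α, rfl⟩ := (MulAut.congr π).surjective a
    exact key α g ▸ cL _
  · rintro _ ⟨u, rfl⟩
    exact cL _
  · obtain ⟨g, rfl⟩ := hL l hl
    rw [← MonoidHom.map_range, Dat.norm_map hc] at hn
    obtain ⟨u, m, h1, h2, h3⟩ := h.bor g hn
    have e1 : (c.comp e) u * c g = c (e u * g) := (map_mul c _ _).symm
    exact ⟨u, m, e1 ▸ ⟨_, h1, rfl⟩, h2, e1 ▸ ac h3⟩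
  · obtain ⟨n, hn⟩ := h.nu
    exact ⟨c n, cL n, ac hn⟩
  · have : (MulAut.conj : P' →* MulAut P').range = (⊤ : Subgroup P).map c :=
      le_antisymm (fun l hl => by obtain ⟨g, rfl⟩ := hL l hl; exact ⟨g, mem_top _, rfl⟩)
        (by rintro _ ⟨g, -, rfl⟩; exact cL g)
    rw [this, ← MonoidHom.map_range, relIndex_map_map_of_injective _ _ hc, relIndex_top_right]
    exact h.odd
  · obtain ⟨g, rfl⟩ := hL l hl.1
    have h2 : c g ∈ 𝐍[(c.comp e).range] := hl.2
    rw [← MonoidHom.map_range, Dat.norm_map hc] at h2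
    rw [← map_map, Dat.norm_map hc]
    exact h.borV h2
  · obtain ⟨g, rfl⟩ := hL l hl.1
    have h2 : c g ∈ 𝐍[𝔐.V.map (c.comp e)] := hl.2
    rw [← map_map, Dat.norm_map hc] at h2 ⊢
    exact h.invD h2

end Cfsg.Agent.MF
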