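import Mathlib
import Cfsg.Agent.MF.TgD
import Cfsg.Agent.MF.Alg4
import Cfsg.Agent.Cl.AutSp4
import Cfsg.Agent.Cl.SpOrder

/-! The target for `Sp₄(q)`. -/

set_option autoImplicit false
set_option linter.unusedSectionVars false

namespace Cfsg.Agent.MF

open Cfsg Cfsg.Agent.GT Cfsg.Agent.Loc.Mss Cfsg.Agent.Loc.PU Cfsg.Agent.Loc.Blk Cfsg.Agent.Loc.GC
  Cfsg.Agent.Fus Cfsg.Agent.Fus.SU Cfsg.FusionSystem Subgroup
open scoped commutatorElement MatrixGroups

namespace Tg4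
open Matrix Cl.Aut
variable {K : Type} [Field K] [CharP K 2]

/-- The matrix for the antidiagonal form. -/
def mat (s : symplecticGroup (Fin 2) K) : Matrix (Fin 4) (Fin 4) K := s.1.submatrix e4 e4

theorem mat_mul (s s' : symplecticGroup (Fin 2) K) : mat (s * s') = mat s * mat s' :=
  (Matrix.submatrix_mul_equiv _ _ _ e4 _).symm

theorem mat_inj {s s' : symplecticGroup (Fin 2) K} (h : mat s = mat s') : s = s' :=
  Subtype.ext ((Matrix.reindex e4.symm e4.symm).injective h)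

theorem mat_sp (s : symplecticGroup (Fin 2) K) :
    (mat s)ᵀ * suzukiForm K * mat s = suzukiForm K := mem_sp_iff_e4.1 s.2

/-- The element with a given matrix. -/
def mk (A : Matrix (Fin 4) (Fin 4) K) (h : Aᵀ * suzukiForm K * A = suzukiForm K) :
    symplecticGroup (Fin 2) K :=
  ⟨A.submatrix e4.symm e4.symm, mem_sp_iff_e4.2 (by simpa using h)⟩

theorem mat_mk (A : Matrix (Fin 4) (Fin 4) K) (h : Aᵀ * suzukiForm K * A = suzukiForm K) :
    mat (mk A h) = A := by simp [mat, mk]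

theorem mat_hom (s : symplecticGroup (Fin 2) K) : mat (sp4Hom K s) = Lie.star4 (mat s) := by
  simp [mat, coe_sp4Hom]

theorem mat_one : mat (1 : symplecticGroup (Fin 2) K) = 1 := by simp [mat]

/-- The unipotent matrices. -/
def uM (u : U4 K) : Matrix (Fin 4) (Fin 4) K :=
  !![1, u.t, u.b, u.c + u.t * u.b; 0, 1, u.a, u.b + u.t * u.a; 0, 0, 1, u.t; 0, 0, 0, 1]

theorem uM_sp (u : U4 K) : (uM u)ᵀ * suzukiForm K * uM u = suzukiForm K := by
  ext i j
  fin_cases i <;> fin_cases j <;>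
    simp [uM, suzukiForm, Matrix.mul_apply, Fin.sum_univ_succ] <;> grind

variable (K) in
/-- The unipotent group. -/
def emb : U4 K →* symplecticGroup (Fin 2) K :=
  MonoidHom.mk' (fun u => mk (uM u) (uM_sp u)) fun x y => mat_inj (by
    rw [mat_mul, mat_mk, mat_mk, mat_mk]
    ext i j
    fin_cases i <;> fin_cases j <;> simp [uM, Matrix.mul_apply, Fin.sum_univ_succ] <;> grind)

theorem mat_emb (u : U4 K) : mat (emb K u) = uM u := mat_mk _ (uM_sp u)

theorem emb_inj : Function.Injective (emb K) := fun x y h => by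
  have h := fun i j => congrFun (congrFun ((mat_emb x).symm.trans
    ((congrArg mat h).trans (mat_emb y))) i) j
  have h1 : x.t = y.t := by simpa [uM] using h 0 1
  have h2 : x.b = y.b := by simpa [uM] using h 0 2
  exact U4.ext h1 (by simpa [uM] using h 1 2) h2 (by simpa [uM, h1, h2] using h 0 3)

/-- The diagonal matrices. -/
def dM (l k : K) : Matrix (Fin 4) (Fin 4) K := !![l, 0, 0, 0; 0, k, 0, 0; 0, 0, k⁻¹, 0; 0, 0, 0, l⁻¹]

/-- The diagonal elements. -/
def dg (l k : Kˣ) : symplecticGroup (Fin 2) K := mk (dM l k) (by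
  ext i j
  fin_cases i <;> fin_cases j <;> simp [dM, suzukiForm, Matrix.mul_apply, Fin.sum_univ_succ])

theorem mat_dg (l k : Kˣ) : mat (dg l k) = dM (l : K) k := mat_mk _ _

theorem dg_mul (l k l' k' : Kˣ) : dg l k * dg l' k' = dg (l * l') (k * k') := mat_inj (by
  rw [mat_mul, mat_dg, mat_dg, mat_dg]
  ext i j
  fin_cases i <;> fin_cases j <;> simp [dM, Matrix.mul_apply, Fin.sum_univ_succ, mul_comm])

theorem dg_one : dg (1 : Kˣ) 1 = 1 := mat_inj (by
  rw [mat_dg, mat_one]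
  ext i j
  fin_cases i <;> fin_cases j <;> simp [dM])

theorem dg_emb (l k : Kˣ) (u : U4 K) : dg l k * emb K u * (dg l k)⁻¹ =
    emb K (mon4 (l * (k : K)⁻¹) (k ^ 2) (RingEquiv.refl K) u) :=
  mul_inv_eq_iff_eq_mul.2 (mat_inj (by
    rw [mat_mul, mat_mul, mat_dg, mat_emb, mat_emb]
    have := l.ne_zero
    have := k.ne_zero
    ext i j
    fin_cases i <;> fin_cases j <;> simp [dM, uM, mon4, Matrix.mul_apply, Fin.sum_univ_succ] <;>
      field_simp))

theorem map_sp (σ : K ≃+* K) (s : symplecticGroup (Fin 2) K) :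
    ((mat s).map σ)ᵀ * suzukiForm K * (mat s).map σ = suzukiForm K := by
  have e : (suzukiForm K).map σ = suzukiForm K := by
    ext i j
    fin_cases i <;> fin_cases j <;> simp [suzukiForm]
  rw [← Matrix.transpose_map, ← e, ← Matrix.map_mul, ← Matrix.map_mul, mat_sp]

/-- The field automorphisms. -/
def phi (σ : K ≃+* K) : MulAut (symplecticGroup (Fin 2) K) where
  toFun s := mk _ (map_sp σ s)
  invFun s := mk _ (map_sp σ.symm s)
  left_inv s := mat_inj (by rw [mat_mk, mat_mk]; ext i j; simp)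
  right_inv s := mat_inj (by rw [mat_mk, mat_mk]; ext i j; simp)
  map_mul' s s' := mat_inj (by rw [mat_mk, mat_mul, mat_mul, mat_mk, mat_mk, Matrix.map_mul])

theorem mat_phi (σ : K ≃+* K) (s : symplecticGroup (Fin 2) K) :
    mat (phi σ s) = (mat s).map σ := mat_mk _ (map_sp σ s)

theorem phi_mul (σ τ : K ≃+* K) : phi σ * phi τ = phi (τ.trans σ) := MulEquiv.ext fun s =>
  mat_inj (by rw [MulAut.mul_apply, mat_phi, mat_phi, mat_phi]; ext i j; simp)

theorem phi_one : phi (RingEquiv.refl K) = 1 := MulEquiv.ext fun s =>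
  mat_inj (by rw [mat_phi]; ext i j; simp)

theorem phi_dg (σ : K ≃+* K) (l k : Kˣ) :
    phi σ (dg l k) = dg (Units.map (σ : K →* K) l) (Units.map (σ : K →* K) k) := mat_inj (by
  rw [mat_phi, mat_dg, mat_dg]
  ext i j
  fin_cases i <;> fin_cases j <;> simp [dM])

theorem phi_emb (σ : K ≃+* K) (u : U4 K) : phi σ (emb K u) = emb K (mon4 1 1 σ u) := mat_inj (by
  rw [mat_phi, mat_emb, mat_emb]
  ext i j
  fin_cases i <;> fin_cases j <;> simp [uM, mon4])

theorem col0 {g : symplecticGroup (Fin 2) K} (h : ∀ u ∈ V4 K, ∃ u', emb K u * g = g * emb K u') :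
    mat g 1 0 = 0 ∧ mat g 2 0 = 0 ∧ mat g 3 0 = 0 := by
  obtain ⟨u, e⟩ := h ⟨1, 0, 0, 0⟩ rfl
  obtain ⟨u', e'⟩ := h ⟨0, 0, 1, 0⟩ rfl
  have e := congrArg mat e
  have e' := congrArg mat e'
  rw [mat_mul, mat_mul, mat_emb, mat_emb] at e e'
  refine ⟨?_, ?_, ?_⟩
  · simpa [uM, Matrix.mul_apply, Fin.sum_univ_succ] using congrFun (congrFun e 0) 0
  · simpa [uM, Matrix.mul_apply, Fin.sum_univ_succ] using congrFun (congrFun e' 0) 0
  · simpa [uM, Matrix.mul_apply, Fin.sum_univ_succ] using congrFun (congrFun e 2) 0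

theorem norm_eq {X : Subgroup (U4 K)} {g : symplecticGroup (Fin 2) K} (hg : g ∈ 𝐍[X.map (emb K)])
    {u : U4 K} (hu : u ∈ X) : ∃ u', emb K u * g = g * emb K u' := by
  obtain ⟨u', -, e⟩ := conj_mem_of_norm' hg ⟨u, hu, rfl⟩
  exact ⟨u', by rw [e]; group⟩

theorem borel {g : symplecticGroup (Fin 2) K} (hg : g ∈ 𝐍[(emb K).range]) :
    ∃ u l k, g = emb K u * dg l k := by
  rw [MonoidHom.range_eq_map] at hg
  obtain ⟨h1, h2, h3⟩ := col0 fun u _ => norm_eq hg (mem_top u)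
  obtain ⟨u, e⟩ := norm_eq hg (mem_top ⟨1, 0, 0, 0⟩)
  obtain ⟨u', e'⟩ := norm_eq hg (mem_top ⟨0, 1, 0, 0⟩)
  have e := congrArg mat e
  have e' := congrArg mat e'
  rw [mat_mul, mat_mul, mat_emb, mat_emb] at e e'
  have h4 : mat g 3 1 = 0 := by
    simpa [uM, Matrix.mul_apply, Fin.sum_univ_succ, h2] using congrFun (congrFun e 2) 1
  have h5 : mat g 2 1 = 0 := by
    simpa [uM, Matrix.mul_apply, Fin.sum_univ_succ, h1] using congrFun (congrFun e' 1) 1
  have s := fun i j => congrFun (congrFun (mat_sp g) i) j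
  have s1 := s 0 2
  have s2 := s 0 3
  have s3 := s 1 2
  have s4 := s 1 3
  have s5 := s 2 3
  simp [suzukiForm, Matrix.mul_apply, Fin.sum_univ_succ, h1, h2, h3, h4, h5] at s1 s2 s3 s4 s5
  have l0 : mat g 0 0 ≠ 0 := left_ne_zero_of_mul_eq_one s2
  have h6 := s1.resolve_left l0
  simp only [h6, mul_zero, zero_mul, add_zero, zero_add] at s3 s5
  have k0 : mat g 1 1 ≠ 0 := left_ne_zero_of_mul_eq_one s3
  refine ⟨⟨mat g 0 1 / mat g 1 1, mat g 1 2 * mat g 1 1, mat g 0 2 * mat g 1 1,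
    mat g 0 3 * mat g 0 0 + mat g 0 1 * mat g 0 2⟩, Units.mk0 _ l0, Units.mk0 _ k0, mat_inj ?_⟩
  rw [mat_mul, mat_emb, mat_dg]
  ext i j
  fin_cases i <;> fin_cases j <;>
    simp [dM, uM, Matrix.mul_apply, Fin.sum_univ_succ, h1, h2, h3, h4, h5, h6] <;> field_simp <;>
    grind

theorem invD : 𝐍[(V4 K).map (emb K)] ≤ 𝐍[(D4 K).map (emb K)] := by
  refine norm_of_forall_cj_le fun g hg => cj_le_iff.2 ?_
  rintro _ ⟨u, ⟨u1, u2, u3⟩, rfl⟩
  obtain ⟨h1, h2, h3⟩ := col0 fun u hu => norm_eq hg hu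
  have s := fun i j => congrFun (congrFun (mat_sp g) i) j
  have s0 := s 0 1
  have s1 := s 0 2
  have s2 := s 0 3
  simp [suzukiForm, Matrix.mul_apply, Fin.sum_univ_succ, h1, h2, h3] at s0 s1 s2
  have l0 : mat g 0 0 ≠ 0 := left_ne_zero_of_mul_eq_one s2
  refine ⟨⟨0, 0, 0, u.c * mat g 0 0 ^ 2⟩, ⟨rfl, rfl, rfl⟩, eq_mul_inv_iff_mul_eq.2 (mat_inj ?_)⟩
  rw [mat_mul, mat_mul, mat_emb, mat_emb]
  ext i j
  fin_cases i <;> fin_cases j <;>
    simp [uM, Matrix.mul_apply, Fin.sum_univ_succ, h1, h2, h3, u1, u2, u3, s0.resolve_left l0,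
      s1.resolve_left l0]
  grind

theorem exists_nu : ∃ n, Acts (emb K) (V4 K) n (M4 K).ν := by
  refine ⟨mk !![1, 0, 0, 0; 0, 0, 1, 0; 0, 1, 0, 0; 0, 0, 0, 1] ?_, fun u hu =>
    mul_inv_eq_iff_eq_mul.2 (mat_inj ?_)⟩
  · ext i j
    fin_cases i <;> fin_cases j <;> simp [suzukiForm, Matrix.mul_apply, Fin.sum_univ_succ]
  · have hu' : u.a = 0 := hu
    rw [mat_mul, mat_mul, mat_emb, mat_emb, mat_mk]
    ext i j
    fin_cases i <;> fin_cases j <;>
      simp [uM, M4, Matrix.mul_apply, Fin.sum_univ_succ, hu', mul_comm]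

variable [Finite K]

variable (K) in
/-- The graph automorphism. -/
noncomputable def gam : MulAut (symplecticGroup (Fin 2) K) :=
  MulEquiv.ofBijective (sp4Hom K) (Finite.injective_iff_bijective.1 sp4Hom_injective)

theorem mat_gam (s : symplecticGroup (Fin 2) K) : mat (gam K s) = Lie.star4 (mat s) := mat_hom s

theorem gam_emb (u : U4 K) : gam K (emb K u) = emb K (swp4 u) := mat_inj (by
  rw [mat_gam, mat_emb, mat_emb]
  ext i j
  fin_cases i <;> fin_cases j <;> simp [uM, swp4, Chev.Sz.star4_apply, Lie.pairOf] <;> grind)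

theorem gam_dg (l k : Kˣ) : gam K (dg l k) = dg (l * k) (l * k⁻¹) := mat_inj (by
  rw [mat_gam, mat_dg, mat_dg]
  ext i j
  fin_cases i <;> fin_cases j <;> simp [dM, Chev.Sz.star4_apply, Lie.pairOf, mul_comm])

theorem gam_phi (σ : K ≃+* K) : gam K * phi σ = phi σ * gam K := MulEquiv.ext fun s =>
  mat_inj (by
    rw [MulAut.mul_apply, MulAut.mul_apply, mat_phi, mat_gam, mat_gam, mat_phi]
    ext i j
    simp [Chev.Sz.star4_apply])

theorem gam_sq : gam K * gam K = phi (frobeniusEquiv K 2) := MulEquiv.ext fun s =>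
  mat_inj (by rw [MulAut.mul_apply, mat_phi, mat_gam, mat_gam]; exact (star4_props s).2)

/-- Diagonal times field automorphism. -/
def N0 (α : MulAut (symplecticGroup (Fin 2) K)) : Prop :=
  ∃ l k σ, α = MulAut.conj (dg l k) * phi σ

theorem conj_conj {P : Type*} [Group P] (α : MulAut P) (s : P) :
    α * MulAut.conj s = MulAut.conj (α s) * α := by ext x; simp

theorem N0.mul {α β : MulAut (symplecticGroup (Fin 2) K)} (h : N0 α) (h' : N0 β) : N0 (α * β) := by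
  obtain ⟨l, k, σ, rfl⟩ := h
  obtain ⟨l', k', σ', rfl⟩ := h'
  exact ⟨_, _, σ'.trans σ, by
    rw [mul_assoc, ← mul_assoc (phi σ), conj_conj, phi_dg, mul_assoc, phi_mul, ← mul_assoc,
      ← map_mul, dg_mul]⟩

theorem N0.gam {α : MulAut (symplecticGroup (Fin 2) K)} (h : N0 α) :
    ∃ β, N0 β ∧ gam K * α = β * gam K := by
  obtain ⟨l, k, σ, rfl⟩ := h
  exact ⟨_, ⟨_, _, σ, rfl⟩, by rw [← mul_assoc, conj_conj, gam_dg, mul_assoc, gam_phi, mul_assoc]⟩

theorem N0.act {α : MulAut (symplecticGroup (Fin 2) K)} (h : N0 α) : ∃ a b σ,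
    (∀ u, α (emb K u) = emb K (mon4 a b σ u)) ∧ (a = 1 → b = 1 → σ = RingEquiv.refl K → α = 1) := by
  obtain ⟨l, k, σ, rfl⟩ := h
  refine ⟨l * (k : K)⁻¹, k ^ 2, σ, fun u => ?_, fun h1 h2 h3 => ?_⟩
  · rw [MulAut.mul_apply, phi_emb, MulAut.conj_apply, dg_emb]
    simp [mon4]
  · have e1 : k = 1 := Units.ext (by
      simpa [sq, mul_self_eq_one_iff, CharTwo.neg_eq] using h2)
    have e2 : l = 1 := Units.ext (by simpa [e1] using h1)
    rw [e1, e2, h3, dg_one, phi_one, map_one, one_mul]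

theorem n0 {a b : K} (ha : a ≠ 0) (hb : b ≠ 0) (σ : K ≃+* K) :
    ∃ α, N0 α ∧ ∀ u, α (emb K u) = emb K (mon4 a b σ u) := by
  obtain ⟨c, hc, rfl⟩ := Alg4.exists_sqrt hb
  refine ⟨_, ⟨Units.mk0 _ (mul_ne_zero ha hc), Units.mk0 _ hc, σ, rfl⟩, fun u => ?_⟩
  rw [MulAut.mul_apply, phi_emb, MulAut.conj_apply, dg_emb]
  simp [mon4, hc]

variable (K) in
/-- The monomial automorphisms as a monoid. -/
def M0 : Submonoid (MulAut (symplecticGroup (Fin 2) K)) where
  carrier := {α | N0 α ∨ ∃ β, N0 β ∧ α = β * gam K}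
  one_mem' := Or.inl ⟨1, 1, RingEquiv.refl K, by rw [dg_one, phi_one, map_one, one_mul]⟩
  mul_mem' := by
    rintro _ _ (h | ⟨α, h, rfl⟩) (h' | ⟨β, h', rfl⟩)
    · exact Or.inl (h.mul h')
    · exact Or.inr ⟨_, h.mul h', (mul_assoc _ _ _).symm⟩
    · obtain ⟨γ, h1, e⟩ := h'.gam
      exact Or.inr ⟨_, h.mul h1, by rw [mul_assoc, e, mul_assoc]⟩
    · obtain ⟨γ, h1, e⟩ := h'.gam
      rw [mul_assoc, ← mul_assoc (gam K), e, mul_assoc, gam_sq]
      exact Or.inl (h.mul (h1.mul ⟨1, 1, _, by rw [dg_one, map_one, one_mul]⟩))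

variable (K) in
/-- The monomial automorphisms. -/
def MM : Subgroup (MulAut (symplecticGroup (Fin 2) K)) where
  toSubmonoid := M0 K
  inv_mem' {x} hx := Submonoid.powers_le.2 hx
    ((isOfFinOrder_of_finite x).mem_powers_iff_mem_zpowers.2 (inv_mem (mem_zpowers x)))

theorem odd_index : ¬ 2 ∣ (emb K).range.index := by
  have := Fintype.ofFinite K
  obtain ⟨n, -, hn⟩ := FiniteField.card K 2
  have hc : Nat.card (emb K).range = 2 ^ (n * 4 : ℕ) := by
    rw [← Nat.card_congr (MonoidHom.ofInjective emb_inj).toEquiv, Nat.card_congr U4.equivProd]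
    simp only [Nat.card_eq_fintype_card, Fintype.card_prod, hn]; ring
  have h1 := (emb K).range.card_mul_index
  rw [hc, Cl.sp_card_std, Nat.card_eq_fintype_card, hn, ← pow_mul] at h1
  rw [Nat.eq_of_mul_eq_mul_left (pow_pos two_pos _) h1, Nat.prime_two.prime.dvd_finsetProd_iff]
  rintro ⟨i, -, h⟩
  have h2 : 2 ∣ (2 ^ (n : ℕ)) ^ (2 * (i + 1)) := dvd_pow (dvd_pow_self 2 n.ne_zero) (by omega)
  exact absurd (Nat.dvd_one.1 ((Nat.dvd_sub_iff_right
    (Nat.one_le_pow _ _ (pow_pos two_pos _)) h2).1 h)) (by norm_num)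

theorem dat : Dat (M4 K) (emb K) (MM K) where
  zen := eq_bot_iff.2 fun _ hs => center_sp_two le_rfl hs
  inj := emb_inj
  act := by
    rintro _ (h | ⟨α, h, rfl⟩) u <;> obtain ⟨a, b, σ, e, -⟩ := h.act
    · exact ⟨_, e u⟩
    · exact ⟨_, by rw [MulAut.mul_apply, gam_emb, e]⟩
  one := by
    rintro _ (h | ⟨α, h, rfl⟩) w hw <;> obtain ⟨a, b, σ, e, e'⟩ := h.act
    · have k := fun u => emb_inj ((e u).symm.trans (hw u))
      have ha : a = 1 := by simpa [mon4] using congrArg U4.t (k ⟨1, 0, 0, 0⟩)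
      refine e' ha (by simpa [mon4] using congrArg U4.a (k ⟨0, 1, 0, 0⟩)) (RingEquiv.ext fun x => ?_)
      simpa [mon4, ha] using congrArg U4.t (k ⟨x, 0, 0, 0⟩)
    · have := hw ⟨1, 0, 0, 0⟩
      rw [MulAut.mul_apply, gam_emb, e] at this
      simpa [mon4, swp4] using congrArg U4.t (emb_inj this)
  mon := by
    rintro _ ⟨a, b, σ, ha, hb, rfl | rfl⟩
    · obtain ⟨α, h, e⟩ := n0 ha hb σ
      exact ⟨α, Or.inl h, e⟩
    · obtain ⟨α, h, e⟩ := n0 hb (pow_ne_zero 2 ha) σ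
      exact ⟨_, Or.inr ⟨α, h, rfl⟩, fun u => by
        rw [MulAut.mul_apply, gam_emb, e, ← Alg4.mon_swp, Function.comp_apply]⟩
  bor g hg := by
    obtain ⟨u, l, k, rfl⟩ := borel hg
    refine ⟨u⁻¹, mon4 (l * (k : K)⁻¹) (k ^ 2) (RingEquiv.refl K), ?_, ⟨_, _, by simp, by simp, rfl⟩,
      ?_⟩ <;> rw [map_inv, inv_mul_cancel_left]
    · exact Or.inl ⟨l, k, RingEquiv.refl K, by rw [phi_one, mul_one]⟩
    · exact fun x _ => dg_emb l k x
  nu := exists_nu
  odd := odd_index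
  borV g hg := by
    obtain ⟨u, l, k, rfl⟩ := borel hg
    refine mul_mem (mem_norm_of_cj_le (cj_le_iff.2 ?_)) (mem_norm_of_cj_le (cj_le_iff.2 ?_)) <;>
      rintro _ ⟨x, hx, rfl⟩ <;> have hx' : x.a = 0 := hx
    · exact ⟨u * x * u⁻¹, mem_V4.2 (by simp [hx']), by simp⟩
    · exact ⟨_, mem_V4.2 (by simp [mon4, hx']), (dg_emb l k x).symm⟩
  invD := invD

end Tg4

theorem tg4 (K : Type) [Field K] [Finite K] [CharP K 2] :
    ∃ (j : U4 K →* MulAut (PSp 2 K)) (M : Subgroup (MulAut (PSp 2 K))),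
      Tg (M4 K) j M (MulAut.conj : _ →* MulAut _).range :=
  Tg4.dat.tg (MulEquiv.ofBijective (QuotientGroup.mk' _) ⟨(injective_iff_map_eq_one _).2 fun _ h =>
    Cl.Aut.center_sp_two le_rfl ((QuotientGroup.eq_one_iff _).1 h), QuotientGroup.mk'_surjective _⟩)

end Cfsg.Agent.MF
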