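import Mathlib
import Cfsg.Agent.MF.Defs
import Cfsg.Agent.L33.FrM

/-! The target group `Aut L₃(3)`. -/

set_option autoImplicit false
set_option linter.unusedSectionVars false

namespace Cfsg.Agent.MF

open Cfsg Cfsg.Agent.GT Cfsg.Agent.Loc.Mss Cfsg.Agent.Loc.PU Cfsg.Agent.Loc.Blk Cfsg.Agent.Loc.GC
  Cfsg.Agent.Fus Cfsg.Agent.Fus.SU Cfsg.FusionSystem Subgroup
open scoped commutatorElement MatrixGroups

namespace TgH

open Cfsg.Agent.L33

section Gen
variable {U : Type} [Group U] {G : Type*} [Group G] {ι : U →* G} {S : Subgroup G} {t : G}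
  {m : U → U}

theorem sw_mem (h : Sw ι S t m) {x : G} : x ∈ S ↔ ∃ u, x = ι u ∨ x = ι u * t := by
  have e : ∀ u, t * ι u = ι (m u) * t := fun u => by rw [← h.act u (mem_top _)]; group
  have ti : t⁻¹ = t := inv_eq_of_mul_eq_one_right h.sq
  let E : Subgroup G :=
    { carrier := {x | ∃ u, x = ι u ∨ x = ι u * t}
      one_mem' := ⟨1, Or.inl (map_one ι).symm⟩
      mul_mem' := by
        rintro _ _ ⟨u, rfl | rfl⟩ ⟨v, rfl | rfl⟩
        · exact ⟨u * v, Or.inl (map_mul ι u v).symm⟩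
        · exact ⟨u * v, Or.inr (by rw [map_mul, mul_assoc])⟩
        · exact ⟨u * m v, Or.inr (by rw [map_mul, mul_assoc, e, mul_assoc])⟩
        · exact ⟨u * m v, Or.inl (by
            rw [map_mul, mul_assoc, ← mul_assoc t, e, mul_assoc, h.sq, mul_one])⟩
      inv_mem' := by
        rintro _ ⟨u, rfl | rfl⟩
        · exact ⟨u⁻¹, Or.inl (map_inv ι u).symm⟩
        · exact ⟨m u⁻¹, Or.inr (by rw [mul_inv_rev, ti, ← map_inv, e])⟩ }
  constructor
  · intro hx
    rw [h.eq] at hx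
    refine (sup_le ?_ ?_ : ι.range ⊔ zpowers t ≤ E) hx
    · rintro _ ⟨u, rfl⟩
      exact ⟨u, Or.inl rfl⟩
    · exact zpowers_le.2 ⟨1, Or.inr (by rw [map_one, one_mul])⟩
  · rw [h.eq]
    rintro ⟨u, rfl | rfl⟩
    · exact mem_sup_left ⟨u, rfl⟩
    · exact mul_mem (mem_sup_left ⟨u, rfl⟩) (mem_sup_right (mem_zpowers t))

theorem sw_card (h : Sw ι S t m) (ht : t ∉ ι.range) : Nat.card S = Nat.card U * 2 := by
  have hn : ∀ u v, ι u ≠ ι v * t := fun u v e => ht ⟨v⁻¹ * u, by rw [map_mul, map_inv, e]; group⟩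
  let φ : U × Bool → S := fun p => ⟨ι p.1 * (if p.2 then t else 1), (sw_mem h).2 ⟨p.1, by
    cases p.2 <;> simp⟩⟩
  have hφ : Function.Bijective φ := by
    constructor
    · rintro ⟨u, a⟩ ⟨v, b⟩ e
      have e' := congrArg Subtype.val e
      cases a <;> cases b <;> simp only [φ, Bool.false_eq_true, if_false, if_true, mul_one,
        mul_left_inj] at e'
      · rw [h.inj e']
      · exact absurd e' (hn _ _)
      · exact absurd e'.symm (hn _ _)
      · rw [h.inj e']
    · rintro ⟨x, hx⟩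
      obtain ⟨u, rfl | rfl⟩ := (sw_mem h).1 hx
      · exact ⟨(u, false), Subtype.ext (by simp [φ])⟩
      · exact ⟨(u, true), Subtype.ext (by simp [φ])⟩
  rw [← Nat.card_congr (Equiv.ofBijective φ hφ), Nat.card_prod, Nat.card_eq_fintype_card (α := Bool),
    Fintype.card_bool]

end Gen

/-- Matrices of size three over the field with three elements. -/
abbrev Mt : Type := Matrix (Fin 3) (Fin 3) (ZMod 3)

/-- The matrix of cofactors. -/
def ad (m : Mt) : Mt :=
  !![m 1 1 * m 2 2 - m 1 2 * m 2 1, m 1 2 * m 2 0 - m 1 0 * m 2 2, m 1 0 * m 2 1 - m 1 1 * m 2 0;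
    m 0 2 * m 2 1 - m 0 1 * m 2 2, m 0 0 * m 2 2 - m 0 2 * m 2 0, m 0 1 * m 2 0 - m 0 0 * m 2 1;
    m 0 1 * m 1 2 - m 0 2 * m 1 1, m 0 2 * m 1 0 - m 0 0 * m 1 2, m 0 0 * m 1 1 - m 0 1 * m 1 0]

theorem coe_tau (g : FrmS) : (Cl.slInvTranspose (Fin 3) (ZMod 3) g).1 = ad g.1 := by
  rw [Cl.coe_slInvTranspose, Matrix.SpecialLinearGroup.coe_inv, Matrix.adjugate_fin_three]
  ext i j
  fin_cases i <;> fin_cases j <;> simp [ad] <;> ring

/-- The inverse transpose. -/
def cof (g : FrmS) : FrmS :=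
  ⟨ad g.1, by rw [← coe_tau]; exact (Cl.slInvTranspose (Fin 3) (ZMod 3) g).2⟩

theorem tau_eq (g : FrmS) : Cl.slInvTranspose (Fin 3) (ZMod 3) g = cof g := Subtype.ext (coe_tau g)

/-- The product of the data. -/
def ml (x y : FrmS × Bool) : FrmS × Bool := (x.1 * (if x.2 then cof y.1 else y.1), xor x.2 y.2)

/-- The quotient map. -/
def pr : FrmS →* L3 := QuotientGroup.mk' _

theorem pr_inj : Function.Injective pr := by
  rw [← MonoidHom.ker_eq_bot_iff, pr, QuotientGroup.ker_mk']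
  exact frm_center

theorem pr_surj : Function.Surjective pr := QuotientGroup.mk'_surjective _

/-- The graph automorphism. -/
noncomputable def gr : MulAut L3 := Cl.centerQuotCongr (Cl.slInvTranspose (Fin 3) (ZMod 3))

theorem gr_pr (s : FrmS) : gr (pr s) = pr (cof s) := by rw [← tau_eq]; rfl

theorem gr_sq : gr * gr = 1 := by
  ext x
  obtain ⟨s, rfl⟩ := pr_surj x
  change gr (gr (pr s)) = pr s
  rw [gr_pr, gr_pr, ← tau_eq, ← tau_eq, Cl.slInvTranspose_slInvTranspose]

theorem gr_conj (s : FrmS) : gr * MulAut.conj (pr s) = MulAut.conj (pr (cof s)) * gr := by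
  rw [← gr_pr, ← frm_conj]; group

theorem conj_inj {s s' : FrmS} (h : MulAut.conj (pr s) = MulAut.conj (pr s')) : s = s' := by
  have : s'⁻¹ * s ∈ center FrmS := mem_center_iff.2 fun x => pr_inj (by
    have := DFunLike.congr_fun h (pr x)
    simp only [MulAut.conj_apply] at this
    simp only [map_mul, map_inv]
    calc pr x * ((pr s')⁻¹ * pr s) = (pr s')⁻¹ * (pr s' * pr x * (pr s')⁻¹) * pr s := by group
      _ = _ := by rw [← this]; group)
  rw [frm_center, mem_bot, inv_mul_eq_one] at this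
  exact this.symm

theorem gr_ne (s : FrmS) : gr ≠ MulAut.conj (pr s) := fun h => by
  have h1 := gr_pr frmA
  rw [h, MulAut.conj_apply, ← map_inv, ← map_mul, ← map_mul] at h1
  have h2 : (s * frmA * s⁻¹).1.trace = frmA.1.trace := by
    rw [Matrix.SpecialLinearGroup.coe_mul, Matrix.trace_mul_comm,
      ← Matrix.SpecialLinearGroup.coe_mul, ← mul_assoc, inv_mul_cancel, one_mul]
  rw [pr_inj h1] at h2
  revert h2
  decide

/-- The automorphism given by the data. -/
noncomputable def ev (x : FrmS × Bool) : MulAut L3 :=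
  MulAut.conj (pr x.1) * if x.2 then gr else 1

theorem ev_ml (x y : FrmS × Bool) : ev (ml x y) = ev x * ev y := by
  obtain ⟨s, a⟩ := x
  obtain ⟨s', b⟩ := y
  cases a <;> cases b <;> simp only [ev, ml, Bool.false_eq_true, if_false, if_true, mul_one,
    map_mul, Bool.xor_false, Bool.xor_true, Bool.not_false, Bool.not_true, mul_assoc]
  · rw [gr_conj]
  · rw [← mul_assoc gr, gr_conj, mul_assoc, gr_sq, mul_one]

theorem ev_one : ev (1, false) = 1 := by simp [ev]

theorem ev_inn {x : FrmS × Bool} :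
    ev x ∈ (MulAut.conj : L3 →* MulAut L3).range ↔ x.2 = false := by
  obtain ⟨s, a⟩ := x
  cases a
  · simp [ev]
  · simp only [ev, if_true, Bool.true_eq_false, iff_false]
    rintro ⟨y, hy⟩
    obtain ⟨s', rfl⟩ := pr_surj y
    exact gr_ne (s⁻¹ * s') (by rw [map_mul, map_mul, hy, map_inv, map_inv]; group)

theorem ev_inj : Function.Injective ev := by
  rintro ⟨s, a⟩ ⟨s', b⟩ h
  have h1 : a = b := by
    have h2 := ev_inn (x := (s, a))
    rw [h, ev_inn] at h2
    cases a <;> cases b <;> simp_all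
  subst h1
  have h2 : s = s' := conj_inj (mul_right_cancel h)
  rw [h2]

/-- A sign. -/
def sg (t : ZMod 2) : ZMod 3 := if t = 0 then 1 else 2

/-- The monomial matrices. -/
def mt (t a b : ZMod 2) : Mt :=
  if a = 0 then !![sg t, 0, 0; 0, sg (t + b), 0; 0, 0, sg b]
  else !![sg (t + 1), 0, 0; 0, 0, sg b; 0, sg (t + b), 0]

theorem det_mt : ∀ t a b, (mt t a b).det = 1 := by
  simp only [Matrix.det_fin_three]
  decide

/-- The data for the unipotent group. -/
def tb (t a b c : ZMod 2) : FrmS × Bool := (⟨mt t a b, det_mt t a b⟩, decide (t + a + b + c ≠ 0))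

/-- The data for the graph involution. -/
def dT : FrmS × Bool := (⟨!![1, 0, 0; 0, 1, 1; 0, 1, 2], by decide⟩, true)
/-- The data for the Weyl element. -/
def dN : FrmS × Bool := (⟨!![0, 0, 2; 0, 2, 0; 2, 0, 0], by decide⟩, false)
/-- The data for an element of order three. -/
def dC : FrmS × Bool := (⟨!![1, 0, 0; 0, 1, 1; 0, 0, 1], by decide⟩, false)

theorem tb_mul : ∀ t a b c t' a' b' c' : ZMod 2,
    tb (t + t') (a + a') (b + b' + t * a') (c + c' + 2 * t * b' + t ^ 2 * a') =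
      ml (tb t a b c) (tb t' a' b' c') := by decide +kernel

theorem tb_one : ∀ t a b c : ZMod 2, tb t a b c = (1, false) → t = 0 ∧ a = 0 ∧ b = 0 ∧ c = 0 := by
  decide +kernel

theorem dT_sq : ml dT dT = (1, false) := by decide +kernel

theorem dT_tb : ∀ t a b c : ZMod 2,
    ml dT (tb t a b c) = ml (tb a (t ^ 2) (c + t ^ 2 * a) (b ^ 2 + t ^ 2 * a ^ 2)) dT := by
  decide +kernel

theorem tb_ne : ∀ t a b c : ZMod 2, tb t a b c ≠ dT := by decide +kernel

theorem dN_tb : ∀ t b c : ZMod 2, ml dN (tb t 0 b c) = ml (tb b 0 t c) dN := by decide +kernel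

theorem dC_cube : ml (ml dC dC) dC = (1, false) := by decide +kernel

theorem dC_ne : ml dC dT ≠ ml dT dC := by decide +kernel

theorem tb_four : ∀ t a b c : ZMod 2,
    ml (ml (ml (tb t a b c) dT) (ml (tb t a b c) dT)) (ml (ml (tb t a b c) dT) (ml (tb t a b c) dT)) =
      (1, false) ↔ t = a := by decide +kernel

theorem dC_tb : ∀ t b c : ZMod 2, ∃ t' b' c' : ZMod 2,
    ml dC (ml (tb t t b c) dT) = ml (ml (tb t' t' b' c') dT) dC ∨
      ml dC (ml (tb t t b c) dT) = ml (tb t' t' b' c') dC := by decide +kernel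

theorem tb_even : ∀ t b c : ZMod 2, (tb t 0 b c).2 = false ↔ t + b + c = 0 := by decide +kernel

end TgH

open TgH L33 in
theorem tgH (K : Type) [Field K] [CharP K 2] (hK : Nat.card K = 2) :
    ∃ (j : U4 K →* MulAut (Matrix.ProjectiveSpecialLinearGroup (Fin 3) (ZMod 3)))
      (T L : Subgroup (MulAut (Matrix.ProjectiveSpecialLinearGroup (Fin 3) (ZMod 3))))
      (τ n : MulAut (Matrix.ProjectiveSpecialLinearGroup (Fin 3) (ZMod 3))),
      Sw j T τ swp4 ∧ ¬ 2 ∣ T.index ∧ Acts j (V4 K) n (M4 K).ν ∧ L.Normal ∧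
        (V4 K).map j ⊓ L = (E4 K).map j ∧ Inv.Fz.OddAut (Out T j.range 4) := by
  have : Finite K := Nat.finite_of_card_ne_zero (by omega)
  have := Fintype.ofFinite K
  let χ : K ≃+* ZMod 2 :=
    (ZMod.ringEquivOfPrime K Nat.prime_two (by rw [← Nat.card_eq_fintype_card, hK])).symm
  let q : U4 K → FrmS × Bool := fun u => tb (χ u.t) (χ u.a) (χ u.b) (χ u.c)
  let j : U4 K →* MulAut L3 := MonoidHom.mk' (fun u => ev (q u)) fun u v => by
    rw [← ev_ml, ← tb_mul]
    simp only [q, U4.mul_t, U4.mul_a, U4.mul_b, U4.mul_c, map_add, map_mul, map_pow, map_ofNat]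
  have hj : ∀ u, j u = ev (q u) := fun _ => rfl
  have hq : ∀ t a b c, j ⟨χ.symm t, χ.symm a, χ.symm b, χ.symm c⟩ = ev (tb t a b c) :=
    fun t a b c => by simp only [hj, q, RingEquiv.apply_symm_apply]
  have sw : Sw j (j.range ⊔ zpowers (ev dT)) (ev dT) swp4 :=
    { inj := (injective_iff_map_eq_one j).2 fun u hu => by
        obtain ⟨h1, h2, h3, h4⟩ := tb_one _ _ _ _ (ev_inj (hu.trans ev_one.symm))
        rw [map_eq_zero_iff χ χ.injective] at h1 h2 h3 h4
        exact U4.ext h1 h2 h3 h4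
      sq := by rw [← ev_ml, dT_sq, ev_one]
      act := fun u _ => by
        rw [mul_inv_eq_iff_eq_mul, hj, hj, ← ev_ml, ← ev_ml, dT_tb]
        simp only [q, swp4, map_add, map_mul, map_pow]
      eq := rfl }
  have ht : ev dT ∉ j.range := fun ⟨u, hu⟩ => tb_ne _ _ _ _ (ev_inj hu)
  refine ⟨j, _, (MulAut.conj : L3 →* MulAut L3).range, ev dT, ev dN, sw, ?_, ?_, ?_, ?_, ?_⟩
  · have h1 := (j.range ⊔ zpowers (ev dT)).card_mul_index
    rw [sw_card sw ht, model.2.1, Nat.card_congr U4.equivProd] at h1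
    simp only [Nat.card_prod, hK] at h1
    omega
  · intro u hu
    rw [mul_inv_eq_iff_eq_mul, hj, hj, ← ev_ml, ← ev_ml]
    simp only [q, M4, mem_V4.1 hu, map_zero, dN_tb]
  · exact ⟨by
      rintro _ ⟨x, rfl⟩ β
      exact ⟨β x, (frm_conj β x).symm⟩⟩
  · have key : ∀ u : U4 K, u.a = 0 →
        (j u ∈ (MulAut.conj : L3 →* MulAut L3).range ↔ u.t + u.b + u.c = 0) := fun u hu => by
      rw [hj, ev_inn]
      simp only [q, hu, map_zero, tb_even]
      rw [← map_add, ← map_add, map_eq_zero_iff χ χ.injective]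
    ext x
    constructor
    · rintro ⟨⟨u, hu, rfl⟩, h⟩
      exact ⟨u, ⟨hu, (key u hu).1 h⟩, rfl⟩
    · rintro ⟨u, hu, rfl⟩
      exact ⟨⟨u, hu.1, rfl⟩, (key u hu.1).2 hu.2⟩
  · have g1 : ∀ x, x ∈ j.range ⊔ zpowers (ev dT) ∧ x ∉ j.range ∧ x ^ 4 = 1 ↔
        ∃ t b c, x = ev (ml (tb t t b c) dT) := fun x => by
      have e4 : ∀ t a b c, ev (ml (tb t a b c) dT) ^ 4 = 1 ↔ t = a := fun t a b c => by
        rw [← tb_four t a b c, ← ev_inj.eq_iff, ev_one, ev_ml (ml _ _), ev_ml (ml _ _)]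
        rw [show (4 : ℕ) = 2 + 2 from rfl, pow_add, pow_two]
      constructor
      · rintro ⟨h1, h2, h3⟩
        obtain ⟨u, rfl | rfl⟩ := (sw_mem sw).1 h1
        · exact absurd ⟨u, rfl⟩ h2
        · rw [hj, ← ev_ml] at h3 ⊢
          have := (e4 _ _ _ _).1 h3
          exact ⟨χ u.t, χ u.b, χ u.c, by simp only [q, ← this]⟩
      · rintro ⟨t, b, c, rfl⟩
        refine ⟨(sw_mem sw).2 ⟨_, Or.inr (by rw [hq, ev_ml])⟩, fun h => ht ?_, (e4 _ _ _ _).2 rfl⟩
        rw [ev_ml, ← hq] at h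
        exact (mul_mem_cancel_left (MonoidHom.mem_range.2 ⟨_, rfl⟩)).1 h
    have g2 : ∀ t b c, ev (ml (tb t t b c) dT) ∈ Out (j.range ⊔ zpowers (ev dT)) j.range 4 :=
      fun t b c => subset_closure ((g1 _).2 ⟨t, b, c, rfl⟩)
    have g3 : ev dT ∈ Out (j.range ⊔ zpowers (ev dT)) j.range 4 :=
      subset_closure ⟨mem_sup_right (mem_zpowers _), ht, by
        rw [show (4 : ℕ) = 2 + 2 from rfl, pow_add, pow_two, sw.sq, mul_one]⟩
    have c3 : ev dC ^ 3 = 1 := by rw [pow_three', ← ev_ml, ← ev_ml, dC_cube, ev_one]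
    refine ⟨ev dC, ?_, ?_, fun h => dC_ne (ev_inj ?_)⟩
    · refine mem_normalizer_fintype fun x hx => ?_
      induction hx using closure_induction with
      | mem x hx =>
        obtain ⟨t, b, c, rfl⟩ := (g1 x).1 hx
        obtain ⟨t', b', c', h | h⟩ := dC_tb t b c
        · rw [← ev_ml, h, ev_ml, mul_inv_cancel_right]
          exact g2 _ _ _
        · rw [← ev_ml, h, ev_ml, mul_inv_cancel_right]
          have := g2 t' b' c'
          rw [ev_ml] at this
          exact (mul_mem_cancel_right g3).1 this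
      | one => rw [mul_one, mul_inv_cancel]; exact one_mem _
      | mul x y _ _ hx hy =>
        rw [show ev dC * (x * y) * (ev dC)⁻¹ = ev dC * x * (ev dC)⁻¹ * (ev dC * y * (ev dC)⁻¹) by
          group]
        exact mul_mem hx hy
      | inv x _ hx =>
        rw [show ev dC * x⁻¹ * (ev dC)⁻¹ = (ev dC * x * (ev dC)⁻¹)⁻¹ by group]
        exact inv_mem hx
    · exact Odd.of_dvd_nat (by decide : Odd 3) (orderOf_dvd_of_pow_eq_one c3)
    · rw [ev_ml, ev_ml]
      exact (mem_centralizer_iff.1 h _ g3).symm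

end Cfsg.Agent.MF
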