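import Mathlib
import Cfsg.Agent.MF.Defs

/-! The groups `PGL₂(q)` and the twisted extension of `PSL₂(q²)` with their Sylow subgroups. -/

set_option autoImplicit false
set_option linter.unusedSectionVars false

namespace Cfsg.Agent.MF

open Cfsg Cfsg.Agent.GT Cfsg.Agent.Loc.Mss Cfsg.Agent.Loc.PU Cfsg.Agent.Loc.Blk Cfsg.Agent.Loc.GC
  Cfsg.Agent.Fus Cfsg.Agent.Fus.SU Cfsg.FusionSystem Subgroup
open scoped commutatorElement MatrixGroups

open Cfsg.Agent.Inv Cfsg.Agent.Inv.Fz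

namespace Half
open Cfsg.Agent.Fus.MG Matrix

theorem of_card {A : Type} [Group A] [Finite A] {a b g : A} {t : ℕ} {κ : ℤ}
    (ha : orderOf a = 2 ^ (t + 1)) (hb : b ∉ zpowers a) (hk : b * a * b⁻¹ = a ^ κ)
    (hm : b ^ 2 = 1) {o : ℕ} (ho : Odd o) (hA : Nat.card A = 2 ^ (t + 2) * o)
    (hc : g * a ^ 2 ^ t * g⁻¹ = b) : ∃ (T : Sylow 2 A) (r s : R2 t → A),
      Mc (T : Subgroup A) t κ 0 r s ∧ IsConj (r (hh t)) (s 0) := by
  obtain ⟨S, r, s, H, h1, h2⟩ := exists_mc' (μ := 0) ha hb hk (by simpa using hm)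
  obtain ⟨T, hT⟩ := H.isPGroup.exists_le_sylow
  obtain rfl : S = T := eq_of_le_of_card_ge hT (by rw [Cl.S2.card_sylow_two hA ho, H.card])
  refine ⟨T, r, s, by simpa using H, isConj_iff.2 ⟨g, ?_⟩⟩
  have := h1 (2 ^ t)
  rw [h2, show hh t = ((2 ^ t : ℤ) : R2 t) by simp [hh], this]
  simpa [← zpow_natCast] using hc

variable {K : Type} [Field K]

/-- `diag(c, 1)`. -/
def dg : Kˣ →* GL (Fin 2) K where
  toFun c := ⟨!![(c : K), 0; 0, 1], !![((c⁻¹ : Kˣ) : K), 0; 0, 1], by simp [one_fin_two],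
    by simp [one_fin_two]⟩
  map_one' := Units.ext (by simp [one_fin_two])
  map_mul' a b := Units.ext (by simp)

theorem coe_dg (c : Kˣ) : (dg c).1 = !![(c : K), 0; 0, 1] := rfl

/-- The permutation matrix. -/
def sw (K : Type) [Field K] : GL (Fin 2) K :=
  ⟨!![0, 1; 1, 0], !![0, 1; 1, 0], by simp [one_fin_two], by simp [one_fin_two]⟩

theorem coe_sw : (sw K).1 = !![0, 1; 1, 0] := rfl

theorem mk_dg {c : Kˣ} (h : ProjGenLinGroup.mk (dg c) = 1) : c = 1 := by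
  obtain ⟨u, e⟩ := ProjGenLinGroup.mk_eq_mk_iff.1 (h.trans ProjGenLinGroup.mk_one.symm)
  have e0 := congrArg (fun A : GL (Fin 2) K => A.1 0 0) e
  have e1 := congrArg (fun A : GL (Fin 2) K => A.1 1 1) e
  simp [coe_dg] at e0 e1
  exact Units.ext (by simpa [e1] using e0)

theorem mk_sw (c : Kˣ) : ProjGenLinGroup.mk (dg c) ≠ ProjGenLinGroup.mk (sw K) := fun h => by
  obtain ⟨u, e⟩ := ProjGenLinGroup.mk_eq_mk_iff.1 h
  simpa [coe_dg, coe_sw] using congrArg (fun A : GL (Fin 2) K => A.1 0 1) e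

theorem sw_dg (c : Kˣ) : ProjGenLinGroup.mk (dg c⁻¹ * sw K) = ProjGenLinGroup.mk (sw K * dg c) :=
  ProjGenLinGroup.mk_eq_mk_iff.2 ⟨c, by
    ext i j
    simp only [Units.val_mul, coe_dg, coe_sw]
    fin_cases i <;> fin_cases j <;> simp [mul_apply]⟩

theorem pgl {t : ℕ} (ht : 1 ≤ t) : ∃ (K : Type) (_ : Field K) (_ : Fintype K)
    (T : Sylow 2 PGL(2, K)) (r s : R2 t → _), Odd (Fintype.card K) ∧
      Mc (T : Subgroup PGL(2, K)) t (-1) 0 r s ∧ IsConj (r (hh t)) (s 0) ∧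
        ∃ L : Subgroup PGL(2, K), L.index = 2 := by
  obtain ⟨t, rfl⟩ : ∃ t', t = t' + 1 := ⟨t - 1, by omega⟩
  obtain ⟨K, _, _, m, h⟩ := exists_field_one (e := t + 2) (by omega)
  obtain ⟨n, hn⟩ := sq_sub_one_of_one h
  obtain ⟨c, -, hc⟩ := exists_unit h
  have ho := odd_of_one h
  have h0 : (2 : K) ≠ 0 := Cl.sp_two_ne_zero_of_odd (by rwa [Nat.card_eq_fintype_card])
  have e1 : ProjGenLinGroup.mk (dg c) ^ 2 ^ (t + 1) = ProjGenLinGroup.mk (dg (-1)) := by
    rw [← map_pow, ← map_pow, hc]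
  obtain ⟨T, r, s, H, hc⟩ := of_card (κ := -1) (t := t + 1) (a := ProjGenLinGroup.mk (dg c))
    (b := ProjGenLinGroup.mk (sw K))
    (g := ProjGenLinGroup.mk (GeneralLinearGroup.mkOfDetNeZero !![1, 1; -1, 1] (by
      rw [det_fin_two_of]; exact fun e => h0 (by linear_combination e))))
    (orderOf_eq_prime_pow (fun e => by
        have := congrArg Units.val (mk_dg (e1.symm.trans e))
        exact h0 (by simp only [Units.val_neg, Units.val_one] at this; linear_combination -this))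
      (by rw [pow_succ, pow_mul, e1, ← map_pow, ← map_pow, neg_one_sq, _root_.map_one,
        _root_.map_one]))
    (fun ⟨k, hk⟩ => mk_sw (c ^ k) (by rw [map_zpow, map_zpow]; exact hk))
    (by rw [mul_inv_eq_iff_eq_mul, ← _root_.map_mul, ← sw_dg, _root_.map_mul, _root_.map_inv,
      _root_.map_inv, _root_.zpow_neg_one])
    (by
      rw [← map_pow, show sw K ^ 2 = 1 from Units.ext (by simp [sq, coe_sw, one_fin_two]),
        _root_.map_one])
    (ho.mul ⟨n, rfl⟩) (by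
      rw [Cl.card_pgl, card_sl hn])
    (by
      rw [e1, mul_inv_eq_iff_eq_mul, ← _root_.map_mul, ← _root_.map_mul]
      congr 1
      ext i j
      fin_cases i <;> fin_cases j <;> simp [coe_dg, coe_sw, mul_apply])
  exact ⟨K, _, _, T, r, s, ho, by simpa using H, hc, Cl.L2.psl K, by
    rw [Cl.L2.index_psl, Cl.L2.gcd_of_two_ne_zero h0]⟩

theorem ker_conj {G : Type*} [Group G] : (MulAut.conj (G := G)).ker = center G := by
  ext x
  simp only [MonoidHom.mem_ker, mem_center_iff, MulEquiv.ext_iff, MulAut.conj_apply,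
    MulAut.one_apply, mul_inv_eq_iff_eq_mul]
  exact forall_congr' fun _ => eq_comm

theorem eq_one_of_cent {G : Type*} [Group G] (hG : commutator G = ⊤) {α : MulAut G}
    (h : ∀ x, α * MulAut.conj x = MulAut.conj x * α) : α = 1 := by
  have z : ∀ x y, Commute (x⁻¹ * α x) y := fun x y => by
    obtain ⟨y, rfl⟩ := α.surjective y
    have e : α x * α y * (α x)⁻¹ = x * α y * x⁻¹ := by
      simpa using congrArg (fun β : MulAut G => β y) (h x)
    calc x⁻¹ * α x * α y = x⁻¹ * (α x * α y * (α x)⁻¹) * α x := by group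
      _ = _ := by rw [e]; group
  have : commutator G ≤ α.toMonoidHom.eqLocus (MonoidHom.id G) := commutator_le.2 fun x _ y _ => by
    change α ⁅x, y⁆ = ⁅x, y⁆
    obtain ⟨a, ha, e⟩ : ∃ a, (∀ y, Commute a y) ∧ α x = x * a := ⟨_, z x, by group⟩
    obtain ⟨b, hb, e'⟩ : ∃ b, (∀ y, Commute b y) ∧ α y = y * b := ⟨_, z y, by group⟩
    rw [map_commutatorElement, e, e', commutatorElement_def, commutatorElement_def]
    calc _ = x * (a * (y * b * a⁻¹)) * (x⁻¹ * (b⁻¹ * y⁻¹)) := by group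
      _ = x * y * (b * (x⁻¹ * b⁻¹)) * y⁻¹ := by rw [(ha _).eq]; group
      _ = _ := by rw [(hb _).eq]; group
  exact MulEquiv.ext fun x => this (hG ▸ mem_top x)

theorem of_tw [Fintype K] {t n : ℕ} {κ : ℤ} (ho : Odd (Fintype.card K))
    (h4 : ∃ a : K, a ≠ 0 ∧ a ^ 2 ≠ 1)
    (h : Fintype.card K ^ 2 = 2 ^ (t + 2) * (2 * n + 1) + 1) {σ : RingAut K} {c i a : Kˣ}
    (hi : i ^ 2 = -1) (h1 : tw σ c ^ 2 ^ t = tw 1 (-1)) (h2 : tw σ c ^ 2 = tw 1 (a ^ 2))
    (hk : tw σ c⁻¹ = tw σ c ^ κ) : ∃ (H : Type) (_ : Group H) (_ : Finite H) (T : Sylow 2 H)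
    (r s : R2 t → H), Mc (T : Subgroup H) t κ 0 r s ∧ IsConj (r (hh t)) (s 0) ∧
      ∃ L : Subgroup H, L.Normal ∧ L.index = 2 ∧ Subgroup.centralizer (L : Set H) = ⊥ ∧
        Nonempty (↥L ≃* Matrix.ProjectiveSpecialLinearGroup (Fin 2) K) := by
  have h0 : (2 : K) ≠ 0 := Cl.sp_two_ne_zero_of_odd (by rwa [Nat.card_eq_fintype_card])
  obtain ⟨g, hg⟩ := exists_conj_cw h0 hi
  obtain ⟨L, eL⟩ : ∃ L, L = (MulAut.conj (G := SpecialLinearGroup (Fin 2) K)).range := ⟨_, rfl⟩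
  have : L.Normal := eL ▸ inferInstance
  have mL : ∀ x, MulAut.conj x ∈ L := fun x => eL ▸ ⟨x, rfl⟩
  have ha : orderOf (tw σ c) = 2 ^ (t + 1) := orderOf_eq_prime_pow (fun e => by
      have := congrArg Units.val (tw_eq_one (h1.symm.trans e))
      exact h0 (by simp only [Units.val_neg, Units.val_one] at this; linear_combination -this))
    (by rw [pow_succ, pow_mul, h1, tw_one_pow, neg_one_sq, tw_one])
  have hb : cw K ∉ zpowers (tw σ c) := fun e => by
    obtain ⟨k, hk⟩ := mem_powers_iff_mem_zpowers.2 e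
    obtain ⟨τ, d, e⟩ := exists_tw_pow σ c k
    exact cw_ne_tw τ d (e.symm.trans hk)
  have iso : ↥L ≃* Matrix.ProjectiveSpecialLinearGroup (Fin 2) K := eL ▸
    (QuotientGroup.quotientKerEquivRange _).symm.trans (QuotientGroup.quotientMulEquivOfEq ker_conj)
  have hL : Nat.card L = 2 ^ (t + 1) * (Fintype.card K * (2 * n + 1)) := by
    have h3 := (MulAut.conj (G := SpecialLinearGroup (Fin 2) K)).ker.index_mul_card
    rw [index_ker, card_sl h, ker_conj, Cl.card_center_sl, Nat.card_eq_fintype_card (α := K),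
      Fintype.card_fin, Nat.gcd_eq_left (by obtain ⟨k, hk⟩ := ho; omega), ← eL] at h3
    refine Nat.eq_of_mul_eq_mul_right two_pos (h3.trans ?_)
    ring
  have h3 : tw σ c ∉ L := fun l => by
    obtain ⟨S, r, s, H, -, -⟩ := exists_mc' (a := (⟨tw σ c, l⟩ : L)) (b := ⟨cw K, mL _⟩) (t := t)
      (κ := κ) (μ := 0) ((orderOf_mk _ _).trans ha)
      (fun ⟨i, hi⟩ => hb ⟨i, congrArg Subtype.val hi⟩) (Subtype.ext ((cw_tw σ c).trans hk))
      (Subtype.ext (by simpa using cw_sq))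
    have hS := card_subgroup_dvd_card S
    rw [H.card, hL, pow_succ 2 (t + 1), Nat.mul_dvd_mul_iff_left (by positivity)] at hS
    exact (ho.mul ⟨n, rfl⟩).not_two_dvd_nat hS
  have hLG : L ≤ L ⊔ zpowers (tw σ c) := le_sup_left
  have haG : tw σ c ∈ L ⊔ zpowers (tw σ c) := mem_sup_right (mem_zpowers _)
  have hi : L.relIndex (L ⊔ zpowers (tw σ c)) = 2 :=
    GT.PG.relIndex_sup_zpowers Nat.prime_two (by rw [normalizer_eq_top]; trivial) h3
      (h2 ▸ conj_dg a ▸ mL _)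
  generalize L ⊔ zpowers (tw σ c) = G at *
  obtain ⟨T, r, s, H, hc⟩ := of_card (κ := κ) (t := t) (a := (⟨tw σ c, haG⟩ : G))
    (b := ⟨cw K, hLG (mL _)⟩) (g := ⟨MulAut.conj g, hLG (mL _)⟩) ((orderOf_mk _ _).trans ha)
    (fun ⟨i, hi⟩ => hb ⟨i, congrArg Subtype.val hi⟩) (Subtype.ext ((cw_tw σ c).trans hk))
    (Subtype.ext cw_sq) (ho.mul ⟨n, rfl⟩) (by
      rw [← (L.subgroupOf G).index_mul_card, Nat.card_congr (subgroupOfEquivOfLe hLG).toEquiv, hL,
        show (L.subgroupOf G).index = 2 from hi]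
      ring) (Subtype.ext (by rw [← h1] at hg; exact hg))
  refine ⟨G, inferInstance, inferInstance, T, r, s, H, hc, L.subgroupOf G, inferInstance, hi,
    eq_bot_iff.2 fun x hx => Subtype.ext (eq_one_of_cent (Cl.sl_commutator_eq_top (.inr h4))
      fun y => ?_), ⟨(subgroupOfEquivOfLe hLG).trans iso⟩⟩
  exact (congrArg Subtype.val (mem_centralizer_iff.1 hx ⟨_, hLG (mL y)⟩ (mL y))).symm

end Half

theorem half_d {t : ℕ} (ht : 1 ≤ t) : ∃ (K : Type) (_ : Field K) (_ : Fintype K)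
    (T : Sylow 2 (GL (Fin 2) K ⧸ center (GL (Fin 2) K))) (r s : R2 t → _), Odd (Fintype.card K) ∧
      Mc (T : Subgroup (GL (Fin 2) K ⧸ center (GL (Fin 2) K))) t (-1) 0 r s ∧
        IsConj (r (hh t)) (s 0) ∧
          ∃ L : Subgroup (GL (Fin 2) K ⧸ center (GL (Fin 2) K)), L.index = 2 := Half.pgl ht

open Cfsg.Agent.Fus.MG in
theorem half_qd {t : ℕ} (ht : 2 ≤ t) : ∃ (H : Type) (_ : Group H) (_ : Finite H) (T : Sylow 2 H)
    (r s : R2 t → H), Mc (T : Subgroup H) t (hh t - 1) 0 r s ∧ IsConj (r (hh t)) (s 0) ∧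
      ∃ (K : Type) (_ : Field K) (_ : Fintype K) (n : ℕ), Odd n ∧ Fintype.card K = n ^ 2 ∧
        ∃ L : Subgroup H, L.Normal ∧ L.index = 2 ∧ Subgroup.centralizer (L : Set H) = ⊥ ∧
          Nonempty (↥L ≃* Matrix.ProjectiveSpecialLinearGroup (Fin 2) K) := by
  obtain ⟨t, rfl⟩ : ∃ t', t = t' + 2 := ⟨t - 2, by omega⟩
  obtain ⟨q, m, hq, h⟩ := exists_prime_one (e := t + 2) (by omega)
  have := Fact.mk hq
  let _ := Fintype.ofFinite (GaloisField q 2)
  have hK : Fintype.card (GaloisField q 2) = q ^ 2 := by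
    rw [← Nat.card_eq_fintype_card, GaloisField.card q 2 two_ne_zero]
  obtain ⟨n, hn⟩ := sq_sub_one_of_one h
  rw [← hK] at hn
  obtain ⟨k, hk⟩ := sq_sub_one_of_one hn
  obtain ⟨c, ho, hc⟩ := exists_unit hn
  let σ : RingAut (GaloisField q 2) := frobeniusEquiv _ q
  have hσ : σ * σ = 1 := by
    ext x
    change (x ^ q) ^ q = x
    rw [← pow_mul, ← sq, ← hK, FiniteField.pow_card]
  have h1 : Units.map (σ : _ →* GaloisField q 2) c = -c := by
    ext
    change (c : GaloisField q 2) ^ q = _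
    rw [← Units.val_pow_eq_pow_val, congrArg (c ^ ·) h]
    simp only [pow_succ c, pow_mul, hc, Odd.neg_one_pow ⟨m, rfl⟩, neg_one_mul]
  have hi : (c ^ 2 ^ (t + 1)) ^ 2 = -1 := by rw [← pow_mul, ← pow_succ, hc]
  have h2 : tw σ c ^ 2 = tw 1 ((c ^ 2 ^ (t + 1) * c) ^ 2) := by
    rw [sq, tw_mul, hσ, h1, mul_pow, hi, mul_neg, neg_one_mul, sq]
  have h3 : tw σ c ^ 2 ^ (t + 2) = tw 1 (-1) := by
    rw [pow_succ' 2 (t + 1), pow_mul, h2, tw_one_pow, mul_pow, hi, mul_pow, ← pow_mul, ← pow_succ',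
      hc, Even.neg_one_pow ⟨2 ^ t, by ring⟩, one_mul]
  obtain ⟨H, _, _, T, r, s, M, hc, hL⟩ := Half.of_tw (κ := 2 ^ (t + 2) - 1) (odd_of_one hn)
    (exists_sq_ne_one (e := t + 1) hn) hk hi h3 h2 (by
      rw [_root_.zpow_sub_one, eq_mul_inv_iff_mul_eq, tw_mul, hσ, h1, mul_neg, inv_mul_cancel, ← h3,
        ← zpow_natCast]
      simp)
  exact ⟨H, _, inferInstance, T, r, s, by simpa [hh] using M, hc, _, _, _, q,
    ⟨2 ^ (t + 1) * (2 * m + 1), by rw [h]; ring⟩, hK, hL⟩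

end Cfsg.Agent.MF
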