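import Mathlib
import Cfsg.Agent.MF.Defs
import Cfsg.Agent.MF.Base
import Cfsg.Agent.MF.Alg3
import Cfsg.Agent.JS.Defs
import Cfsg.Agent.JS.Start

set_option autoImplicit false
set_option linter.unusedSectionVars false
set_option synthInstance.maxSize 100000
set_option synthInstance.maxHeartbeats 1000000

namespace Cfsg.Agent.MF

open Cfsg Cfsg.Agent.GT Cfsg.Agent.Loc.Mss Cfsg.Agent.Loc.PU Cfsg.Agent.Loc.Blk Cfsg.Agent.Loc.GC
  Cfsg.Agent.Fus Cfsg.Agent.Fus.SU Cfsg.FusionSystem Subgroup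
open scoped commutatorElement MatrixGroups

namespace JBase

section Gen
variable {U : Type} [Group U] {G G' : Type*} [Group G] [Group G'] {ι : U →* G} {j : U →* G'}
  {S : Subgroup G} {S' : Subgroup G'} {t : G} {q : G'} {m : U → U}

theorem tmul (h : Sw ι S t m) (u : U) : t * ι u = ι (m u) * t := by
  rw [← h.act u (mem_top _)]; group

/-- The elements of `S`. -/
theorem mem_iff (h : Sw ι S t m) {x : G} : x ∈ S ↔ ∃ u, x = ι u ∨ x = ι u * t := by
  have ti : t⁻¹ = t := inv_eq_of_mul_eq_one_right h.sq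
  let T : Subgroup G :=
    { carrier := {x | ∃ u, x = ι u ∨ x = ι u * t}
      one_mem' := ⟨1, Or.inl (map_one ι).symm⟩
      mul_mem' := by
        rintro _ _ ⟨u, rfl | rfl⟩ ⟨u', rfl | rfl⟩
        · exact ⟨u * u', Or.inl (map_mul ..).symm⟩
        · exact ⟨u * u', Or.inr (by rw [map_mul, mul_assoc])⟩
        · exact ⟨u * m u', Or.inr (by rw [map_mul, mul_assoc, tmul h, mul_assoc])⟩
        · exact ⟨u * m u', Or.inl (by
            rw [map_mul, mul_assoc, ← mul_assoc t, tmul h, mul_assoc, h.sq, mul_one])⟩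
      inv_mem' := by
        rintro _ ⟨u, rfl | rfl⟩
        · exact ⟨u⁻¹, Or.inl (map_inv ..).symm⟩
        · exact ⟨m u⁻¹, Or.inr (by rw [mul_inv_rev, ti, ← map_inv, tmul h])⟩ }
  refine ⟨fun hx => ?_, ?_⟩
  · have : S ≤ T := h.eq ▸ sup_le (by rintro _ ⟨u, rfl⟩; exact ⟨u, Or.inl rfl⟩)
      (zpowers_le.2 ⟨1, Or.inr (by rw [map_one, one_mul])⟩)
    exact this hx
  · rw [h.eq]
    rintro ⟨u, rfl | rfl⟩
    · exact mem_sup_left ⟨u, rfl⟩
    · exact mul_mem (mem_sup_left ⟨u, rfl⟩) (mem_sup_right (mem_zpowers _))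

theorem mem_i (h : Sw ι S t m) (u : U) : ι u ∈ S := (mem_iff h).2 ⟨u, Or.inl rfl⟩

theorem mem_t (h : Sw ι S t m) : t ∈ S := (mem_iff h).2 ⟨1, Or.inr (by simp)⟩

/-- Two extensions with the same action are isomorphic. -/
theorem exists_equiv (h' : Sw j S' q m) (h : Sw ι S t m) (hq : q ∉ j.range) (ht : t ∉ ι.range) :
    ∃ π : S' →* S, Function.Bijective π ∧ ∀ u, π ⟨j u, mem_i h' u⟩ = ⟨ι u, mem_i h u⟩ := by
  let R : G' → G → Prop := fun x y => ∃ u, (x = j u ∧ y = ι u) ∨ (x = j u * q ∧ y = ι u * t)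
  have tot : ∀ x : S', ∃ y : S, R x y := fun x => by
    obtain ⟨u, e | e⟩ := (mem_iff h').1 x.2
    · exact ⟨⟨_, mem_i h u⟩, u, Or.inl ⟨e, rfl⟩⟩
    · exact ⟨⟨_, mul_mem (mem_i h u) (mem_t h)⟩, u, Or.inr ⟨e, rfl⟩⟩
  have fn : ∀ {x y y'}, R x y → R x y' → y = y' := by
    rintro _ _ _ ⟨u, ⟨rfl, rfl⟩ | ⟨rfl, rfl⟩⟩ ⟨u', ⟨e, rfl⟩ | ⟨e, rfl⟩⟩
    · rw [h'.inj e]
    · exact (hq ⟨u'⁻¹ * u, by rw [map_mul, e]; simp⟩).elim
    · exact (hq ⟨u⁻¹ * u', by rw [map_mul, ← e]; simp⟩).elim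
    · rw [h'.inj (mul_right_cancel e)]
  have fn' : ∀ {x x' y}, R x y → R x' y → x = x' := by
    rintro _ _ _ ⟨u, ⟨rfl, rfl⟩ | ⟨rfl, rfl⟩⟩ ⟨u', ⟨rfl, e⟩ | ⟨rfl, e⟩⟩
    · rw [h.inj e]
    · exact (ht ⟨u'⁻¹ * u, by rw [map_mul, e]; simp⟩).elim
    · exact (ht ⟨u⁻¹ * u', by rw [map_mul, ← e]; simp⟩).elim
    · rw [h.inj (mul_right_cancel e)]
  have ml : ∀ {x y x' y'}, R x y → R x' y' → R (x * x') (y * y') := by
    rintro _ _ _ _ ⟨u, ⟨rfl, rfl⟩ | ⟨rfl, rfl⟩⟩ ⟨u', ⟨rfl, rfl⟩ | ⟨rfl, rfl⟩⟩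
    · exact ⟨u * u', Or.inl ⟨(map_mul ..).symm, (map_mul ..).symm⟩⟩
    · exact ⟨u * u', Or.inr ⟨by rw [map_mul, mul_assoc], by rw [map_mul, mul_assoc]⟩⟩
    · exact ⟨u * m u', Or.inr ⟨by rw [map_mul, mul_assoc, tmul h', mul_assoc],
        by rw [map_mul, mul_assoc, tmul h, mul_assoc]⟩⟩
    · exact ⟨u * m u', Or.inl
        ⟨by rw [map_mul, mul_assoc, ← mul_assoc q, tmul h', mul_assoc, h'.sq, mul_one],
          by rw [map_mul, mul_assoc, ← mul_assoc t, tmul h, mul_assoc, h.sq, mul_one]⟩⟩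
  choose f hf using tot
  refine ⟨MonoidHom.mk' f fun a b => Subtype.ext (fn (hf _) (ml (hf a) (hf b))),
    ⟨fun a b e => Subtype.ext (fn' (hf a) (by rw [show f a = f b from e]; exact hf b)), fun y => ?_⟩,
    fun u => Subtype.ext (fn (hf _) ⟨u, Or.inl ⟨rfl, rfl⟩⟩)⟩
  obtain ⟨u, e | e⟩ := (mem_iff h).1 y.2
  · exact ⟨⟨_, mem_i h' u⟩, Subtype.ext (fn (hf _) ⟨u, Or.inl ⟨rfl, e⟩⟩)⟩
  · exact ⟨⟨_, mul_mem (mem_i h' u) (mem_t h')⟩, Subtype.ext (fn (hf _) ⟨u, Or.inr ⟨rfl, e⟩⟩)⟩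

end Gen

section F4
variable {K : Type} [Field K]

theorem exists_om (hK : Nat.card K = 4) : ∃ c : K, c ≠ 0 ∧ c ≠ 1 ∧ c * c = c + 1 ∧
    ∀ x : K, x = 0 ∨ x = 1 ∨ x = c ∨ x = c + 1 := by
  have : Finite K := Nat.finite_of_card_ne_zero (by omega)
  have : CharP K 2 := Loc.PU.charP_of_card (n := 2) hK
  have t : (2 : K) = 0 := CharTwo.two_eq_zero
  have h3 : ∀ x : K, x ≠ 0 → x ≠ 1 → x ^ 2 + x + 1 = 0 := fun x h0 h1 => by
    have := Alg3.pow_card h0
    rw [hK] at this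
    exact mul_left_cancel₀ (sub_ne_zero.2 h1) (by linear_combination this)
  obtain ⟨c, c0, c1⟩ := Alg3.exists_ne (K := K) (by omega)
  have hc := h3 c c0 c1
  refine ⟨c, c0, c1, by linear_combination hc - (c + 1) * t, fun x => ?_⟩
  by_cases h0 : x = 0
  · exact Or.inl h0
  by_cases h1 : x = 1
  · exact Or.inr (Or.inl h1)
  have : (x - c) * (x - (c + 1)) = 0 := by
    linear_combination h3 x h0 h1 + hc - (x * c + x + 1) * t
  rcases mul_eq_zero.1 this with e | e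
  · exact Or.inr (Or.inr (Or.inl (sub_eq_zero.1 e)))
  · exact Or.inr (Or.inr (Or.inr (sub_eq_zero.1 e)))

variable {G : Type*} [Group G] [CharP K 2] {c : K}

/-- An additive map with given values on the basis `1, c`. -/
theorem exists_lin (c0 : c ≠ 0) (c1 : c ≠ 1) (hc : ∀ x : K, x = 0 ∨ x = 1 ∨ x = c ∨ x = c + 1)
    {g h : G} (gg : g * g = 1) (hh : h * h = 1) (gh : g * h = h * g) :
    ∃ v : K → G, (∀ a b, v (a + b) = v a * v b) ∧ v 0 = 1 ∧ v 1 = g ∧ v c = h ∧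
      v (c + 1) = h * g := by
  classical
  have t : (2 : K) = 0 := CharTwo.two_eq_zero
  have n0 : c + 1 ≠ 0 := fun e => c1 (by linear_combination e - t)
  have n1 : c + 1 ≠ 1 := fun e => c0 (by linear_combination e)
  have n2 : c + 1 ≠ c := fun e => one_ne_zero (by linear_combination e : (1 : K) = 0)
  obtain ⟨v, v0, v1, vc, vd⟩ : ∃ v : K → G, v 0 = 1 ∧ v 1 = g ∧ v c = h ∧ v (c + 1) = h * g :=
    ⟨fun x => if x = 0 then 1 else if x = 1 then g else if x = c then h else h * g, by simp,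
      by simp, by simp [c0, c1], by simp [n0, n1]⟩
  refine ⟨v, fun a b => ?_, v0, v1, vc, vd⟩
  have e1 : (1 : K) + 1 = 0 := by linear_combination t
  have e2 : 1 + c = c + 1 := add_comm ..
  have e3 : 1 + (c + 1) = c := by linear_combination t
  have e4 : c + c = 0 := by linear_combination c * t
  have e5 : c + (c + 1) = 1 := by linear_combination c * t
  have e6 : c + 1 + 1 = c := by linear_combination t
  have e7 : c + 1 + c = 1 := by linear_combination c * t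
  have e8 : c + 1 + (c + 1) = 0 := by linear_combination (c + 1) * t
  have gg' : ∀ x, g * (g * x) = x := fun x => by rw [← mul_assoc, gg, one_mul]
  have hh' : ∀ x, h * (h * x) = x := fun x => by rw [← mul_assoc, hh, one_mul]
  have gh' : ∀ x, g * (h * x) = h * (g * x) := fun x => by rw [← mul_assoc, gh, mul_assoc]
  rcases hc a with rfl | rfl | rfl | rfl <;> rcases hc b with rfl | rfl | rfl | rfl <;>
    simp only [zero_add, add_zero, e1, e2, e3, e4, e5, e6, e7, e8, v0, v1, vc, vd, one_mul, mul_one,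
      mul_assoc, gg, hh, gh, gg', hh', gh']

end F4

section Model
open Cfsg.Agent.Rec Cfsg.Agent.Rec.J23 Cfsg.Agent.JS
variable {K : Type} [Field K] {G : Type*} [Group G]

theorem letters (s : St G) : ∃ a ∈ s.E, ∃ b ∈ s.E,
    a * (s.q5 * a * s.q5) = s.q5 * a * s.q5 * a * s.z ∧
    a * (s.q5 * (b * a) * s.q5) = s.q5 * (b * a) * s.q5 * a * s.q4 ∧
    b * (s.q5 * a * s.q5) = s.q5 * a * s.q5 * b * s.q4 ∧
    b * (s.q5 * (b * a) * s.q5) = s.q5 * (b * a) * s.q5 * b * (s.q4 * s.z) :=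
  s.lists.decide s.rep (by decide +kernel)

theorem card_sub (hK : Nat.card K = 4) : Nat.card (U3 K) = 64 ∧ Nat.card (U3.V K) = 16 ∧
    Nat.card (U3.W K) = 16 ∧ Nat.card ↥(U3.V K ⊓ U3.W K) = 4 := by
  refine ⟨by rw [Nat.card_congr U3.equivProd, Nat.card_prod, Nat.card_prod, hK], ?_, ?_, ?_⟩
  · rw [Nat.card_congr (β := K × K) ⟨fun u => (u.1.x, u.1.z), fun a => ⟨⟨a.1, 0, a.2⟩, rfl⟩,
      fun u => Subtype.ext (U3.ext rfl (U3.mem_V.1 u.2).symm rfl), fun _ => rfl⟩, Nat.card_prod, hK]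
  · rw [Nat.card_congr (β := K × K) ⟨fun u => (u.1.y, u.1.z), fun a => ⟨⟨0, a.1, a.2⟩, rfl⟩,
      fun u => Subtype.ext (U3.ext (U3.mem_W.1 u.2).symm rfl rfl), fun _ => rfl⟩, Nat.card_prod, hK]
  · rw [Nat.card_congr (β := K) ⟨fun u => u.1.z, fun a => ⟨⟨0, 0, a⟩, rfl, rfl⟩,
      fun u => Subtype.ext (U3.ext (U3.mem_W.1 u.2.2).symm (U3.mem_V.1 u.2.1).symm rfl),
      fun _ => rfl⟩, hK]

/-- Coordinates on the letters. -/
theorem exists_j [Finite G] (s : St G) (hK : Nat.card K = 4) {σ : K ≃+* K}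
    (hσ : σ ≠ RingEquiv.refl K) :
    ∃ j : U3 K →* G, Sw j s.S s.q5 (U3.swp ∘ U3.mon 1 1 σ) ∧ s.R = j.range ∧
      s.E = (U3.V K).map j ∧ s.F = (U3.W K).map j ∧ s.V = (U3.V K ⊓ U3.W K).map j := by
  have : Finite K := Nat.finite_of_card_ne_zero (by omega)
  have : CharP K 2 := Loc.PU.charP_of_card (n := 2) hK
  have t : (2 : K) = 0 := CharTwo.two_eq_zero
  obtain ⟨c, c0, c1, cc, hc⟩ := exists_om hK
  have sc : σ c = c + 1 := by
    rcases hc (σ c) with e | e | e | e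
    · exact (c0 (by simpa using e)).elim
    · exact (c1 (by simpa using e)).elim
    · refine (hσ (RingEquiv.ext fun x => ?_)).elim
      rcases hc x with rfl | rfl | rfl | rfl <;> simp [e]
    · exact e
  have sd : σ (c + 1) = c := by rw [map_add, sc, map_one]; linear_combination t
  have ss : ∀ x, σ (σ x) = x := fun x => by
    rcases hc x with rfl | rfl | rfl | rfl <;> simp only [map_zero, map_one, sc, sd]
  obtain ⟨a, ha, b, hb, r1, r2, r3, r4⟩ := letters s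
  obtain ⟨v, hv, v0, v1, vc, vd⟩ :=
    exists_lin c0 c1 hc (s.E_sq a ha) (s.E_sq b hb) (s.E_comm a ha b hb)
  obtain ⟨z, hz, z0, z1, zc, zd⟩ := exists_lin c0 c1 hc s.z_sq (s.E_sq _ (s.V_le_E s.q4_mem))
    (s.z_comm _ (s.V_le s.q4_mem)).symm
  have q5 : ∀ x, s.q5 * (s.q5 * x) = x := fun x => by rw [← mul_assoc, s.q5_sq, one_mul]
  have q5S := s.Q_le s.q5_mem
  have vE : ∀ x, v x ∈ s.E := fun x => by
    rcases hc x with rfl | rfl | rfl | rfl
    exacts [v0 ▸ one_mem _, v1 ▸ ha, vc ▸ hb, vd ▸ mul_mem hb ha]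
  have zV : ∀ x, z x ∈ s.V := fun x => by
    rcases hc x with rfl | rfl | rfl | rfl
    exacts [z0 ▸ one_mem _, z1 ▸ s.z_mem, zc ▸ s.q4_mem, zd ▸ mul_mem s.q4_mem s.z_mem]
  have zq : s.q4 * s.z = s.z * s.q4 := s.z_comm _ (s.V_le s.q4_mem)
  have zs : ∀ x, s.q5 * z x * s.q5 = z (σ x) := fun x => by
    rcases hc x with rfl | rfl | rfl | rfl
    · rw [map_zero, z0, mul_one, s.q5_sq]
    · rw [map_one, z1, s.z_comm _ q5S, mul_assoc, s.q5_sq, mul_one]
    · rw [sc, zc, zd, s.q5_q4, zq]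
    · rw [sd, zc, zd, zq, ← s.q5_q4]
      simp only [mul_assoc, q5, s.q5_sq, mul_one]
  have zi : ∀ x, z x = 1 → x = 0 := fun x e => by
    obtain ⟨n1, n2, n3, -⟩ := s.V_ne
    rcases hc x with rfl | rfl | rfl | rfl
    exacts [rfl, (n1 (z1 ▸ e)).elim, (n2 (zc ▸ e)).elim, (n3 (by rw [← zq, ← zd, e])).elim]
  let w : K → G := fun x => s.q5 * v (σ x) * s.q5
  have hw : ∀ x y, w (x + y) = w x * w y := fun x y => by
    simp only [w, map_add, hv, mul_assoc, q5]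
  have wF : ∀ x, w x ∈ s.F := fun x => (s.q5_F _ (s.E_le (vE _))).1 (vE _)
  have w0 : w 0 = 1 := by simp only [w, map_zero, v0, mul_one, s.q5_sq]
  have zv : ∀ x y, z x * v y = v y * z x := fun x y =>
    (s.R_comm _ (s.E_le_R (vE y)) _ (zV x)).symm
  have zw : ∀ x y, z x * w y = w y * z x := fun x y =>
    (s.R_comm _ (s.F_le_R (wF y)) _ (zV x)).symm
  have ad1 : ∀ {x x' y}, v x * w y = w y * v x * z (x * y) → v x' * w y = w y * v x' * z (x' * y) →
      v (x + x') * w y = w y * v (x + x') * z ((x + x') * y) := fun {x x' y} e e' => by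
    rw [hv, add_mul, hz, mul_assoc, e', ← mul_assoc, ← mul_assoc, e, mul_assoc (w y * v x), zv]
    group
  have ad2 : ∀ {x y y'}, v x * w y = w y * v x * z (x * y) → v x * w y' = w y' * v x * z (x * y') →
      v x * w (y + y') = w (y + y') * v x * z (x * (y + y')) := fun {x y y'} e e' => by
    rw [hw, mul_add, add_comm (x * y), hz, ← mul_assoc, e, mul_assoc (w y * v x), zw, ← mul_assoc,
      mul_assoc (w y), e']
    group
  have vw : ∀ x y, v x * w y = w y * v x * z (x * y) := by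
    have p1 : v 1 * w 1 = w 1 * v 1 * z (1 * 1) := by
      simpa only [w, map_one, v1, mul_one, z1] using r1
    have p2 : v 1 * w c = w c * v 1 * z (1 * c) := by
      simpa only [w, sc, v1, vd, one_mul, zc] using r2
    have p3 : v c * w 1 = w 1 * v c * z (c * 1) := by
      simpa only [w, map_one, v1, vc, mul_one, zc] using r3
    have p4 : v c * w c = w c * v c * z (c * c) := by
      simpa only [w, sc, vd, vc, cc, zd] using r4
    have k : ∀ x, v x * w 1 = w 1 * v x * z (x * 1) → v x * w c = w c * v x * z (x * c) →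
        ∀ y, v x * w y = w y * v x * z (x * y) := fun x e e' y => by
      rcases hc y with rfl | rfl | rfl | rfl
      exacts [by rw [w0, mul_zero, z0]; group, e, e', ad2 e' e]
    intro x y
    rcases hc x with rfl | rfl | rfl | rfl
    exacts [by rw [v0, zero_mul, z0]; group, k _ p1 p2 y, k _ p3 p4 y, ad1 (k _ p3 p4 y) (k _ p1 p2 y)]
  obtain ⟨j, hj⟩ := U3.lift v w z hv hw hz zv zw vw
  have ji : Function.Injective j := (injective_iff_map_eq_one j).2 fun u hu => by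
    have k : ∀ u', z (u * u' * u⁻¹ * u'⁻¹).z = 1 := fun u' => by
      have : j (u * u' * u⁻¹ * u'⁻¹) = 1 := by simp [hu]
      rw [hj] at this
      simpa [v0, w0] using this
    have kx : u.x = 0 := by
      have := zi _ (k ⟨0, 1, 0⟩)
      simp at this
      linear_combination this
    have ky : u.y = 0 := by
      have := zi _ (k ⟨1, 0, 0⟩)
      simp at this
      linear_combination -this
    rw [hj, kx, ky, v0, w0, one_mul, one_mul] at hu
    exact U3.ext kx ky (zi _ hu)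
  obtain ⟨k1, k2, k3, k4⟩ := card_sub hK
  have eR : s.R = j.range := (eq_of_le_of_card_ge (by
    rintro _ ⟨u, rfl⟩
    rw [hj]
    exact mul_mem (mul_mem (s.F_le_R (wF _)) (s.E_le_R (vE _))) (s.V_le_R (zV _))) (by
      rw [s.card_R, ← k1]; exact (Nat.card_congr (MonoidHom.ofInjective ji).toEquiv).le)).symm
  refine ⟨j, ⟨ji, s.q5_sq, fun u _ => ?_, le_antisymm (fun y hy => ?_)
    (sup_le (eR ▸ s.R_le) (zpowers_le.2 q5S))⟩, eR, ?_, ?_, ?_⟩
  · rw [hj, hj, s.q5_inv]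
    simp only [Function.comp_apply, U3.swp, U3.mon, one_mul]
    have e1 : s.q5 * (w u.y * v u.x * z u.z) * s.q5 = v (σ u.y) * w (σ u.x) * z (σ u.z) := by
      rw [← zs]
      simp only [w, ss, mul_assoc, q5]
    rw [e1, vw, add_comm, hz, mul_comm (σ u.x)]
    group
  · rcases s.S_cases y hy with e | e
    · exact mem_sup_left (eR ▸ e)
    · rw [← q5 y]
      exact mul_mem (mem_sup_right (mem_zpowers _)) (mem_sup_left (eR ▸ e))
  · refine (eq_of_le_of_card_ge ?_ (by rw [s.card_E, card_map_of_injective ji, k2])).symm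
    rintro _ ⟨u, hu, rfl⟩
    rw [hj, U3.mem_V.1 hu, w0, one_mul]
    exact mul_mem (vE _) (s.V_le_E (zV _))
  · refine (eq_of_le_of_card_ge ?_ (by rw [s.card_F, card_map_of_injective ji, k3])).symm
    rintro _ ⟨u, hu, rfl⟩
    rw [hj, U3.mem_W.1 hu, v0, mul_one]
    exact mul_mem (wF _) (s.V_le_F (zV _))
  · refine (eq_of_le_of_card_ge ?_ (by rw [s.card_V, card_map_of_injective ji, k4])).symm
    rintro _ ⟨u, hu, rfl⟩
    rw [hj, U3.mem_V.1 hu.1, U3.mem_W.1 hu.2, v0, w0, one_mul, one_mul]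
    exact zV _

theorem Q_eq (s : St G) : s.Q = closure {x | x ∈ s.S ∧ x ∉ s.R ∧ x ^ 2 = 1} := by
  refine le_antisymm ?_ ((closure_le _).2 fun x ⟨h1, h2, h3⟩ => ?_)
  · have k : (s.q1 ∈ s.S ∧ s.q1 ∉ s.R ∧ s.q1 ^ 2 = 1) ∧ (s.q2 ∈ s.S ∧ s.q2 ∉ s.R ∧ s.q2 ^ 2 = 1) ∧
        (s.q3 ∈ s.S ∧ s.q3 ∉ s.R ∧ s.q3 ^ 2 = 1) ∧ (s.q5 ∈ s.S ∧ s.q5 ∉ s.R ∧ s.q5 ^ 2 = 1) ∧
        s.q4 = s.q3 * s.q2 * s.q1 * s.q5 ∧ s.z = s.q1 * s.q2 * (s.q1 * s.q2) :=
      s.lists.decide s.rep (by decide +kernel)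
    obtain ⟨k1, k2, k3, k5, k4, kz⟩ := k
    have m1 := subset_closure (k := {x | x ∈ s.S ∧ x ∉ s.R ∧ x ^ 2 = 1}) k1
    have m2 := subset_closure (k := {x | x ∈ s.S ∧ x ∉ s.R ∧ x ^ 2 = 1}) k2
    have m3 := subset_closure (k := {x | x ∈ s.S ∧ x ∉ s.R ∧ x ^ 2 = 1}) k3
    have m5 := subset_closure (k := {x | x ∈ s.S ∧ x ∉ s.R ∧ x ^ 2 = 1}) k5
    refine clos_le.2 ?_
    simp only [List.forall_mem_cons, List.not_mem_nil, false_imp_iff, implies_true, and_true]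
    exact ⟨m1, m2, m3, k4 ▸ mul_mem (mul_mem (mul_mem m3 m2) m1) m5, m5,
      kz ▸ mul_mem (mul_mem m1 m2) (mul_mem m1 m2)⟩
  · rcases s.invol x h1 (by rw [← pow_two, h3]) with e | e | e
    exacts [(h2 (s.E_le_R e)).elim, (h2 (s.F_le_R e)).elim, e.1]

theorem cent_out (s : St G) : ∀ a ∈ s.S, a ∉ s.R → a * a = 1 → ∀ y ∈ s.S, y * y = 1 →
    y * a = a * y → y = 1 ∨ y = s.z ∨ y = a ∨ y = s.z * a := s.lists.decide s.rep (by decide +kernel)

theorem t_notMem {ι : U3 K →* G} {S : Subgroup G} {t : G} {a b : K} {σ : K ≃+* K}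
    (k : Sw ι S t (U3.swp ∘ U3.mon a b σ)) : t ∉ ι.range := by
  rintro ⟨u, rfl⟩
  have := congrArg U3.x (k.act.eq k.inj (Acts.inner u) ⟨1, 0, 0⟩ (mem_top _))
  simp [U3.swp, U3.mon] at this

end Model

end JBase

variable {G : Type*} [Group G] [Finite G] {K : Type} [Field K] {ι : U3 K →* G} {S : Subgroup G}
  {t : G}

open JBase in
theorem SwJ.exists_st (h : SwJ ι S t) (hK : Nat.card K = 4) :
    ∃ s : JS.St ↥S, s.S = ⊤ ∧ s.R = ι.range.subgroupOf S ∧ s.E = ((U3.V K).map ι).subgroupOf S ∧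
      s.F = ((U3.W K).map ι).subgroupOf S ∧ s.V = ((U3.V K ⊓ U3.W K).map ι).subgroupOf S ∧
        s.Q = (Out S ι.range 2).subgroupOf S := by
  obtain ⟨a, b, σ, ha, hb, hσ, h⟩ := h
  have ti : t⁻¹ = t := inv_eq_of_mul_eq_one_right h.sq
  have e1 : b * σ a = 1 := by
    have := (h.act.mul h.act).eq h.inj (h.sq ▸ Acts.one) ⟨1, 0, 0⟩ (mem_top _)
    simpa [U3.swp, U3.mon] using congrArg U3.x this
  let μ : U3 K ≃* U3 K :=
    { toFun := fun u => ⟨u.x, a * u.y, a * u.z⟩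
      invFun := fun u => ⟨u.x, a⁻¹ * u.y, a⁻¹ * u.z⟩
      left_inv := fun u => by ext <;> simp [ha]
      right_inv := fun u => by ext <;> simp [ha]
      map_mul' := fun u u' => by ext <;> simp <;> ring }
  have eP : ∀ P : Subgroup (U3 K), (∀ u, μ u ∈ P ↔ u ∈ P) → P.map (ι.comp μ.toMonoidHom) = P.map ι :=
    fun P hP => by
      rw [← map_map]
      congr 1
      ext u
      obtain ⟨u, rfl⟩ := μ.surjective u
      exact (mem_map_iff_mem μ.injective).trans (hP u).symm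
  have eT : (ι.comp μ.toMonoidHom).range = ι.range := by
    rw [MonoidHom.range_eq_map, eP ⊤ fun _ => Iff.rfl, MonoidHom.range_eq_map]
  have eV := eP (U3.V K) fun u => by simp [U3.mem_V, μ, ha]
  have eW := eP (U3.W K) fun u => Iff.rfl
  have eZ := eP (U3.V K ⊓ U3.W K) fun u => by simp [U3.mem_V, U3.mem_W, μ, ha]
  have h' : Sw (ι.comp μ.toMonoidHom) S t (U3.swp ∘ U3.mon 1 1 σ) :=
    ⟨h.inj.comp μ.injective, h.sq, fun u _ => (h.act (μ u) (mem_top _)).trans (congrArg ι (by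
      ext <;> simp [U3.swp, U3.mon, μ]
      · linear_combination σ u.y * e1
      · linear_combination (a * σ u.z + a * σ u.x * σ u.y) * e1)), by rw [eT]; exact h.eq⟩
  rw [← eT, ← eV, ← eW, ← eZ]
  generalize ι.comp μ.toMonoidHom = ι' at h'
  obtain ⟨s₀⟩ := JS.exists_stH_J2
  let s := JS.ofStH s₀
  obtain ⟨j, hj, jR, jE, jF, jV⟩ := exists_j s hK hσ
  obtain ⟨π, hπ, e⟩ := exists_equiv hj h' (t_notMem hj) (t_notMem h')
  have eS : (s.S.subgroupOf s.S).map π = ⊤ := by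
    rw [subgroupOf_self, map_top_of_surjective _ hπ.2]
  have eM : ∀ P : Subgroup (U3 K), ((P.map j).subgroupOf s.S).map π = (P.map ι').subgroupOf S :=
    fun P => by
      ext y
      constructor
      · rintro ⟨⟨_, hx⟩, ⟨u, hu, rfl⟩, rfl⟩
        exact ⟨u, hu, (congrArg Subtype.val (e u)).symm⟩
      · rintro ⟨u, hu, e'⟩
        exact ⟨⟨j u, mem_i hj u⟩, ⟨u, hu, rfl⟩, (e u).trans (Subtype.ext e')⟩
  have pg : IsPGroup 2 (⊤ : Subgroup S) := (s.pS.of_surjective π hπ.2).to_subgroup ⊤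
  let s' := s.map le_rfl π (fun x _ hx => hπ.1 (by rw [hx, map_one]))
    (by rw [eS]; exact Inv.Fz.isSylIn_of_not_dvd le_rfl pg (by simp))
  have f1 : s'.S = ⊤ := (s.map_S ..).trans eS
  have f2 : s'.R = ι'.range.subgroupOf S := (s.map_R ..).trans (by
    rw [jR, MonoidHom.range_eq_map, eM, MonoidHom.range_eq_map])
  refine ⟨s', f1, f2, (s.map_E ..).trans (by rw [jE, eM]), (s.map_F ..).trans (by rw [jF, eM]),
    (s.map_V ..).trans (by rw [jV, eM]), ?_⟩
  rw [Q_eq, f1, f2, ← comap_map_eq_self_of_injective (subtype_injective S) (closure _),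
    MonoidHom.map_closure, subgroupOf, subgroupOf, Out]
  congr 2
  ext x
  constructor
  · rintro ⟨y, ⟨-, h2, h3⟩, rfl⟩
    exact ⟨y.2, h2, congrArg Subtype.val h3⟩
  · rintro ⟨h1, h2, h3⟩
    exact ⟨⟨x, h1⟩, ⟨mem_top _, h2, Subtype.ext h3⟩, rfl⟩

open JBase in
theorem SwJ.sq (h : SwJ ι S t) (hK : Nat.card K = 4) :
    Sq S ι.range ((U3.V K).map ι) ((U3.W K).map ι) ((U3.V K ⊓ U3.W K).map ι) ⊥ 4 := by
  obtain ⟨s, f1, f2, -⟩ := h.exists_st hK
  obtain ⟨a, b, σ, ha, hb, hσ, h⟩ := h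
  have : CharP K 2 := by
    have : Finite K := Nat.finite_of_card_ne_zero (by omega)
    exact Loc.PU.charP_of_card (n := 2) hK
  have t2 : (2 : K) = 0 := CharTwo.two_eq_zero
  obtain ⟨k1, k2, k3, k4⟩ := card_sub hK
  have le : ι.range ≤ S := h.eq ▸ le_sup_left
  have ea : ∀ P : Subgroup (U3 K), (∀ u ∈ P, ∀ u' ∈ P, u.x * u'.y = 0) → EA (P.map ι) :=
    fun P hP => ⟨by
      rintro _ ⟨u, hu, rfl⟩
      refine mem_cent.2 ?_
      rintro _ ⟨u', hu', rfl⟩
      rw [← map_mul, ← map_mul]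
      congr 1
      ext <;> simp [hP u hu u' hu', hP u' hu' u hu, add_comm], by
      rintro _ ⟨u, hu, rfl⟩
      rw [← map_pow, ← map_one ι, pow_two]
      congr 1
      ext <;> simp [hP u hu u hu]
      · linear_combination u.x * t2
      · linear_combination u.y * t2
      · linear_combination u.z * t2⟩
  have tV : t ∉ 𝐍[(U3.V K).map ι] := fun ht => by
    have := conj_mem_of_norm ht (mem_map_of_mem ι (show (⟨1, 0, 0⟩ : U3 K) ∈ U3.V K from rfl))
    rw [h.act _ (mem_top _), mem_map_iff_mem h.inj, U3.mem_V] at this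
    simp [U3.swp, U3.mon, ha] at this
  have bV : ι.range ≤ 𝐍[(U3.V K).map ι] := by
    rintro _ ⟨u, rfl⟩
    refine Inv.Fz.mem_normalizer_of_conj_mem ?_
    rintro _ ⟨u', hu', rfl⟩
    exact ⟨u * u' * u⁻¹, U3.mem_V.2 (by simp [U3.mem_V.1 hu']), by simp⟩
  have tB : S ⊓ 𝐍[(U3.V K).map ι] ≤ ι.range := fun x ⟨hx, hn⟩ => by
    obtain ⟨u, rfl | rfl⟩ := (mem_iff h).1 hx
    · exact ⟨u, rfl⟩
    · exact (tV ((mul_mem_cancel_left (bV ⟨u, rfl⟩)).1 hn)).elim
  refine ⟨⟨?_, le, ?_, ea _ fun u _ u' hu' => by rw [U3.mem_V.1 hu', mul_zero],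
    ea _ fun u hu u' _ => by rw [U3.mem_W.1 hu, zero_mul], ?_, (map_inf _ _ _ h.inj).symm, ?_, bot_le,
    ?_, by rw [card_map_of_injective h.inj, card_map_of_injective h.inj, k2, k4],
    by rw [card_map_of_injective h.inj, card_map_of_injective h.inj, k3, k4],
    by rw [card_map_of_injective h.inj, k4, card_bot], by norm_num, fun x _ => ?_,
    fun x hx _ => tB hx, 1, one_mem _, tB.trans le_sup_left⟩, tB, fun e => tV (e (mem_t h)),
    fun A hA hS hc => ?_⟩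
  · have := s.pS
    rw [f1] at this
    exact this.of_equiv topEquiv
  · rw [h.eq]
    refine sup_le le_normalizer (zpowers_le.2 (Inv.Fz.mem_normalizer_of_conj_mem ?_))
    rintro _ ⟨u, rfl⟩
    exact ⟨_, (h.act u (mem_top _)).symm⟩
  · rw [← Subgroup.map_sup, MonoidHom.range_eq_map]
    congr 1
    refine eq_top_iff.2 fun u _ => ?_
    have : u = ⟨0, u.y, 0⟩ * ⟨u.x, 0, u.z⟩ := by ext <;> simp
    rw [this]
    exact mul_mem (mem_sup_right rfl) (mem_sup_left rfl)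
  · refine commutator_le.2 ?_
    rintro _ ⟨u, hu, rfl⟩ _ ⟨u', hu', rfl⟩
    exact ⟨⁅u, u'⁆, ⟨U3.mem_V.2 (by simp [commutatorElement_def]),
      U3.mem_W.2 (by simp [commutatorElement_def])⟩, map_commutatorElement ..⟩
  · rintro _ ⟨u, hu, rfl⟩ _ ⟨u', hu', rfl⟩ e
    rw [mem_bot, ← map_commutatorElement, map_eq_one_iff ι h.inj] at e
    have := congrArg U3.z e
    simp [commutatorElement_def, U3.mem_V.1 hu, U3.mem_W.1 hu'] at this
    have e' : u.x * u'.y = 0 := by linear_combination this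
    rcases mul_eq_zero.1 e' with e' | e'
    · exact Or.inl ⟨u, ⟨hu, e'⟩, rfl⟩
    · exact Or.inr ⟨u', ⟨e', hu'⟩, rfl⟩
  · rw [normalizer_eq_top]
    trivial
  · intro x hx
    by_contra hn
    rw [card_map_of_injective h.inj, k2] at hc
    classical
    let x' : S := ⟨x, hS hx⟩
    have k : (A : Set G) ⊆ ({1, (s.z : G), x, s.z * x} : Finset G) := fun y hy => by
      have := cent_out s x' (f1 ▸ mem_top _) (by rw [f2]; exact hn) (Subtype.ext (hA.mul_self hx))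
        ⟨y, hS hy⟩ (f1 ▸ mem_top _) (Subtype.ext (hA.mul_self hy)) (Subtype.ext (hA.mul_comm hy hx))
      simp only [Finset.coe_insert, Finset.coe_singleton, Set.mem_insert_iff, Set.mem_singleton_iff]
      exact this.imp (congrArg Subtype.val) (Or.imp (congrArg Subtype.val)
        (Or.imp (congrArg Subtype.val) (congrArg Subtype.val)))
    have := Set.ncard_le_ncard k (Finset.finite_toSet _)
    rw [Set.ncard_coe_finset] at this
    have h4 := this.trans Finset.card_le_four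
    rw [← Nat.card_coe_set_eq] at h4
    exact absurd (hc.trans h4) (by norm_num)

end Cfsg.Agent.MF
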