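import Mathlib
import Cfsg.Agent.MF.Defs
import Cfsg.Agent.MF.JBase

/-! The letters of a Sylow 2-subgroup of type `J₃` inside the ambient group. -/

set_option autoImplicit false
set_option linter.unusedSectionVars false
set_option synthInstance.maxSize 100000
set_option synthInstance.maxHeartbeats 1000000

namespace Cfsg.Agent.MF.JEss

open Cfsg Cfsg.Agent.Spor Cfsg.Agent.Rec Cfsg.Agent.Rec.J23 Cfsg.Agent.JS Subgroup

variable {G : Type*} [Group G]

/-- Codes of a subgroup as codes of the group. -/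
def up {𝔄 : Ar} {S : Subgroup G} (C : Cod 𝔄 S) : Cod 𝔄 G where
  V := C.V
  elt a := C.elt a
  V_one := C.V_one
  elt_one := by rw [C.elt_one]; rfl
  V_mul := C.V_mul
  elt_mul ha hb := by rw [C.elt_mul ha hb]; rfl
  V_inv := C.V_inv
  elt_inv ha := by rw [C.elt_inv ha]; rfl
  inj ha hb h := C.inj ha hb (Subtype.ext h)

theorem up_rep {𝔄 : Ar} {S : Subgroup G} {C : Cod 𝔄 S} {a : ℕ} {x : S} (h : C.Rep a x) :
    (up C).Rep a x := ⟨h.1, congrArg Subtype.val h.2⟩

theorem up_lists {𝔄 : Ar} {S K : Subgroup G} {C : Cod 𝔄 S} {D : Dom} {K' : Subgroup S} (h : C.Lists D K')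
    (e : K' = K.subgroupOf S) (hK : K ≤ S) : (up C).Lists D K := by
  subst e
  exact ⟨h.all, h.has, fun x hx => let ⟨a, ha⟩ := h.cov ⟨x, hK hx⟩ hx; ⟨a, up_rep ha⟩⟩

/-- Letters for `S`, `B`, `Q`, `Z`. -/
structure J (S B Q Z : Subgroup G) where
  (q1 q2 q3 q4 q5 z t u : G)
  C : Cod A G
  rep : C.RepL cS [q1, q2, q3, q4, q5, z, t, u]
  lists : C.ListsL [S_t.dom, R_t.dom, Q_t.dom, V_t.dom] [S, B, Q, Z]
  gen : Q = clos [q1, q2, q3, q4, q5, z]
  pg : IsPGroup 2 S

theorem exists_j [Finite G] {K : Type} [Field K] {ι : U3 K →* G} {S : Subgroup G} {t : G} (h : SwJ ι S t)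
    (hK : Nat.card K = 4) : Nonempty (J S ι.range (Out S ι.range 2) ((U3.V K ⊓ U3.W K).map ι)) := by
  obtain ⟨s, h1, h2, -, -, h3, h4⟩ := h.exists_st hK
  have b := (h.sq hK).bd
  have hQ : Out S ι.range 2 ≤ S := (closure_le _).2 fun _ hx => hx.1
  have r := s.rep
  refine ⟨⟨s.q1, s.q2, s.q3, s.q4, s.q5, s.z, s.t, s.u, up s.C,
    (up_rep (r.nth 0)).cons <| (up_rep (r.nth 1)).cons <| (up_rep (r.nth 2)).cons <| (up_rep (r.nth 3)).cons <|
      (up_rep (r.nth 4)).cons <| (up_rep (r.nth 5)).cons <| (up_rep (r.nth 6)).cons <|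
      (up_rep (r.nth 7)).cons Cod.repL_nil,
    (up_lists s.genS.1 (h1.trans (subgroupOf_self S).symm) le_rfl).cons <| (up_lists s.genR.1 h2 b.le).cons <|
      (up_lists s.genQ.1 h4 hQ).cons <| (up_lists s.genV.1 h3 ((b.Z_le_V.trans b.V_le).trans b.le)).cons
      Cod.listsL_nil, ?_, b.pg⟩⟩
  rw [← map_subgroupOf_eq_of_le hQ, ← h4, St.Q, map_clos]
  rfl

namespace J

variable {S B Q Z : Subgroup G} (j : J S B Q Z)
include j

theorem Q_le : Q ≤ S := j.lists.decide j.rep (by decide +kernel)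
theorem Z_le : Z ≤ Q := j.lists.decide j.rep (by decide +kernel)
theorem z_mem : j.z ∈ Z := j.lists.decide j.rep (by decide +kernel)
theorem z_ne : j.z ≠ 1 := j.lists.decide j.rep (by decide +kernel)
theorem z_sq : j.z * j.z = 1 := j.lists.decide j.rep (by decide +kernel)
theorem z_comm : ∀ y ∈ S, y * j.z = j.z * y := j.lists.decide j.rep (by decide +kernel)
theorem Q_sq : ∀ y ∈ Q, y * y = 1 ∨ y * y = j.z := j.lists.decide j.rep (by decide +kernel)
theorem conj_Q : ∀ g ∈ S, ∀ y ∈ Q, g * y * g⁻¹ ∈ Q := j.lists.decide j.rep (by decide +kernel)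

theorem norm_Q [Finite G] : S ≤ normalizer (Q : Set G) := fun g hg =>
  mem_normalizer_fintype (j.conj_Q g hg)

end J

end Cfsg.Agent.MF.JEss
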