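import Mathlib
import Cfsg.Agent.MF.Defs
import Cfsg.Agent.MF.JBase
import Cfsg.Agent.MF.Ess
import Cfsg.Agent.MF.JAux

set_option autoImplicit false
set_option linter.unusedSectionVars false
set_option synthInstance.maxSize 100000
set_option synthInstance.maxHeartbeats 1000000

namespace Cfsg.Agent.MF

open Cfsg Cfsg.Agent.GT Cfsg.Agent.Loc.Mss Cfsg.Agent.Loc.PU Cfsg.Agent.Loc.Blk Cfsg.Agent.Loc.GC
  Cfsg.Agent.Fus Cfsg.Agent.Fus.SU Cfsg.FusionSystem Subgroup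
open scoped commutatorElement MatrixGroups

namespace JEss

variable {G : Type*} [Group G] [Finite G] {S B Q Z P : Subgroup G} {F : FusionSystem S} (j : J S B Q Z)
include j

theorem J.z_mem_ess (hP : F.IsEssential 2 P) : j.z ∈ P :=
  hP.mem_of_comm (j.Q_le (j.Z_le j.z_mem)) fun x hx => j.z_comm x (hP.le hx)

/-- The automorphisms of an essential subgroup outside `B` fix `z`. -/
theorem J.fix (hP : F.IsEssential 2 P) (hB : ¬ P ≤ B) {f : G → G} (hf : F.Iso P P f) : f j.z = j.z := by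
  obtain ⟨a, aP, aB⟩ := SetLike.not_le_iff_exists.1 hB
  have zP := j.z_mem_ess hP
  have bP := hf.maps _ zP
  have b1 : f j.z ≠ 1 := fun e => j.z_ne ((hf.mor.eq_one_iff zP).1 e)
  have b2 : f j.z * f j.z = 1 := by rw [← hf.mor.map_mul zP zP, j.z_sq, hf.mor.map_one]
  have bc : ∀ x ∈ P, x * f j.z = f j.z * x := fun x hx => by
    obtain ⟨y, hy, rfl⟩ := hf.surj x hx
    rw [← hf.mor.map_mul hy zP, ← hf.mor.map_mul zP hy, j.z_comm y (hP.le hy)]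
  have h1 : ∀ b ∈ S, b * b = 1 → b ≠ 1 → b ≠ j.z → b ∈ B → ∀ a ∈ S, a * b = b * a → a ∈ B :=
    j.lists.decide j.rep (by decide +kernel)
  have h2 : ∀ b ∈ S, b * b = 1 → b ∉ B → ∀ x ∈ S, x * b = b * x → x ∈ Q :=
    j.lists.decide j.rep (by decide +kernel)
  have h3 : ∀ b ∈ Q, b * b = 1 → b ∉ B → ∃ c ∈ Q, c * c ≠ 1 ∧ ∀ x ∈ Q, x * x = 1 → x * b = b * x → x * c = c * x :=
    j.lists.decide j.rep (by decide +kernel)
  by_contra hne
  have bB : f j.z ∉ B := fun k => aB (h1 _ (hP.le bP) b2 b1 hne k a (hP.le aP) (bc a aP))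
  have PQ : P ≤ Q := fun x hx => h2 _ (hP.le bP) b2 bB x (hP.le hx) (bc x hx)
  obtain ⟨c, cQ, c2, hc⟩ := h3 _ (PQ bP) b2 bB
  by_cases hsq : ∀ x ∈ P, x * x = 1
  · exact c2 (hsq c (hP.mem_of_comm (j.Q_le cQ) fun x hx => hc x (PQ hx) (hsq x hx) (bc x hx)))
  · push Not at hsq
    obtain ⟨x, hx, x2⟩ := hsq
    have e : f x * f x = f j.z := by rw [← hf.mor.map_mul hx hx, (j.Q_sq x (PQ hx)).resolve_left x2]
    rcases j.Q_sq _ (PQ (hf.maps x hx)) with k | k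
    exacts [b1 (e ▸ k), hne (e ▸ k)]

theorem J.ess (hF : F.IsSaturated 2) (hQ : SFix F j.z Q) (hP : F.IsEssential 2 P) (hB : ¬ P ≤ B) : P = Q := by
  have zP := j.z_mem_ess hP
  have r := hP.isRadical j.pg
  have I0 : InvA (F.autGroup P) (P ⊓ Q) := invA_autGroup_of_iso hP.le inf_le_left fun f hf x hx =>
    ⟨hf.maps x hx.1, hQ P f hf.mor zP (j.fix hP hB hf) x hx.1 hx.2⟩
  have Iz : InvA (F.autGroup P) (zpowers j.z) := invA_autGroup_of_iso hP.le (zpowers_le.2 zP) fun f hf x hx => by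
    obtain ⟨k, rfl⟩ := mem_zpowers_iff.1 hx
    rw [hf.mor.map_zpow zP, j.fix hP hB hf]
    exact hx
  have c1 : ∀ s ∈ Q, ∀ x ∈ Q, x⁻¹ * (s * x * s⁻¹) = 1 ∨ x⁻¹ * (s * x * s⁻¹) = j.z :=
    j.lists.decide j.rep (by decide +kernel)
  have c2 : ∀ s ∈ S, ∀ x ∈ S, x⁻¹ * (s * x * s⁻¹) ∈ Q := j.lists.decide j.rep (by decide +kernel)
  have QP : Q ≤ P := by
    by_contra c
    haveI := (j.pg.to_le (sup_le hP.le j.Q_le)).isNilpotent
    obtain ⟨y, hy, yP, yN⟩ := PG.exists_mem_normalizer_notMem (N := P) (M := P ⊔ Q) (left_lt_sup.2 c)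
    obtain ⟨x, hx, s, hs, rfl⟩ := (mem_sup_norm' (hP.le.trans j.norm_Q)).1 hy
    have sN : s ∈ 𝐍[P] := (mul_mem_cancel_left (le_normalizer hx)).1 yN
    refine yP (mul_mem hx (r.mem_of_chain3 j.pg hP.isCentric I0 Iz (invA_bot _)
      (zpowers_le.2 ⟨zP, j.Z_le j.z_mem⟩) bot_le bot_le ⟨j.Q_le hs, sN⟩
      (fun x hx => ⟨P.mul_mem (P.inv_mem hx) (conj_mem_of_norm sN hx), c2 s (j.Q_le hs) x (hP.le hx)⟩)
      (fun x hx => ?_) fun x hx => ?_))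
    · rcases c1 s hs x hx.2 with e | e <;> rw [e]
      exacts [one_mem _, mem_zpowers _]
    · obtain ⟨k, rfl⟩ := mem_zpowers_iff.1 hx
      rw [(show Commute s j.z from j.z_comm s (j.Q_le hs)).zpow_right k, mul_inv_cancel_right, inv_mul_cancel]
      exact one_mem _
  by_contra hne
  obtain ⟨w, wP, wQ⟩ := SetLike.exists_of_lt (lt_of_le_of_ne QP (Ne.symm hne))
  rw [inf_eq_right.2 QP] at I0
  have d1 : ∀ w ∈ S, ∀ v ∈ Z, v * v = 1 ∧ (w * v * w⁻¹ = v ∨ w * v * w⁻¹ = j.z * v) :=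
    j.lists.decide j.rep (by decide +kernel)
  have d2 : ∀ w ∈ S, w ∉ Q → ∀ x ∈ Q, x * x = 1 → (w * x * w⁻¹ = x ∨ w * x * w⁻¹ = j.z * x) → x ∈ Z :=
    j.lists.decide j.rep (by decide +kernel)
  have d3 : ∀ w ∈ S, w ∉ Q → ∀ v ∈ Z, ∃ a ∈ Q, ∃ c ∈ Q, v = ⁅a, j.q1⁆ * ⁅c, w⁆ :=
    j.lists.decide j.rep (by decide +kernel)
  have d4 : ∀ s ∈ S, ∀ x ∈ Q, ∀ v ∈ Z, v * (x⁻¹ * (s * x * s⁻¹)) = x⁻¹ * (s * x * s⁻¹) * v :=
    j.lists.decide j.rep (by decide +kernel)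
  have d5 : ∀ x ∈ Q, (∀ v ∈ Z, v * x = x * v) → ∀ s ∈ S, x⁻¹ * (s * x * s⁻¹) ∈ Z :=
    j.lists.decide j.rep (by decide +kernel)
  have d6 : j.q1 ∈ Q := j.lists.decide j.rep (by decide +kernel)
  have IZ : InvA (F.autGroup P) Z := invA_autGroup_of_iso hP.le (j.Z_le.trans QP) fun f hf v hv => by
    have vP := QP (j.Z_le hv)
    obtain ⟨w', w'P, rfl⟩ := hf.surj w wP
    obtain ⟨e1, e2⟩ := d1 w' (hP.le w'P) v hv
    refine d2 _ (hP.le wP) wQ _ (I0.iso_mem hf (j.Z_le hv)) (by rw [← hf.mor.map_mul vP vP, e1, hf.mor.map_one]) ?_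
    rw [← hf.mor.map_conj w'P vP]
    rcases e2 with e | e <;> rw [e]
    exacts [.inl rfl, .inr (by rw [hf.mor.map_mul zP vP, j.fix hP hB hf])]
  obtain ⟨s, hs, sP⟩ := hP.exists_notMem hF j.pg
  refine sP (r.mem_of_chain3 j.pg hP.isCentric I0 (I0.inf_centralizer IZ) IZ inf_le_left
    (le_inf j.Z_le fun v hv v' hv' => ?_) (le_sup_of_le_left fun v hv => ?_) hs
    (fun x hx => c2 s hs.1 x (hP.le hx)) (fun x hx => ⟨c2 s hs.1 x (j.Q_le hx), d4 s hs.1 x hx⟩)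
    fun x hx => d5 x hx.1 hx.2 s hs.1)
  · exact (j.lists.decide j.rep (by decide +kernel) : ∀ v ∈ Z, ∀ v' ∈ Z, v' * v = v * v') v hv v' hv'
  · obtain ⟨a, ha, c, hc, rfl⟩ := d3 w (hP.le wP) wQ v hv
    exact mul_mem (commutator_mem_commutator (QP ha) (QP d6)) (commutator_mem_commutator (QP hc) wP)

end JEss

variable {G : Type*} [Group G] [Finite G] {K : Type} [Field K] {ι : U3 K →* G} {S : Subgroup G}
  {t : G}

theorem SwJ.ess (h : SwJ ι S t) (hK : Nat.card K = 4) {F : FusionSystem S} (hF : F.IsSaturated 2)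
    {y : G} (hy : y ∈ S) (y1 : y ≠ 1) (hc : S ≤ 𝐂[zpowers y]) (hQ : SFix F y (Out S ι.range 2))
    {P : Subgroup G} (hP : F.IsEssential 2 P) :
    P = ι.range ∨ P = (U3.V K).map ι ∨ P = (U3.W K).map ι ∨ P = Out S ι.range 2 := by
  by_cases hB : P ≤ ι.range
  · rcases (h.sq hK).ess_le hF hP hB with e | e | e
    exacts [.inl e, .inr (.inl e), .inr (.inr (.inl e))]
  · obtain ⟨j⟩ := JEss.exists_j h hK
    have h1 : ∀ x ∈ S, (∀ y ∈ S, x * y = y * x) → x = 1 ∨ x = j.z := j.lists.decide j.rep (by decide +kernel)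
    obtain rfl := (h1 y hy fun x hx => hc hx y (mem_zpowers y)).resolve_left y1
    exact .inr (.inr (.inr (j.ess hF hQ hP hB)))

end Cfsg.Agent.MF
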