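import Mathlib
import Cfsg.Agent.MF.Defs

/-! Lemma K for `4 ≤ q` when `N_S(V) = B` (adapted from `Loc/GCKa`, `Loc/GCK`). -/

set_option autoImplicit false
set_option linter.unusedSectionVars false

namespace Cfsg.Agent.MF

open Cfsg Cfsg.Agent.GT Cfsg.Agent.Loc.Mss Cfsg.Agent.Loc.PU Cfsg.Agent.Loc.Blk Cfsg.Agent.Loc.GC
  Cfsg.Agent.Fus Cfsg.Agent.Fus.SU Cfsg.FusionSystem Subgroup
open scoped commutatorElement MatrixGroups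

variable {G : Type*} [Group G] [Finite G]

namespace K4

/-- The standing situation of Lemma K. -/
structure KS4 {G : Type*} [Group G] (T B V W Z D K Q : Subgroup G) (q : ℕ) : Prop where
  bd : BD T B V W Z D q
  hq : 4 ≤ q
  chP : ChP 2 K
  BK : B ≤ K
  eqQ : Q = 𝐎[2, K]
  QT : Q ≤ T
  ea : ∀ A, EA A → A ≤ T → Nat.card V ≤ Nat.card A → A ≤ B

namespace KS4

variable {T B V W Z D K Q : Subgroup G} {q : ℕ} (h : KS4 T B V W Z D K Q q)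
include h

theorem symm : KS4 T B W V Z D K Q q := ⟨h.bd.symm, h.hq, h.chP, h.BK, h.eqQ, h.QT,
  fun A hA hT hc => h.ea A hA hT (h.bd.cardWV ▸ hc)⟩

theorem nQ : K ≤ 𝐍[Q] := h.eqQ ▸ le_norm_core K

theorem QK : Q ≤ K := h.eqQ ▸ pCoreOf_le K

theorem BnQ : B ≤ 𝐍[Q] := h.BK.trans h.nQ

theorem QnB : Q ≤ 𝐍[B] := h.QT.trans h.bd.norm

theorem cQB : ⁅Q, B⁆ ≤ Q ⊓ B :=
  le_inf (comm_le_left h.BnQ) (comm_le_right h.QnB)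

theorem cQ0 : ⁅Q ⊓ B, B⁆ ≤ Q ⊓ Z :=
  le_inf ((commutator_mono inf_le_left le_rfl).trans (comm_le_left h.BnQ))
    ((commutator_mono inf_le_right le_rfl).trans h.bd.comm_B)

theorem comm_mem {x b : G} (hx : x ∈ Q) (hb : b ∈ B) : ⁅x, b⁆ ∈ Q ⊓ B :=
  h.cQB (commutator_mem_commutator hx hb)

theorem comm_mem0 {x b : G} (hx : x ∈ Q) (hx' : x ∈ B) (hb : b ∈ B) : ⁅x, b⁆ ∈ Q ⊓ Z :=
  h.cQ0 (commutator_mem_commutator (⟨hx, hx'⟩ : x ∈ Q ⊓ B) hb)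

theorem le_Q {X : Subgroup G} (hX : X ≤ K) (hc : X ≤ 𝐂[Q]) : X ≤ Q := by
  rw [h.eqQ] at hc ⊢
  exact h.chP.le_core hX hc

theorem chain {K₀ X Y₁ Y₂ : Subgroup G} (h0 : K₀ ≤ K)
    (hn : K ≤ 𝐍[K₀]) (hX : X ≤ K₀) (n1 : K₀ ≤ 𝐍[Y₁]) (n2 : K₀ ≤ 𝐍[Y₂])
    (c0 : ⁅Q, X⁆ ≤ Y₂) (c1 : ⁅Y₂, X⁆ ≤ Y₁) (c2 : X ≤ 𝐂[Y₁]) (l2 : Y₂ ≤ Q)
    (l1 : Y₁ ≤ Q) : X ≤ Q := by
  rw [h.eqQ] at c0 l1 l2 ⊢
  exact le_core_of_chain3 h.chP h0 hn hX n1 n2 c0 c1 c2 l2 l1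

/-- The reduction `(*)`. -/
theorem star (h1 : K ≤ 𝐍[Q ⊓ B]) (h2 : K ≤ 𝐍[Q ⊓ Z]) : B ≤ Q :=
  h.chain le_rfl le_normalizer h.BK h2 h1 h.cQB h.cQ0
    (h.bd.cent_Z.trans (cent_anti inf_le_right)) inf_le_left inf_le_left

theorem ea_eq {A : Subgroup G} (hA : EA A) (hT : A ≤ T) (hc : Nat.card V ≤ Nat.card A) :
    A = V ∨ A = W := h.bd.ea_eq' hA (h.ea A hA hT hc) hc

theorem mem_norm_of_cj_le {g : G} (hg : cj(g, B) ≤ T) : g ∈ 𝐍[B] := by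
  have h1 := h.ea _ (h.bd.eaV.cj g) ((cj_mono g h.bd.V_le).trans hg) (card_cj V g).ge
  have h2 := h.ea _ (h.bd.eaW.cj g) ((cj_mono g h.bd.W_le).trans hg)
    (h.bd.cardWV.ge.trans (card_cj W g).ge)
  refine cj_eq_iff.1 (cj_eq_of_le ?_)
  conv_lhs => rw [← h.bd.sup, cj_sup]
  exact sup_le h1 h2

theorem norm_B_of_le (hB : B ≤ Q) : K ≤ 𝐍[B] := fun _ hk =>
  h.mem_norm_of_cj_le ((cj_le_of_norm hB (h.nQ hk)).trans h.QT)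

theorem enough (hV : V ≤ Q) : K ≤ 𝐍[B] ∨ K ≤ 𝐍[V] := by
  by_cases hW : W ≤ Q
  · exact Or.inl (h.norm_B_of_le (h.bd.sup ▸ sup_le hV hW))
  · refine Or.inr fun k hk => ?_
    have h1 : cj(k, V) ≤ Q := cj_le_of_norm hV (h.nQ hk)
    rcases h.ea_eq (h.bd.eaV.cj k) (h1.trans h.QT) (card_cj V k).ge with h2 | h2
    · exact cj_eq_iff.1 h2
    · exact absurd (h2 ▸ h1) hW

/-- The reduction `(F)`. -/
theorem redF (hU : ¬ Q ⊓ V ≤ Z) (hc : Nat.card ↥(Q ⊓ W) ≤ Nat.card ↥(Q ⊓ V))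
    (hA : ∀ A : Subgroup G, EA A → A ≤ Q → ¬ A ≤ B → Nat.card A < Nat.card ↥(Q ⊓ V)) :
    V ≤ Q := by
  have hea : EA (Q ⊓ V) := h.bd.eaV.of_le inf_le_right
  have key : ∀ k ∈ K, B ≤ 𝐍[cj(k, Q ⊓ V)] := fun k hk => by
    have h1 : cj(k, Q ⊓ V) ≤ Q := cj_le_of_norm inf_le_left (h.nQ hk)
    have h2 : cj(k, Q ⊓ V) ≤ B := by
      by_contra h2
      have := hA _ (hea.cj k) h1 h2
      rw [card_cj] at this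
      exact lt_irrefl _ this
    rcases h.bd.ea_le (hea.cj k) h2 with h3 | h3
    · rw [eq_of_le_of_card_ge (le_inf h1 h3) (card_cj _ k).ge]
      exact norm_inf h.BnQ h.bd.norm_V
    · rw [eq_of_le_of_card_ge (le_inf h1 h3) (hc.trans (card_cj _ k).ge)]
      exact norm_inf h.BnQ h.bd.norm_W
  set K₀ : Subgroup G := K ⊓ ⨅ k : K, 𝐍[cj((k : G), Q ⊓ V)] with hK₀
  have mem0 : ∀ x, x ∈ K₀ ↔ x ∈ K ∧ ∀ k ∈ K, x ∈ 𝐍[cj(k, Q ⊓ V)] := fun x => by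
    simp only [hK₀, mem_inf, mem_iInf, Subtype.forall]
  have hn : K ≤ 𝐍[K₀] := norm_of_forall_cj_le fun g hg => cj_le_iff.2 fun x hx => by
    obtain ⟨hx1, hx2⟩ := (mem0 x).1 hx
    refine (mem0 _).2 ⟨mul_mem (mul_mem hg hx1) (inv_mem hg), fun k hk => ?_⟩
    have := conj_mem_cj (g := g) (hx2 _ (mul_mem (inv_mem hg) hk))
    rwa [cj_norm, cj_cj, mul_inv_cancel_left] at this
  have hB0 : B ≤ K₀ := fun b hb => (mem0 b).2 ⟨h.BK hb, fun k hk => key k hk hb⟩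
  have n1 : K₀ ≤ 𝐍[Q ⊓ V] := fun x hx => by
    have := ((mem0 x).1 hx).2 1 (one_mem K)
    rwa [cj_one] at this
  have hY : Q ⊓ K₀ ≤ 𝐍[V] := fun x hx => by
    by_contra hx'
    refine hU fun u hu => h.bd.k_conj_Z (h.QnB hx.1) (h.bd.k_mem_Z ?_ ?_)
    · exact (conj_mem_of_norm (n1 hx.2) hu).2
    · exact h.bd.k_swV (h.QnB hx.1) hx' hu.2
  refine h.chain inf_le_left hn (h.bd.V_le.trans hB0) n1
    (norm_inf (inf_le_left.trans h.nQ) le_normalizer) ?_ ?_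
    (h.bd.eaV.ab.trans (cent_anti inf_le_right)) inf_le_left inf_le_left
  · exact ((commutator_mono le_rfl h.bd.V_le).trans h.cQB).trans (inf_le_inf_left _ hB0)
  · exact le_inf ((commutator_mono inf_le_left h.bd.V_le).trans (h.cQB.trans inf_le_left))
      (comm_le_right hY)

theorem caseA_aux (hQ : Q ≤ B) {y : G} (hy : y ∈ V) (hZ : y ∉ Z) (hc : y ∈ 𝐂[Q]) : V ≤ Q := by
  refine h.le_Q (h.bd.V_le.trans h.BK) (h.bd.eaV.ab.trans (cent_anti fun x hx => ?_))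
  refine h.bd.cent_V hy hZ (hQ hx) ?_
  rw [commutatorElement_eq_one_iff_mul_comm.2 (mem_cent.1 hc x hx).symm]
  exact one_mem D

/-- Case A. -/
theorem caseA (hQ : Q ≤ B) : V ≤ Q ∨ W ≤ Q := by
  have hZQ : Z ≤ Q := h.le_Q (h.bd.k_Z_le.trans h.BK)
    ((cent_comm h.bd.cent_Z).trans (cent_anti hQ))
  by_cases hY : ΩZ[2, Q] ≤ Z
  · have e : Q ⊓ Z = ΩZ[2, Q] := le_antisymm (fun z hz => mem_oz.2 ⟨hz.1,
      cent_anti hQ (cent_comm h.bd.cent_Z hz.2), h.bd.eaV.sq z (h.bd.Z_le_V hz.2)⟩)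
      (le_inf (oz_le Q) hY)
    refine Or.inl (h.bd.V_le.trans (h.star ?_ ?_))
    · rw [inf_eq_left.2 hQ]; exact h.nQ
    · rw [e]; exact norm_oz h.nQ
  · obtain ⟨y, hy, hyZ⟩ := SetLike.not_le_iff_exists.1 hY
    obtain ⟨h1, h2, h3⟩ := mem_oz.1 hy
    rcases h.bd.mem_or (hQ h1) h3 with h4 | h4
    · exact Or.inl (h.caseA_aux hQ h4 hyZ h2)
    · exact Or.inr (h.symm.caseA_aux hQ h4 hyZ h2)

/-- An elementary abelian subgroup of `Q` containing a swapping element meets `B` inside `Z`. -/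
theorem inf_B_le {A : Subgroup G} (hA : EA A) (hQ : A ≤ Q) {a : G} (ha : a ∈ A) (ha' : a ∉ 𝐍[V]) :
    A ⊓ B ≤ Q ⊓ Z := fun x hx =>
  ⟨hQ hx.1, h.bd.k_fix (h.QnB (hQ ha)) ha' hx.2 (hA.sq x hx.1) (hA.mul_comm ha hx.1)⟩

variable (hS : Q ⊓ 𝐍[V] ≤ B)
include hS

theorem nV {x : G} (hx : x ∈ Q) (hB : x ∉ B) : x ∉ 𝐍[V] := fun h' => hB (hS ⟨hx, h'⟩)

theorem nW {x : G} (hx : x ∈ Q) (hB : x ∉ B) : x ∉ 𝐍[W] := fun h' =>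
  h.nV hS hx hB ((h.bd.norm_iff (h.QnB hx)).2 h')

theorem mul_mem_B {x y : G} (hx : x ∈ Q) (hy : y ∈ Q) (hx' : x ∉ B) (hy' : y ∉ B) : x * y ∈ B :=
  hS ⟨mul_mem hx hy, h.bd.mul_mem_norm (h.QnB hx) (h.QnB hy) (h.nV hS hx hx') (h.nV hS hy hy')⟩

theorem inv_mul_mem_B {x y : G} (hx : x ∈ Q) (hy : y ∈ Q) (hx' : x ∉ B) (hy' : y ∉ B) :
    x⁻¹ * y ∈ B :=
  h.mul_mem_B hS (inv_mem hx) hy (fun h' => hx' (inv_mem_iff.1 h')) hy'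

theorem oz_le_Z {t : G} (ht : t ∈ Q) (htB : t ∉ B) : ΩZ[2, Q] ≤ Z := fun y hy => by
  obtain ⟨h1, h2, h3⟩ := mem_oz.1 hy
  by_cases hyB : y ∈ B
  · exact h.bd.k_fix (h.QnB ht) (h.nV hS ht htB) hyB h3 (mem_cent.1 h2 t ht)
  · obtain ⟨v, hv, hvZ⟩ := h.bd.k_exists_V
    have h4 : ⁅y, v⁆ ∈ ΩZ[2, Q] := comm_le_left (norm_oz h.BnQ)
      (commutator_mem_commutator hy (h.bd.V_le hv))
    have h5 := h.bd.k_d_not (h.QnB h1) (h.nV hS h1 hyB) hv hvZ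
    exact ((h.bd.mem_or (h.comm_mem h1 (h.bd.V_le hv)).2 (mem_oz.1 h4).2.2).elim h5.1 h5.2).elim

theorem comm_const {t x z : G} (ht : t ∈ Q) (htB : t ∉ B) (hx : x ∈ Q) (hxB : x ∉ B)
    (hz : z ∈ Z) : ⁅z, x⁆ = ⁅z, t⁆ := by
  have h1 := mem_cent.1 (h.bd.cent_Z (h.inv_mul_mem_B hS ht hx htB hxB)) z⁻¹ (inv_mem hz)
  calc ⁅z, x⁆ = z * t * (t⁻¹ * x * z⁻¹) * x⁻¹ := by rw [commutatorElement_def]; group
    _ = ⁅z, t⁆ := by rw [← h1, commutatorElement_def]; group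

theorem comm_comm_mem {x y b : G} (hx : x ∈ Q) (hy : y ∈ Q) (hb : b ∈ B) : ⁅y, ⁅x, b⁆⁆ ∈ Z := by
  have hd := h.comm_mem hx hb
  have cB : ∀ {a c : G}, a ∈ B → c ∈ B → ⁅a, c⁆ ∈ Z := fun ha hc =>
    h.bd.comm_B (commutator_mem_commutator ha hc)
  by_cases hyB : y ∈ B
  · exact cB hyB hd.2
  by_cases hxB : x ∈ B
  · exact mul_mem (conj_mem_of_norm (h.bd.norm_Z (h.QnB hy)) (cB hxB hb)) (inv_mem (cB hxB hb))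
  have h1 : ⁅x, ⁅x, b⁆⁆ ∈ Z := by
    have e : ⁅x, ⁅x, b⁆⁆ = ⁅x * x, b⁆ * (b * (x * b * x⁻¹)⁻¹) ^ 2 := by
      simp only [commutatorElement_def, pow_two]; group
    rw [e]
    exact mul_mem (cB (h.mul_mem_B hS hx hx hxB hxB) hb)
      (h.bd.sq_mem (mul_mem hb (inv_mem (conj_mem_of_norm (h.QnB hx) hb))))
  have e : ⁅y, ⁅x, b⁆⁆ = x * ⁅x⁻¹ * y, ⁅x, b⁆⁆ * x⁻¹ * ⁅x, ⁅x, b⁆⁆ := by
    generalize ⁅x, b⁆ = d
    simp only [commutatorElement_def]; group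
  rw [e]
  exact mul_mem (conj_mem_of_norm (h.bd.norm_Z (h.QnB hx))
    (cB (h.inv_mul_mem_B hS hx hy hxB hyB) hd.2)) h1

omit hS in
theorem invol_mem (hV : Q ⊓ V ≤ Z) (hW : Q ⊓ W ≤ Z) {x : G} (hx : x ∈ Q) (hB : x ∈ B)
    (h2 : x ^ 2 = 1) : x ∈ Z :=
  (h.bd.mem_or hB h2).elim (fun h' => hV ⟨hx, h'⟩) fun h' => hW ⟨hx, h'⟩

section C1

variable {t : G} (ht : t ∈ Q) (htB : t ∉ B) (hct : ∀ y ∈ Q, ⁅y, t⁆ ∈ Z)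
include ht htB hct

theorem inf_V_le : Q ⊓ V ≤ Z := fun u hu => by
  by_contra hZ
  refine (h.bd.k_d_not (h.QnB ht) (h.nV hS ht htB) hu.2 hZ).1 ?_
  rw [← commutatorElement_inv]
  exact inv_mem (h.bd.Z_le_V (hct u hu.1))

theorem inf_W_le : Q ⊓ W ≤ Z := fun u hu => by
  by_contra hZ
  refine (h.bd.symm.k_d_not (h.QnB ht) (h.nW hS ht htB) hu.2 hZ).1 ?_
  rw [← commutatorElement_inv]
  exact inv_mem (h.bd.Z_le_W (hct u hu.1))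

theorem sq_const (hc : Q ≤ 𝐂[Q ⊓ Z]) (h2 : t ^ 2 ∈ Z) {x : G} (hx : x ∈ Q) (hxB : x ∉ B) :
    x ^ 2 = t ^ 2 := by
  have h0 : x * t⁻¹ ∈ B := h.mul_mem_B hS hx (inv_mem ht) hxB fun h' => htB (inv_mem_iff.1 h')
  obtain ⟨v, hv, w, hw, e⟩ := h.bd.exists_mul h0
  have hzQ : ⁅t, v⁆ * (x * t⁻¹) ∈ Q :=
    mul_mem (h.comm_mem ht (h.bd.V_le hv)).1 (mul_mem hx (inv_mem ht))
  have hzW : ⁅t, v⁆ * (x * t⁻¹) ∈ W := by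
    have : ⁅t, v⁆ * (x * t⁻¹) = t * v * t⁻¹ * w := by rw [e, commutatorElement_def]; group
    rw [this]
    exact mul_mem (h.bd.k_swV (h.QnB ht) (h.nV hS ht htB) hv) hw
  have hz : ⁅t, v⁆ * (x * t⁻¹) ∈ Q ⊓ Z := ⟨hzQ, h.inf_W_le hS ht htB hct ⟨hzQ, hzW⟩⟩
  have ex : x = v * t * v⁻¹ * (t⁻¹ * (⁅t, v⁆ * (x * t⁻¹) * t)) := by
    rw [commutatorElement_def]; group
  generalize ⁅t, v⁆ * (x * t⁻¹) = z at hz ex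
  have ha : v * t * v⁻¹ ∈ Q := conj_mem_of_norm (h.BnQ (h.bd.V_le hv)) ht
  have e1 := mem_cent.1 (hc ht) z hz
  have e2 := mem_cent.1 (hc ha) z hz
  have e3 := h.bd.eaV.mul_self (h.bd.Z_le_V hz.2)
  have e4 := h.bd.eaV.mul_comm hv (h.bd.Z_le_V h2)
  rw [e1, inv_mul_cancel_left] at ex
  calc x ^ 2 = v * t * v⁻¹ * (z * (v * t * v⁻¹)) * z := by rw [ex, pow_two]; group
    _ = v * t ^ 2 * v⁻¹ * (z * z) := by rw [e2, pow_two]; group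
    _ = t ^ 2 := by rw [e3, e4]; group

theorem norm_of_sq (hn : K ≤ 𝐍[Q ⊓ Z]) (h2 : t ^ 2 ∉ Z) : K ≤ 𝐍[Q ⊓ B] :=
  norm_of_forall_cj_le fun k hk => cj_le_iff.2 fun x hx => by
    have hy : k * x * k⁻¹ ∈ Q := conj_mem_of_norm (h.nQ hk) hx.1
    have hy2 : (k * x * k⁻¹) ^ 2 ∈ Z := by
      rw [conj_pow]
      exact (conj_mem_of_norm (hn hk) ⟨pow_mem hx.1 2, h.bd.sq_mem hx.2⟩).2
    generalize k * x * k⁻¹ = y at hy hy2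
    refine ⟨hy, by_contra fun hyB => h2 ?_⟩
    have h0 := h.inv_mul_mem_B hS ht hy htB hyB
    have e : t ^ 2 = y ^ 2 * ((t⁻¹ * y) ^ 2)⁻¹ * (t⁻¹ * ⁅t⁻¹ * y, t⁆ * t)⁻¹ := by
      simp [commutatorElement_def, pow_two, mul_assoc]
    rw [e]
    exact mul_mem (mul_mem hy2 (inv_mem (h.bd.sq_mem h0))) (inv_mem
      (conj_mem_of_norm' (h.bd.norm_Z (h.QnB ht)) (hct _ (mul_mem (inv_mem ht) hy))))

theorem norm_of_sq' (hc : Q ≤ 𝐂[Q ⊓ Z]) (h2 : t ^ 2 ∈ Z) : K ≤ 𝐍[Q ⊓ B] := fun k hk => by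
  by_contra hk'
  obtain ⟨x, hx, hx'⟩ := SetLike.not_le_iff_exists.1
    fun h' : Q ⊓ B ≤ cj(k, Q ⊓ B) => hk' (cj_eq_iff.1 (cj_eq_of_ge h'))
  obtain ⟨y, hy, hy'⟩ := SetLike.not_le_iff_exists.1
    fun h' : cj(k, Q ⊓ B) ≤ Q ⊓ B => hk' (cj_eq_iff.1 (cj_eq_of_le h'))
  have l1 : cj(k, Q ⊓ B) ≤ Q := cj_le_of_norm inf_le_left (h.nQ hk)
  have nB : ∀ g ∈ Q, g ∉ cj(k, Q ⊓ B) → k⁻¹ * g * k ∉ B := fun g hg hg' h' =>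
    hg' (mem_cj.2 ⟨conj_mem_of_norm' (h.nQ hk) hg, h'⟩)
  have s1 : ∀ g ∈ Q, g ∉ cj(k, Q ⊓ B) → g ^ 2 = k * t ^ 2 * k⁻¹ := fun g hg hg' => by
    rw [← h.sq_const hS ht htB hct hc h2 (conj_mem_of_norm' (h.nQ hk) hg) (nB g hg hg')]
    simp only [pow_two]; group
  have hyQ := l1 hy
  have hyB : y ∉ B := fun h' => hy' ⟨hyQ, h'⟩
  have hxy : x * y ∈ Q := mul_mem hx.1 hyQ
  have hxyB : x * y ∉ B := fun h' => hyB ((B.mul_mem_cancel_left hx.2).1 h')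
  have hxy1 : x * y ∉ cj(k, Q ⊓ B) := fun h' => hx' ((mul_mem_cancel_right hy).1 h')
  have ec : k * t ^ 2 * k⁻¹ = t ^ 2 :=
    (s1 _ hxy hxy1).symm.trans (h.sq_const hS ht htB hct hc h2 hxy hxyB)
  have s : ∀ g ∈ Q, g ∉ Q ⊓ B ⊓ cj(k, Q ⊓ B) → g ^ 2 = t ^ 2 := fun g hg hg' => by
    by_cases hB : g ∈ B
    · exact (s1 g hg fun h' => hg' ⟨⟨hg, hB⟩, h'⟩).trans ec
    · exact h.sq_const hS ht htB hct hc h2 hg hB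
  have hU : ∀ u ∈ Q ⊓ B ⊓ cj(k, Q ⊓ B), u ∈ Z := fun u hu => by
    have inv : ∀ g ∈ Q, g ∉ Q ⊓ B ⊓ cj(k, Q ⊓ B) → u * g * u = g := fun g hg hg' => by
      have e := (s _ (mul_mem hg hu.1.1) fun h' => hg' ((mul_mem_cancel_right hu).1 h')).trans
        (s g hg hg').symm
      simp only [pow_two, mul_assoc, mul_right_inj] at e
      rw [mul_assoc, e]
    have e1 := inv x hx.1 fun h' => hx' h'.2
    have e2 := inv y hyQ fun h' => hyB h'.1.2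
    have e3 := inv _ hxy fun h' => hxyB h'.1.2
    have e4 : y * u = u * y := by
      have : u * x * (y * u) = u * x * (u * y) := by
        rw [← mul_assoc, mul_assoc u x y, e3, ← mul_assoc, e1]
      exact mul_left_cancel this
    refine h.invol_mem (h.inf_V_le hS ht htB hct) (h.inf_W_le hS ht htB hct) hu.1.1 hu.1.2 ?_
    rw [mul_assoc, e4, ← mul_assoc] at e2
    rw [pow_two]
    exact mul_eq_right.1 e2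
  obtain ⟨a, ha, b, hb, haZ, hbZ, hab⟩ := k_exists_two h.bd.Z_le_V (by
    have h0 : 0 < Nat.card Z := Nat.card_pos
    have := h.hq
    rw [h.bd.cardV]; nlinarith)
  have hd : ∀ v ∈ V, v ∉ Z → ⁅t, v⁆ ∉ cj(k, Q ⊓ B) := fun v hv hZ h' =>
    (h.bd.k_d_not (h.QnB ht) (h.nV hS ht htB) hv hZ).1
      (h.bd.Z_le_V (hU _ ⟨h.comm_mem ht (h.bd.V_le hv), h'⟩))
  have da := h.comm_mem ht (h.bd.V_le ha)
  have db := h.comm_mem ht (h.bd.V_le hb)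
  have hm := mul_mem (inv_mem da) db
  have h1 : ⁅t, a⁆⁻¹ * ⁅t, b⁆ ∈ Z := by
    refine hU _ ⟨hm, mem_cj.2 ⟨conj_mem_of_norm' (h.nQ hk) hm.1, ?_⟩⟩
    have := h.inv_mul_mem_B hS (conj_mem_of_norm' (h.nQ hk) da.1)
      (conj_mem_of_norm' (h.nQ hk) db.1) (nB _ da.1 (hd a ha haZ)) (nB _ db.1 (hd b hb hbZ))
    have e : k⁻¹ * (⁅t, a⁆⁻¹ * ⁅t, b⁆) * k = (k⁻¹ * ⁅t, a⁆ * k)⁻¹ * (k⁻¹ * ⁅t, b⁆ * k) := by group
    exact e ▸ this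
  refine hab (h.bd.k_conj_Z (h.QnB ht) (h.bd.k_mem_Z ?_
    (h.bd.k_swV (h.QnB ht) (h.nV hS ht htB) (mul_mem (inv_mem ha) hb))))
  have e : t * (a⁻¹ * b) * t⁻¹ = a⁻¹ * (⁅t, a⁆⁻¹ * ⁅t, b⁆) * b := by
    simp only [commutatorElement_def]; group
  rw [e]
  exact mul_mem (mul_mem (inv_mem ha) (h.bd.Z_le_V h1)) hb

end C1

/-- Case C1. -/
theorem caseC1 (hn : K ≤ 𝐍[Q ⊓ Z]) (hc : Q ≤ 𝐂[Q ⊓ Z]) : B ≤ Q := by
  by_cases h2 : Q ⊓ cmod Q (Q ⊓ Z) ≤ B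
  · refine h.chain le_rfl le_normalizer h.BK hn (norm_inf h.nQ (norm_cmod h.nQ hn)) ?_
      ((commutator_mono (le_inf inf_le_left h2) le_rfl).trans h.cQ0)
      (h.bd.cent_Z.trans (cent_anti inf_le_right)) inf_le_left inf_le_left
    refine commutator_le.2 fun x hx b hb => ?_
    have hd := (h.comm_mem hx hb).1
    exact ⟨hd, mem_cmod.2 ⟨hn (h.QK hd), fun y hy =>
      ⟨Q.mul_mem (Q.mul_mem (Q.mul_mem hy hd) (Q.inv_mem hy)) (Q.inv_mem hd),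
        h.comm_comm_mem hS hx hy hb⟩⟩⟩
  · obtain ⟨t, ht, htB⟩ := SetLike.not_le_iff_exists.1 h2
    have hct : ∀ y ∈ Q, ⁅y, t⁆ ∈ Z := fun y hy => ((mem_cmod.1 ht.2).2 y hy).2
    refine h.star ?_ hn
    by_cases h3 : t ^ 2 ∈ Z
    · exact h.norm_of_sq' hS ht.1 htB hct hc h3
    · exact h.norm_of_sq hS ht.1 htB hct hn h3

/-- Case C2. -/
theorem caseC2 {t : G} (ht : t ∈ Q) (htB : t ∉ B) (hc : ¬ Q ≤ 𝐂[Q ⊓ Z]) : V ≤ Q ∨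
    (Q ⊓ V ≤ Z ∧ Q ⊓ W ≤ Z ∧ (∃ a ∈ Q, a ∉ B ∧ a ^ 2 = 1) ∧ ¬ Q ≤ 𝐂[Q ⊓ Z] ∧ ¬ K ≤ 𝐍[Q ⊓ Z]) := by
  have nc : ∀ x ∈ Q, x ∉ B → x ∉ 𝐂[Q ⊓ Z] := fun x hx hxB hxc => hc fun y hy => by
    by_cases hyB : y ∈ B
    · exact cent_anti inf_le_right (h.bd.cent_Z hyB)
    · refine mem_cent.2 fun z hz => commutatorElement_eq_one_iff_mul_comm.1 ?_
      rw [h.comm_const hS hx hxB hy hyB hz.2]
      exact commutatorElement_eq_one_iff_mul_comm.2 (mem_cent.1 hxc z hz)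
  have hWV : cj(t, Q ⊓ W) ≤ Q ⊓ V := cj_le_iff.2 fun u hu =>
    ⟨Q.mul_mem (Q.mul_mem ht hu.1) (Q.inv_mem ht), h.bd.k_swW (h.QnB ht) (h.nV hS ht htB) hu.2⟩
  by_cases hV : Q ⊓ V ≤ Z
  swap
  · refine Or.inl (h.redF hV ((card_cj _ t).ge.trans (card_le_of_le hWV)) fun A hA hQ hAB => ?_)
    obtain ⟨a, ha, haB⟩ := SetLike.not_le_iff_exists.1 hAB
    have hAZ := h.inf_B_le hA hQ ha (h.nV hS (hQ ha) haB)
    have h1 := h.bd.card_le_two' (hQ.trans h.QnB)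
    have h2 : Nat.card ↥(A ⊓ 𝐍[V]) ≤ Nat.card ↥(Q ⊓ Z ⊓ 𝐂[zpowers a]) :=
      card_le_of_le fun x hx => ⟨hAZ ⟨hx.1, hS ⟨hQ hx.1, hx.2⟩⟩, KS.mem_cent_zpowers hA ha hx.1⟩
    have h3 : 2 * Nat.card ↥(Q ⊓ Z ⊓ 𝐂[zpowers a]) ≤ Nat.card ↥(Q ⊓ Z) :=
      k_two_mul_le (inf_lt_left.2 fun h' => nc a (hQ ha) haB (cent_comm h' (mem_zpowers a)))
    have h4 : Nat.card ↥(Q ⊓ Z) < Nat.card ↥(Q ⊓ V) :=
      Tr.card_lt_of_lt (lt_of_le_not_ge (inf_le_inf_left _ h.bd.Z_le_V)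
        fun h' => hV (h'.trans inf_le_right))
    omega
  have hW : Q ⊓ W ≤ Z := fun u hu => h.bd.k_conj_Z (h.QnB ht) (hV (hWV (conj_mem_cj hu)))
  by_cases hn : K ≤ 𝐍[Q ⊓ Z]
  · refine Or.inl (h.bd.V_le.trans (h.star ?_ hn))
    have e : Q ⊓ B = Q ⊓ 𝐂[Q ⊓ Z] :=
      le_antisymm (inf_le_inf_left _ (h.bd.cent_Z.trans (cent_anti inf_le_right)))
        fun x hx => ⟨hx.1, by_contra fun hB => nc x hx.1 hB hx.2⟩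
    rw [e]
    exact norm_inf h.nQ (norm_cent hn)
  have hex : ∃ k ∈ K, ∃ z ∈ Q ⊓ Z, k * z * k⁻¹ ∉ Q ⊓ Z := by
    by_contra h'
    push Not at h'
    exact hn (norm_of_forall_cj_le fun k hk => cj_le_iff.2 (h' k hk))
  obtain ⟨k, hk, z, hz, hkz⟩ := hex
  have ha : k * z * k⁻¹ ∈ Q := conj_mem_of_norm (h.nQ hk) hz.1
  have ha2 : (k * z * k⁻¹) ^ 2 = 1 := by
    rw [conj_pow, h.bd.eaV.sq z (h.bd.Z_le_V hz.2)]; group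
  exact Or.inr ⟨hV, hW, ⟨_, ha, fun h' => hkz ⟨ha, h.invol_mem hV hW ha h' ha2⟩, ha2⟩, hc, hn⟩

theorem le_or : (V ≤ Q ∨ W ≤ Q) ∨
    (Q ⊓ V ≤ Z ∧ Q ⊓ W ≤ Z ∧ (∃ a ∈ Q, a ∉ B ∧ a ^ 2 = 1) ∧ ¬ Q ≤ 𝐂[Q ⊓ Z] ∧ ¬ K ≤ 𝐍[Q ⊓ Z]) := by
  by_cases hQ : Q ≤ B
  · exact Or.inl (h.caseA hQ)
  obtain ⟨t, ht, htB⟩ := SetLike.not_le_iff_exists.1 hQ
  by_cases hc : Q ≤ 𝐂[Q ⊓ Z]
  · refine Or.inl (Or.inl (h.bd.V_le.trans (h.caseC1 hS ?_ hc)))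
    have e : Q ⊓ Z = ΩZ[2, Q] := le_antisymm (fun z hz => mem_oz.2 ⟨hz.1,
      cent_comm hc hz, h.bd.eaV.sq z (h.bd.Z_le_V hz.2)⟩)
      (le_inf (oz_le Q) (h.oz_le_Z hS ht htB))
    rw [e]; exact norm_oz h.nQ
  · exact (h.caseC2 hS ht htB hc).imp_left Or.inl

end KS4

end K4

variable {S B V W Z D : Subgroup G} {q : ℕ}

theorem Sq.lemK4 (h : Sq S B V W Z D q) (hq : 4 ≤ q) {K : Subgroup G} (hK : ChP 2 K)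
    (hS : Syl 2 S K) : K ≤ 𝐍[B] ∨ (𝐎[2, K] ⊓ V ≤ Z ∧ 𝐎[2, K] ⊓ W ≤ Z ∧
      (∃ a ∈ 𝐎[2, K], a ∉ B ∧ a ^ 2 = 1) ∧ ¬ 𝐎[2, K] ≤ 𝐂[𝐎[2, K] ⊓ Z] ∧
        ¬ K ≤ 𝐍[𝐎[2, K] ⊓ Z]) := by
  have k : K4.KS4 S B V W Z D K 𝐎[2, K] q :=
    ⟨h.bd, hq, hK, h.bd.le.trans hS.le, rfl, hS.core_le, h.ea⟩
  refine (k.le_or ((inf_le_inf_right _ k.QT).trans h.tB)).imp_left fun h1 => ?_
  rcases h1 with h1 | h1
  · exact (k.enough h1).resolve_right fun h2 => h.sw (hS.le.trans h2)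
  · refine (k.symm.enough h1).resolve_right fun h2 => h.sw fun s hs => ?_
    exact (h.bd.norm_iff (h.bd.norm hs)).2 (h2 (hS.le hs))

end Cfsg.Agent.MF
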