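import Mathlib
import Cfsg.Agent.MF.Defs
import Cfsg.Agent.MF.JBase
import Cfsg.Agent.MF.K4

/-! Overgroups of characteristic two of a Sylow subgroup of type `J₃`. -/

set_option autoImplicit false
set_option linter.unusedSectionVars false
set_option synthInstance.maxSize 100000
set_option synthInstance.maxHeartbeats 1000000

namespace Cfsg.Agent.MF

open Cfsg Cfsg.Agent.GT Cfsg.Agent.Loc.Mss Cfsg.Agent.Loc.PU Cfsg.Agent.Loc.Blk Cfsg.Agent.Loc.GC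
  Cfsg.Agent.Fus Cfsg.Agent.Fus.SU Cfsg.FusionSystem Subgroup
open scoped commutatorElement MatrixGroups

variable {G : Type*} [Group G] [Finite G] {K : Type} [Field K] {ι : U3 K →* G} {S : Subgroup G}
  {t : G}

theorem JK.QE {H : Type*} [Group H] (s : JS.St H) : ∀ y ∈ s.S, ∃ e ∈ s.E, y * e ∈ s.Q :=
  s.lists.decide s.rep (by decide +kernel)

theorem SwJ.jk (h : SwJ ι S t) (hK : Nat.card K = 4) {C : Subgroup G} (hC : ChP 2 C)
    (hS : Syl 2 S C) (hn : ¬ C ≤ 𝐍[ι.range]) :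
    C ≤ 𝐍[Out S ι.range 2] ∧ ¬ C ≤ 𝐍[(U3.V K ⊓ U3.W K).map ι] ∧
      (U3.V K ⊓ U3.W K).map ι ≤ Out S ι.range 2 := by
  have q := h.sq hK
  obtain ⟨s, eS, eR, eE, eF, eV, eQ⟩ := h.exists_st hK
  obtain ⟨o1, -, ⟨a, ha, aB, a2⟩, -, o5⟩ := (q.lemK4 le_rfl hC hS).resolve_left hn
  have OS := hS.core_le
  have nO : S ≤ 𝐍[𝐎[2, C]] := hS.le.trans (le_norm_core C)
  have ZQ : (U3.V K ⊓ U3.W K).map ι ≤ Out S ι.range 2 := fun x hx =>
    have m : x ∈ S := q.bd.le (q.bd.V_le (q.bd.Z_le_V hx))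
    mem_subgroupOf.1 (eQ.le (s.V_le_Q (eV.ge (show (⟨x, m⟩ : S) ∈ _ from hx))))
  have cj5 : ∀ x : S, x.1 ∉ ι.range → x.1 ^ 2 = 1 → ∃ k : S, k * s.q5 * k⁻¹ = x := fun x h1 h2 => by
    rcases s.invol x (eS.ge (mem_top _)) (Subtype.ext (by simpa [pow_two] using h2)) with
      l | l | ⟨-, k, -, e⟩
    · exact absurd (eR.le (s.E_le_R l)) h1
    · exact absurd (eR.le (s.F_le_R l)) h1
    · exact ⟨k, by rw [e, mul_inv_cancel_right]⟩
  have q5 : (s.q5 : G) ∈ 𝐎[2, C] := by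
    obtain ⟨k, e⟩ := cj5 ⟨a, OS ha⟩ aB a2
    have e' : (k : G) * s.q5 * (k : G)⁻¹ = a := congrArg Subtype.val e
    have := conj_mem_of_norm' (nO k.2) ha
    rw [← e'] at this
    simpa [mul_assoc] using this
  have QO : Out S ι.range 2 ≤ 𝐎[2, C] := (closure_le _).2 fun x hx => by
    obtain ⟨k, e⟩ := cj5 ⟨x, hx.1⟩ hx.2.1 hx.2.2
    have e' : (k : G) * s.q5 * (k : G)⁻¹ = x := congrArg Subtype.val e
    exact e' ▸ conj_mem_of_norm (nO k.2) q5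
  have e : 𝐎[2, C] = Out S ι.range 2 := le_antisymm (fun x hx => by
    obtain ⟨y, hy, l⟩ := JK.QE s ⟨x, OS hx⟩ (eS.ge (mem_top _))
    have l : x * y ∈ Out S ι.range 2 := mem_subgroupOf.1 (eQ.le l)
    exact (mul_mem_cancel_right (ZQ (o1 ⟨(mul_mem_cancel_left hx).1 (QO l),
      mem_subgroupOf.1 (eE.le hy)⟩))).1 l) QO
  refine ⟨e ▸ le_norm_core C, ?_, ZQ⟩
  rwa [e, inf_eq_right.2 ZQ] at o5

end Cfsg.Agent.MF
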