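import Mathlib
import Cfsg.Agent.MF.Defs
import Cfsg.Agent.MF.Base
import Cfsg.Agent.MF.JBase
import Cfsg.Agent.Rec.J23.J3Id
import Cfsg.Agent.Rec.J23.Hyp
import Cfsg.Agent.Spor.J3.Main
import Cfsg.Agent.S2135

set_option autoImplicit false
set_option linter.unusedSectionVars false
set_option synthInstance.maxSize 100000
set_option synthInstance.maxHeartbeats 1000000
set_option maxRecDepth 100000

namespace Cfsg.Agent.MF

open Cfsg Cfsg.Agent.GT Cfsg.Agent.Loc.Mss Cfsg.Agent.Loc.PU Cfsg.Agent.Loc.Blk Cfsg.Agent.Loc.GC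
  Cfsg.Agent.Fus Cfsg.Agent.Fus.SU Cfsg.FusionSystem Subgroup
open scoped commutatorElement MatrixGroups

namespace TgJ

section Gen
variable {K : Type} [Field K] {A : Type*} [Group A]

theorem lin_zero {f : K → A} (hf : ∀ a b, f (a + b) = f a * f b) : f 0 = 1 := by
  have := hf 0 0
  rwa [add_zero, left_eq_mul] at this

/-- Conjugation of additive maps is determined on the basis `1, c`. -/
theorem conj_lin {c : K} (hc : ∀ x : K, x = 0 ∨ x = 1 ∨ x = c ∨ x = c + 1) {f f' : K → A}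
    (hf : ∀ a b, f (a + b) = f a * f b) (hf' : ∀ a b, f' (a + b) = f' a * f' b) {τ : K → K}
    (hτ : ∀ a b, τ (a + b) = τ a + τ b) {g : A} (h1 : g * f 1 * g⁻¹ = f' (τ 1))
    (h2 : g * f c * g⁻¹ = f' (τ c)) (x : K) : g * f x * g⁻¹ = f' (τ x) := by
  have t0 : τ 0 = 0 := by
    have := hτ 0 0
    rwa [add_zero, left_eq_add] at this
  rcases hc x with rfl | rfl | rfl | rfl
  · rw [t0, lin_zero hf, lin_zero hf', mul_one, mul_inv_cancel]
  · exact h1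
  · exact h2
  · rw [hτ, hf, hf', ← h1, ← h2]; group

/-- The elements acting diagonally. -/
def Dg (j : U3 K →* A) : Subgroup A where
  carrier := {g | ∃ a b, a ≠ 0 ∧ b ≠ 0 ∧ Acts j ⊤ g (U3.mon a b (RingEquiv.refl K))}
  one_mem' := ⟨1, 1, one_ne_zero, one_ne_zero, Acts.one.congr fun u _ => by ext <;> simp [U3.mon]⟩
  mul_mem' := by
    rintro g g' ⟨a, b, ha, hb, h⟩ ⟨a', b', ha', hb', h'⟩
    exact ⟨a * a', b * b', mul_ne_zero ha ha', mul_ne_zero hb hb',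
      (h.mul h').congr fun u _ => by ext <;> simp [U3.mon] <;> ring⟩
  inv_mem' := by
    rintro g ⟨a, b, ha, hb, h⟩
    refine ⟨a⁻¹, b⁻¹, inv_ne_zero ha, inv_ne_zero hb, fun u _ => ?_⟩
    have e : U3.mon a b (RingEquiv.refl K) (U3.mon a⁻¹ b⁻¹ (RingEquiv.refl K) u) = u := by
      ext <;> simp [U3.mon] <;> field_simp
    have := h (U3.mon a⁻¹ b⁻¹ (RingEquiv.refl K) u) (mem_top _)
    rw [e] at this
    rw [← this]; group

theorem acts_pow {j : U3 K →* A} {g : A} {a b : K} (h : Acts j ⊤ g (U3.mon a b (RingEquiv.refl K)))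
    (n : ℕ) : Acts j ⊤ (g ^ n) (U3.mon (a ^ n) (b ^ n) (RingEquiv.refl K)) := by
  induction n with
  | zero => exact pow_zero g ▸ Acts.one.congr fun u _ => by ext <;> simp [U3.mon]
  | succ n ih => exact pow_succ g n ▸ (ih.mul h).congr fun u _ => by ext <;> simp [U3.mon] <;> ring

end Gen

section Model
open Cfsg.Agent.Rec Cfsg.Agent.Rec.J23
variable {K : Type} [Field K] {A : Type} [Group A] [Finite A]

theorem rel1 (s : StM A) : Let (s.x⁻¹ * s.t * s.x) fun b => Let (s.q5 * s.t * s.q5) fun d =>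
    Let (s.q5 * (s.x * s.t * s.x⁻¹) * s.q5) fun e =>
      (s.t * s.t = 1 ∧ b * b = 1 ∧ s.t * b = b * s.t) ∧ (d * d = 1 ∧ e * e = 1 ∧ d * e = e * d) ∧
      (s.z * s.z = 1 ∧ s.q4 * s.q4 = 1 ∧ s.z * s.q4 = s.q4 * s.z) ∧
      (s.t ∈ s.R ∧ b ∈ s.R ∧ d ∈ s.R ∧ e ∈ s.R ∧ s.V ≤ s.R ∧ ∀ u ∈ s.V, ∀ r ∈ s.R, u * r = r * u) ∧
      (s.t * d = d * s.t * s.z ∧ s.t * e = e * s.t * s.q4 ∧ b * d = d * b * s.q4 ∧
        b * e = e * b * (s.q4 * s.z)) ∧ (s.z ≠ 1 ∧ s.q4 ≠ 1 ∧ s.q4 * s.z ≠ 1) :=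
  s.lists'.decide s.rep' (by decide +kernel)

theorem rel2 (s : StM A) : Let (s.x⁻¹ * s.t * s.x) fun b => Let (s.q5 * s.t * s.q5) fun d =>
    Let (s.q5 * (s.x * s.t * s.x⁻¹) * s.q5) fun e => Let (s.x * (s.q5 * s.p)) fun g =>
    Let (s.x⁻¹ * (s.q5 * s.p)) fun h =>
      (g * s.t * g⁻¹ = b ∧ g * b * g⁻¹ = b * s.t ∧ g * d * g⁻¹ = d ∧ g * e * g⁻¹ = e ∧
        g * s.z * g⁻¹ = s.q4 ∧ g * s.q4 * g⁻¹ = s.q4 * s.z) ∧
      (h * s.t * h⁻¹ = s.t ∧ h * b * h⁻¹ = b ∧ h * d * h⁻¹ = e ∧ h * e * h⁻¹ = e * d ∧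
        h * s.z * h⁻¹ = s.q4 ∧ h * s.q4 * h⁻¹ = s.q4 * s.z) ∧
      (s.q5 * s.t * s.q5⁻¹ = d ∧ s.q5 * b * s.q5⁻¹ = e * d ∧ s.q5 * d * s.q5⁻¹ = s.t ∧
        s.q5 * e * s.q5⁻¹ = b * s.t ∧ s.q5 * s.z * s.q5⁻¹ = s.z ∧ s.q5 * s.q4 * s.q5⁻¹ = s.q4 * s.z) ∧
      (g ∈ s.X ∧ h ∈ s.X ∧ s.x = h * g⁻¹ ∧ s.q5 * s.p = g⁻¹ * h⁻¹) :=
  s.lists'.decide s.rep' (by decide +kernel)

theorem rel3 (s : StM A) : s.q5 * s.q5 = 1 ∧ (∀ a ∈ s.X, s.q5 * a * s.q5 ∈ s.X) ∧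
    (∀ m ∈ s.M, ∀ r ∈ s.R, m * r * m⁻¹ ∈ s.R) ∧ s.X ≤ s.M ∧ s.q5 ∈ s.M ∧
    (∀ a ∈ s.X, (∀ r ∈ s.R, r * a = a * r) → a = 1) ∧
    (∀ a ∈ s.X, ¬ ∀ r ∈ s.R, r * (a * s.q5) = a * s.q5 * r) ∧
    (∀ a ∈ s.X, a ∈ s.R → a = 1) ∧ (∀ a ∈ s.X, a * s.q5 ∉ s.R) ∧
    (∀ m ∈ s.M, ∃ r ∈ s.R, r * m ∈ s.X ∨ r * m * s.q5 ∈ s.X) ∧
    (∀ u ∈ s.R, (∀ r ∈ s.R, r * u = u * r) ↔ u ∈ s.V) :=
  s.lists'.decide s.rep' (by decide +kernel)

theorem rel4 (s : StM A) : Let (s.q5 * s.p * s.x) fun w => w * s.z * w⁻¹ = s.q4 ∧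
    w * s.t * w⁻¹ = s.x⁻¹ * s.t * s.x := s.lists'.decide s.rep' (by decide +kernel)

theorem norm_R (s : StM A) : 𝐍[s.R] = s.M := by
  obtain ⟨-, -, h1, -, -, -, -, -, -, -, h2⟩ := rel3 s
  refine le_antisymm (fun g hg => ?_) fun m hm => mem_normalizer_fintype (S := (s.R : Set A)) (h1 m hm)
  rw [← s.norm_eq]
  have hV : s.V ≤ s.R := by
    have := rel1 s
    simp only [let_iff] at this
    exact this.2.2.2.1.2.2.2.2.1
  refine mem_normalizer_fintype (S := (s.V : Set A)) fun v hv => ?_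
  refine (h2 _ ((hg v).1 (hV hv))).1 fun r hr => ?_
  have h3 := (h2 v (hV hv)).2 hv _ ((inv_mem hg r).1 hr)
  calc r * (g * v * g⁻¹) = g * (g⁻¹ * r * g⁻¹⁻¹ * v) * g⁻¹ := by group
    _ = _ := by rw [h3]; group

theorem main (s : StM A) (h : IsConj s.z s.t) (hK : Nat.card K = 4) :
    ∃ (j : U3 K →* A) (M : Subgroup A), Tg1 (MJ K) j M ⊤ ∧ j.range = s.R := by
  have : Finite K := Nat.finite_of_card_ne_zero (by omega)
  have : CharP K 2 := Loc.PU.charP_of_card (n := 2) hK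
  have t2 : (2 : K) = 0 := CharTwo.two_eq_zero
  obtain ⟨c, c0, c1, cc, hc⟩ := JBase.exists_om hK
  have sc : ∀ σ : K ≃+* K, σ ≠ RingEquiv.refl K → σ c = c + 1 := fun σ hσ => by
    rcases hc (σ c) with e | e | e | e
    · exact (c0 (by simpa using e)).elim
    · exact (c1 (by simpa using e)).elim
    · refine (hσ (RingEquiv.ext fun x => ?_)).elim
      rcases hc x with rfl | rfl | rfl | rfl <;> simp [e]
    · exact e
  obtain ⟨σ, hσ⟩ : ∃ σ : K ≃+* K, σ ≠ RingEquiv.refl K := ⟨frobeniusEquiv K 2, fun e => by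
    have := congrArg (fun τ : K ≃+* K => τ c) e
    simp only [coe_frobeniusEquiv, frobenius_def, RingEquiv.refl_apply] at this
    exact one_ne_zero (by linear_combination this - cc : (1 : K) = 0)⟩
  have su : ∀ σ' : K ≃+* K, σ' ≠ RingEquiv.refl K → σ' = σ := fun σ' h' => RingEquiv.ext fun x => by
    rcases hc x with rfl | rfl | rfl | rfl <;> simp [sc σ hσ, sc σ' h']
  have r1 := rel1 s
  have r2 := rel2 s
  have r4 := rel4 s
  simp only [let_iff] at r1 r2 r4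
  obtain ⟨k, k2, kz, kw, -, -⟩ := s.exists_k' h
  have ki : k⁻¹ = k := inv_eq_of_mul_eq_one_right k2
  have kq : k * s.q4 * k⁻¹ = s.x⁻¹ * s.t * s.x := by
    rw [← r4.1, ← r4.2, ← kz]
    conv_rhs => rw [← kw]
    group
  generalize s.x⁻¹ * s.t * s.x = b at r1 r2 kq
  generalize s.q5 * (s.x * s.t * s.x⁻¹) * s.q5 = e at r1 r2
  generalize s.q5 * s.t * s.q5 = d at r1 r2
  generalize s.x * (s.q5 * s.p) = g at r2
  generalize s.x⁻¹ * (s.q5 * s.p) = g' at r2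
  obtain ⟨⟨a1, a2, a3⟩, ⟨a4, a5, a6⟩, ⟨a7, a8, a9⟩, ⟨m1, m2, m3, m4, m5, m6⟩, ⟨p1, p2, p3, p4⟩,
    n1, n2, n3⟩ := r1
  obtain ⟨⟨g1, g2, g3, g4, g5, g6⟩, ⟨h1, h2, h3, h4, h5, h6⟩, ⟨q1, q2, q3, q4, q5, q6⟩,
    x1, x2, x3, x4⟩ := r2
  obtain ⟨y1, y2, y3, y4, y5, y6, y7, y8, y9, y10, -⟩ := rel3 s
  obtain ⟨v, hv, v0, v1, vc, vd⟩ := JBase.exists_lin c0 c1 hc a1 a2 a3
  obtain ⟨w, hw, w0, w1, wc, wd⟩ := JBase.exists_lin c0 c1 hc a4 a5 a6
  obtain ⟨z, hz, z0, z1, zc, zd⟩ := JBase.exists_lin c0 c1 hc a7 a8 a9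
  have vR : ∀ x, v x ∈ s.R := fun x => by
    rcases hc x with rfl | rfl | rfl | rfl
    exacts [v0 ▸ one_mem _, v1 ▸ m1, vc ▸ m2, vd ▸ mul_mem m2 m1]
  have wR : ∀ x, w x ∈ s.R := fun x => by
    rcases hc x with rfl | rfl | rfl | rfl
    exacts [w0 ▸ one_mem _, w1 ▸ m3, wc ▸ m4, wd ▸ mul_mem m4 m3]
  have zV : ∀ x, z x ∈ s.V := fun x => by
    rcases hc x with rfl | rfl | rfl | rfl
    exacts [z0 ▸ one_mem _, z1 ▸ s.z_mem_V, zc ▸ s.q4_mem_V, zd ▸ mul_mem s.q4_mem_V s.z_mem_V]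
  have zi : ∀ x, z x = 1 → x = 0 := fun x e => by
    rcases hc x with rfl | rfl | rfl | rfl
    exacts [rfl, (n1 (z1 ▸ e)).elim, (n2 (zc ▸ e)).elim, (n3 (zd ▸ e)).elim]
  have zv : ∀ x y, z x * v y = v y * z x := fun x y => m6 _ (zV x) _ (vR y)
  have zw : ∀ x y, z x * w y = w y * z x := fun x y => m6 _ (zV x) _ (wR y)
  have ad1 : ∀ {x x' y}, v x * w y = w y * v x * z (x * y) → v x' * w y = w y * v x' * z (x' * y) →
      v (x + x') * w y = w y * v (x + x') * z ((x + x') * y) := fun {x x' y} e e' => by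
    rw [hv, add_mul, hz, mul_assoc, e', ← mul_assoc, ← mul_assoc, e, mul_assoc (w y * v x), zv]
    group
  have ad2 : ∀ {x y y'}, v x * w y = w y * v x * z (x * y) → v x * w y' = w y' * v x * z (x * y') →
      v x * w (y + y') = w (y + y') * v x * z (x * (y + y')) := fun {x y y'} e e' => by
    rw [hw, mul_add, add_comm (x * y), hz, ← mul_assoc, e, mul_assoc (w y * v x), zw, ← mul_assoc,
      mul_assoc (w y), e']
    group
  have vw : ∀ x y, v x * w y = w y * v x * z (x * y) := by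
    have p1 : v 1 * w 1 = w 1 * v 1 * z (1 * 1) := by rwa [v1, w1, mul_one, z1]
    have p2 : v 1 * w c = w c * v 1 * z (1 * c) := by rwa [v1, wc, one_mul, zc]
    have p3 : v c * w 1 = w 1 * v c * z (c * 1) := by rwa [vc, w1, mul_one, zc]
    have p4 : v c * w c = w c * v c * z (c * c) := by rwa [vc, wc, cc, zd]
    have k : ∀ x, v x * w 1 = w 1 * v x * z (x * 1) → v x * w c = w c * v x * z (x * c) →
        ∀ y, v x * w y = w y * v x * z (x * y) := fun x e e' y => by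
      rcases hc y with rfl | rfl | rfl | rfl
      exacts [by rw [w0, mul_zero, z0]; group, e, e', ad2 e' e]
    intro x y
    rcases hc x with rfl | rfl | rfl | rfl
    exacts [by rw [v0, zero_mul, z0]; group, k _ p1 p2 y, k _ p3 p4 y, ad1 (k _ p3 p4 y) (k _ p1 p2 y)]
  obtain ⟨j, hj⟩ := U3.lift v w z hv hw hz zv zw vw
  have ji : Function.Injective j := (injective_iff_map_eq_one j).2 fun u hu => by
    have k : ∀ u', z (u * u' * u⁻¹ * u'⁻¹).z = 1 := fun u' => by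
      have : j (u * u' * u⁻¹ * u'⁻¹) = 1 := by simp [hu]
      rw [hj] at this
      simpa [v0, w0] using this
    have kx : u.x = 0 := by
      have := zi _ (k ⟨0, 1, 0⟩)
      simp at this
      linear_combination this
    have ky : u.y = 0 := by
      have := zi _ (k ⟨1, 0, 0⟩)
      simp at this
      linear_combination -this
    rw [hj, kx, ky, v0, w0, one_mul, one_mul] at hu
    exact U3.ext kx ky (zi _ hu)
  have eR : j.range = s.R := eq_of_le_of_card_ge (by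
    rintro _ ⟨u, rfl⟩
    rw [hj]
    exact mul_mem (mul_mem (wR _) (vR _)) (m5 (zV _))) (by
      rw [s.card_R, ← (JBase.card_sub hK).1]
      exact (Nat.card_congr (MonoidHom.ofInjective ji).toEquiv).le)
  have cj3 : ∀ (a : A) u, a * j u * a⁻¹ =
      a * w u.y * a⁻¹ * (a * v u.x * a⁻¹) * (a * z u.z * a⁻¹) := fun a u => by rw [hj]; group
  have dg : ∀ {a : A} {α β : K}, a * v 1 * a⁻¹ = v (α * 1) → a * v c * a⁻¹ = v (α * c) →
      a * w 1 * a⁻¹ = w (β * 1) → a * w c * a⁻¹ = w (β * c) → a * z 1 * a⁻¹ = z (α * β * 1) →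
      a * z c * a⁻¹ = z (α * β * c) → Acts j ⊤ a (U3.mon α β (RingEquiv.refl K)) :=
    fun {a α β} e1 e2 e3 e4 e5 e6 u _ => by
      rw [cj3, conj_lin hc hv hv (mul_add α) e1 e2, conj_lin hc hw hw (mul_add β) e3 e4,
        conj_lin hc hz hz (mul_add (α * β)) e5 e6, hj]
      rfl
  have ag : Acts j ⊤ g (U3.mon c 1 (RingEquiv.refl K)) :=
    dg (by rwa [mul_one, v1, vc]) (by rwa [cc, vc, vd]) (by rwa [mul_one, w1]) (by rwa [one_mul, wc])
      (by rwa [mul_one, mul_one, z1, zc]) (by rwa [mul_one, cc, zc, zd])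
  have ag' : Acts j ⊤ g' (U3.mon 1 c (RingEquiv.refl K)) :=
    dg (by rwa [mul_one, v1]) (by rwa [one_mul, vc]) (by rwa [mul_one, w1, wc]) (by rwa [cc, wc, wd])
      (by rwa [mul_one, one_mul, z1, zc]) (by rwa [one_mul, cc, zc, zd])
  have aq : Acts j ⊤ s.q5 (U3.swp ∘ U3.mon 1 1 σ) := fun u _ => by
    rw [cj3, conj_lin hc hv hw (map_add σ) (by rwa [map_one, v1, w1]) (by rwa [sc σ hσ, vc, wd]),
      conj_lin hc hw hv (map_add σ) (by rwa [map_one, v1, w1]) (by rwa [sc σ hσ, wc, vd]),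
      conj_lin hc hz hz (map_add σ) (by rwa [map_one, z1]) (by rwa [sc σ hσ, zc, zd]), hj]
    simp only [Function.comp_apply, U3.swp, U3.mon, one_mul]
    rw [vw, add_comm, hz, mul_comm (σ u.x)]
    group
  have XD : s.X ≤ Dg j := by
    have e1 : g ∈ Dg j := ⟨c, 1, c0, one_ne_zero, ag⟩
    have e2 : g' ∈ Dg j := ⟨1, c, one_ne_zero, c0, ag'⟩
    refine clos_le.2 fun y hy => ?_
    simp only [List.mem_cons, List.not_mem_nil, or_false] at hy
    rcases hy with rfl | rfl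
    · exact x3 ▸ mul_mem e2 (inv_mem e1)
    · exact x4 ▸ mul_mem (inv_mem e1) (inv_mem e2)
  have all : ∀ α β : K, α ≠ 0 → β ≠ 0 → ∃ a ∈ s.X, Acts j ⊤ a (U3.mon α β (RingEquiv.refl K)) := by
    have pw : ∀ α : K, α ≠ 0 → ∃ n : ℕ, α = c ^ n := fun α h0 => by
      rcases hc α with e | e | e | e
      exacts [(h0 e).elim, ⟨0, by rw [e, pow_zero]⟩, ⟨1, by rw [e, pow_one]⟩, ⟨2, by rw [e, sq, cc]⟩]
    intro α β h0 h0'
    obtain ⟨n, rfl⟩ := pw α h0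
    obtain ⟨n', rfl⟩ := pw β h0'
    exact ⟨g ^ n * g' ^ n', mul_mem (pow_mem x1 _) (pow_mem x2 _),
      ((acts_pow ag n).mul (acts_pow ag' n')).congr fun u _ => by ext <;> simp [U3.mon] <;> ring⟩
  have sw : ∀ {a : A} {α β : K}, Acts j ⊤ a (U3.mon α β (RingEquiv.refl K)) →
      Acts j ⊤ (a * s.q5) (U3.swp ∘ U3.mon β α σ) := fun ha =>
    (ha.mul aq).congr fun u _ => by ext <;> simp [U3.mon, U3.swp] <;> ring
  have qq : ∀ a : A, a * s.q5 * s.q5 = a := fun a => by rw [mul_assoc, y1, mul_one]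
  have qi : s.q5⁻¹ = s.q5 := inv_eq_of_mul_eq_one_right y1
  let M : Subgroup A :=
    { carrier := {a | a ∈ s.X ∨ a * s.q5 ∈ s.X}
      one_mem' := Or.inl (one_mem _)
      mul_mem' := by
        rintro a a' (e | e) (e' | e')
        · exact Or.inl (mul_mem e e')
        · exact Or.inr (mul_assoc a a' _ ▸ mul_mem e e')
        · refine Or.inr ?_
          have := mul_mem e (y2 _ e')
          rwa [← mul_assoc, ← mul_assoc, qq] at this
        · refine Or.inl ?_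
          have := mul_mem e (y2 _ e')
          rwa [← mul_assoc, ← mul_assoc, qq, ← mul_assoc, qq] at this
      inv_mem' := by
        rintro a (e | e)
        · exact Or.inl (inv_mem e)
        · refine Or.inr ?_
          have := y2 _ (inv_mem e)
          rwa [mul_inv_rev, qi, ← mul_assoc, y1, one_mul] at this }
  have hM : ∀ {a}, a ∈ M ↔ a ∈ s.X ∨ a * s.q5 ∈ s.X := Iff.rfl
  have MM : M ≤ s.M := fun a ha => (hM.1 ha).elim (y4 ·) fun e => qq a ▸ mul_mem (y4 e) y5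
  refine ⟨j, M, ⟨⟨ji, ?_, ?_, ?_, ?_⟩, inferInstance, le_top, fun l _ hl => ?_, k, mem_top _, fun u hu => ?_⟩,
    eR⟩
  · rw [eR, norm_R]; exact MM
  · rw [eR, eq_bot_iff]
    rintro a ⟨e | e, ha⟩
    · exact y6 a e ha
    · exact (y7 _ e (by rw [qq]; exact ha)).elim
  · rw [eR, eq_bot_iff]
    rintro a ⟨e | e, ha⟩
    · exact y8 a e ha
    · exact (y9 _ e (by rw [qq]; exact ha)).elim
  · rintro m ⟨α, β, τ, h0, h0', ⟨rfl, rfl⟩ | ⟨e, rfl⟩⟩
    · obtain ⟨a, ha, e⟩ := all α β h0 h0'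
      exact ⟨a, Or.inl ha, e⟩
    · obtain ⟨a, ha, e'⟩ := all β α h0' h0
      exact ⟨a * s.q5, Or.inr (by rwa [qq]), su τ e ▸ sw e'⟩
  · rw [eR, norm_R] at hl
    obtain ⟨r, hr, e⟩ := y10 l hl
    obtain ⟨u, rfl⟩ : r ∈ j.range := eR ▸ hr
    rcases e with e | e
    · obtain ⟨α, β, h0, h0', e'⟩ := XD e
      exact ⟨u, _, Or.inl e, ⟨α, β, _, h0, h0', Or.inl ⟨rfl, rfl⟩⟩, e'⟩
    · obtain ⟨α, β, h0, h0', e'⟩ := XD e
      exact ⟨u, _, Or.inr e, ⟨β, α, σ, h0', h0, Or.inr ⟨hσ, rfl⟩⟩, qq (j u * l) ▸ sw e'⟩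
  · have k1 : ∀ x, k * z x * k⁻¹ = v x :=
      conj_lin hc hz hv (τ := id) (fun _ _ => rfl) (by rwa [id, z1, v1]) (by rwa [id, zc, vc])
    have k3 : ∀ x, k * v x * k⁻¹ = z x := fun x => by
      rw [← k1, ki, ← mul_assoc, ← mul_assoc, k2, one_mul, mul_assoc, k2, mul_one]
    have hy : u.y = 0 := hu
    rw [cj3, k1, k3, hy, w0, hj]
    show _ = w 0 * v u.z * z u.x
    rw [w0, mul_one, mul_inv_cancel, one_mul, one_mul, zv]

theorem cent (s : StH A) (hc : ∀ z : A, orderOf z = 2 → IsConj s.z z) (z : A) (hz : orderOf z = 2) :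
    ChP 2 𝐂[zpowers z] ∧ Nat.card 𝐂[zpowers z] = 1920 := by
  have h1 : s.Q ≤ s.H ∧ (∀ h ∈ s.H, ∀ q ∈ s.Q, h * q * h⁻¹ ∈ s.Q) ∧
      ∀ h ∈ s.H, (∀ q ∈ s.Q, q * h = h * q) → h ∈ s.Q := s.lists.decide s.rep (by decide +kernel)
  have h2 : ChP 2 s.H := chP_of_cent_le (P := s.Q) (le_pCoreOf h1.1
    (fun g hg => mem_normalizer_fintype (S := (s.Q : Set A)) (h1.2.1 g hg))
    (IsPGroup.of_card (n := 5) s.card_Q)) fun g hg => h1.2.2 g hg.1 hg.2
  obtain ⟨g, rfl⟩ := isConj_iff.1 (hc z hz)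
  have e : 𝐂[zpowers (g * s.z * g⁻¹)] = s.H.map (MulAut.conj g).toMonoidHom := by
    ext y
    rw [cent_zpowers, mem_map_equiv, s.mem_H, MulAut.conj_symm_apply]
    constructor
    · intro h
      calc g⁻¹ * y * g * s.z = g⁻¹ * (y * (g * s.z * g⁻¹)) * g := by group
        _ = _ := by rw [← h]; group
    · intro h
      calc g * s.z * g⁻¹ * y = g * (s.z * (g⁻¹ * y * g)) * g⁻¹ := by group
        _ = _ := by rw [← h]; group
  rw [e]
  exact ⟨h2.cj g, by rw [card_map_of_injective (MulAut.conj g).injective, s.card_H]⟩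

end Model

end TgJ

theorem tgJ (K : Type) [Field K] (hK : Nat.card K = 4) :
    ∃ (A : Type) (_ : Group A) (_ : Finite A) (j : U3 K →* A) (M : Subgroup A),
      Spor.IsoJ3 A ∧ Nat.card A = 50232960 ∧ Tg1 (MJ K) j M ⊤ ∧ Nat.card 𝐍[j.range] = 1152 ∧
        ∀ z : A, orderOf z = 2 → ChP 2 𝐂[zpowers z] ∧ Nat.card 𝐂[zpowers z] = 1920 := by
  have : Finite K := Nat.finite_of_card_ne_zero (by omega)
  have : CharP K 2 := Loc.PU.charP_of_card (n := 2) hK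
  have := Fintype.ofFinite K
  have hF : Fintype.card K = 4 := by rw [← Nat.card_eq_fintype_card, hK]
  obtain ⟨ω, -, -, cc, -⟩ := JBase.exists_om hK
  have hω : ω ^ 2 + ω + 1 = 0 := by
    linear_combination cc + (ω + 1) * (CharTwo.two_eq_zero : (2 : K) = 0)
  have := Fact.mk hF
  have := Fact.mk hω
  have hc := Spor.MJ3.card_J3 K ω
  have : Finite (Cfsg.Spor.J3 K ω) := Nat.finite_of_card_ne_zero (by omega)
  have := Spor.MJ3.simple_J3 K ω
  obtain ⟨cj, z, hz, Q, _, h1, h2, -, -, ⟨f⟩⟩ := S2135.result hF ω hω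
  obtain ⟨s, -⟩ := Rec.J23.stH_of_simple z hz Q h1 h2 f
  obtain ⟨m, rfl⟩ := s.exists_stM
  have oz : orderOf m.z = 2 := m.toStH.x_facts.2.1
  have ot : orderOf m.t = 2 := m.lists'.decide m.rep' (by decide +kernel)
  obtain ⟨j, M, h3, h4⟩ := TgJ.main m (cj _ _ oz ot) hK
  exact ⟨_, _, inferInstance, j, M, ⟨K, _, _, ω, hF, hω, ⟨MulEquiv.refl _⟩⟩, hc, h3,
    by rw [h4, TgJ.norm_R, m.card_M], TgJ.cent m.toStH fun z hz => cj _ _ oz hz⟩

end Cfsg.Agent.MF
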