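import Mathlib
import Cfsg.Agent.MF.Defs
import Cfsg.Agent.MF.Blk
import Cfsg.Agent.MF.Base

/-! The opposite pair attached to a bad subgroup. -/

set_option autoImplicit false
set_option linter.unusedSectionVars false

namespace Cfsg.Agent.MF

open Cfsg Cfsg.Agent.GT Cfsg.Agent.Loc.Mss Cfsg.Agent.Loc.PU Cfsg.Agent.Loc.Blk Cfsg.Agent.Loc.GC
  Cfsg.Agent.Fus Cfsg.Agent.Fus.SU Cfsg.FusionSystem Subgroup
open scoped commutatorElement MatrixGroups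

variable {G : Type*} [Group G] [Finite G] {S : Subgroup G} {F : FusionSystem S}
  {X : Subgroup G → Subgroup G}

namespace Op1

theorem bd_of {L₁ L₂ V W T S₁ : Subgroup G} {k₁ k₂ : Type} [Field k₁] [Field k₂]
    {ρ₁ : G → SL(2, k₁)} {φ₁ : G → Fin 2 → k₁} {ρ₂ : G → SL(2, k₂)} {φ₂ : G → Fin 2 → k₂}
    (h1 : Bk L₁ 𝐁[2, T] V ρ₁ φ₁) (h2 : Bk L₂ 𝐁[2, T] W ρ₂ φ₂) (o : ¬ W ≤ 𝐎[2, L₁])
    (z : 𝐙[L₁] ⊓ 𝐙[L₂] = ⊥) (pg : IsPGroup 2 S₁) (le : 𝐁[2, T] ≤ S₁) (norm : S₁ ≤ 𝐍[𝐁[2, T]])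
    (eT : S₁ ⊓ 𝐍[V] = T) (n1 : T ≤ 𝐍[L₁]) (n2 : T ≤ 𝐍[L₂]) :
    BD S₁ 𝐁[2, T] V W 𝐙[𝐁[2, T]] 𝐙[L₁] (Nat.card k₁) := by
  have b := h1.opp_bd h2 o z
  refine (h1.bd (h1.opp_O h2 o z) b.eaW b.sup b.inf pg le norm (eT.le.trans n1)
    fun s hs e => ?_).1
  rw [eT] at hs
  have nW : s ∈ 𝐍[W] := h2.norm_V' n2 (norm_bB le_normalizer) hs
  obtain ⟨θ, a1, -, -, a4⟩ := h2.semi (eT ▸ pg.to_inf_left) (norm_bB le_normalizer) n2
  have c : s ∈ cmod 𝐁[2, T] W := ⟨nW, fun x hx => by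
    obtain ⟨v, hv, w, hw, rfl⟩ := b.exists_mul hx
    rw [commutatorElement_mul_left_eq_conj_mul]
    exact mul_mem (conj_mem_of_norm (b.norm_W (b.V_le hv)) (comm_mem_of_norm' nW hw))
      (b.Z_le_W (b.leD (e.2 v hv)))⟩
  have c2 := (a1 ⟨s, hs⟩).1 (a4 _ fun x hx => le_cmod.2 ⟨norm_Z (h2.V_le.trans
    (h2.le.trans le_normalizer)), h2.ea.comm_le _⟩ ((inv_mem c).2 _ (inv_mem hx)))
  exact inf_cent_Z_le T ⟨hs, mem_cent.2 fun y hy =>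
    comm_eq_one.1 (z.le ⟨e.2 y (b.Z_le_V hy), c2.2 y hy⟩)⟩

theorem exists_odd {Y : Subgroup G} (h : Syl 2 S Y) (hn : Y ≤ 𝐍[S]) {g : G} (hg : g ∈ Y) :
    ∃ j : ℕ, g ^ (2 * j + 1) ∈ S := by
  obtain ⟨k, m, ⟨j, rfl⟩, e⟩ := Nat.exists_eq_two_pow_mul_odd (orderOf_pos g).ne'
  have ht : (g ^ (2 * j + 1)) ^ 2 ^ k = 1 := by rw [← pow_mul, mul_comm, ← e, pow_orderOf_eq_one]
  have l : zpowers (g ^ (2 * j + 1)) ≤ Y := zpowers_le.2 (pow_mem hg _)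
  exact ⟨j, h.le_of_norm' (pg_iff.2 (by
    rintro _ ⟨n, rfl⟩
    exact ⟨k, by rw [← zpow_natCast, ← zpow_mul, mul_comm n, zpow_mul, zpow_natCast, ht, one_zpow]⟩))
    l (l.trans hn) (mem_zpowers _)⟩

theorem mor_cj {L V : Subgroup G} {g : G} (hV : V ≤ S) (hg : g ∈ 𝐍[S])
    (m : F.Mor S fun x => g * x * g⁻¹) (m' : F.Mor S fun x => g⁻¹ * x * g⁻¹⁻¹) (n : L ≤ 𝐍[V])
    (h : ∀ l ∈ L, F.Mor V fun x => l * x * l⁻¹) :
    ∀ l ∈ cj(g, L), F.Mor cj(g, V) fun x => l * x * l⁻¹ := fun l hl => by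
  have hl := mem_cj.1 hl
  have a : ∀ x ∈ cj(g, V), g⁻¹ * x * g⁻¹⁻¹ ∈ V := fun x hx => by simpa using mem_cj.1 hx
  exact (m.comp ((h _ hl).comp (m'.mono (cj_le_of_norm hV hg)) a)
    fun x hx => hV (conj_mem_of_norm (n hl) (a x hx))).congr fun x _ => by group

end Op1

theorem Bad.exists_op {Q M : Subgroup G} (h : Bad S F X Q M) :
    Four S ∨ ∃ (L V B : Subgroup G) (t : G) (K : Type) (_ : Field K) (ρ : G → SL(2, K))
      (φ : G → Fin 2 → K), Op S F X L V B M t ρ φ := by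
  have a := h.amb
  have hT := a.syl Q h.ne h.fn
  have hc := a.chp Q h.ne h.fn
  have nK := a.nrm Q h.ne h.fn
  have m0 := a.mor Q h.ne h.fn
  have m2 := h.m2
  have QS : Q ≤ S := h.fn.1
  have QT : Q ≤ S ⊓ 𝐍[Q] := le_inf QS le_normalizer
  obtain ⟨T, eT⟩ : ∃ T, T = S ⊓ 𝐍[Q] := ⟨_, rfl⟩
  rw [← eT] at hT m0 m2 QT
  have TS : T ≤ S := eT.le.trans inf_le_left
  have S0 : S ≠ ⊥ := fun e => h.ne (eq_bot_iff.2 (QS.trans e.le))
  have T0 : T ≠ ⊥ := fun e => h.ne (eq_bot_iff.2 (QT.trans e.le))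
  have sS := a.sylN S0 le_rfl le_normalizer
  have nS := a.nrm S S0 (fnN le_rfl le_normalizer)
  have mS : ∀ g ∈ X S, F.Mor S fun x => g * x * g⁻¹ := fun g hg =>
    a.mor S S0 (fnN le_rfl le_normalizer) g hg S (le_inf le_rfl le_normalizer)
      fun _ hy => conj_mem_of_norm (nS hg) hy
  have TH : T ≤ X S ⊓ 𝐍[T] := le_inf (TS.trans sS.le) le_normalizer
  have star : ∀ U, U ≠ ⊥ → U ≤ T → X S ⊓ 𝐍[T] ≤ 𝐍[U] → X Q ⊓ 𝐍[U] ≤ M := fun U u0 uT hU => by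
    refine m2 U u0 uT (QT.trans (TH.trans hU)) ?_
    by_cases l : S ≤ T
    · exact .inr ((le_inf le_rfl (le_antisymm TS l ▸ nS)).trans hU)
    · obtain ⟨g, hg, g1, g2⟩ := Inv.exists_mem_normalizer_of_lt a.pg TS l
      exact .inl (clt (le_inf TS (TH.trans hU)) fun e => g1 (e ⟨hg, hU ⟨sS.le hg, g2⟩⟩))
  have nB : 𝐍[T] ≤ 𝐍[𝐁[2, T]] := norm_bB le_rfl
  obtain ⟨L, k, _, ρ, φ, l1, l2, l3, bk⟩ := exists_bk_loc hT hc
    ((inf_le_inf_left _ (cent_le_norm _)).trans (star _ (oz_ne_bot hT.pg T0) (Loc.Mss.oz_le T)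
      (norm_oz inf_le_right)))
    (fun C c1 c2 c3 => star C c2 (c1.trans (bB_le T)) (inf_le_right.trans (nB.trans (by
      have := normalizer_le_normalizer_map_subtype 𝐁[2, T] (C.subgroupOf 𝐁[2, T])
      rwa [map_subgroupOf_eq_of_le c1] at this)))) h.nle
  generalize 𝐕[2, L] = V at bk
  have nM : ¬ L ≤ M := fun l => l2 (bk.E_le.trans l)
  have BT := bB_le (p := 2) T
  have VT := bk.V_le.trans BT
  have V0 : V ≠ ⊥ := fun e => bk.not_V_le (e ▸ bot_le)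
  have mL : ∀ l ∈ L, F.Mor V fun x => l * x * l⁻¹ := fun l hl =>
    m0 l (l1 hl) V VT fun _ hy => TS (VT (conj_mem_of_norm (bk.norm_V hl) hy))
  have zz : ∀ g ∈ X S ⊓ 𝐍[T], ¬ cj(g, V) ≤ 𝐎[2, L] → 𝐙[L] ⊓ 𝐙[cj(g, L)] = ⊥ := fun g hg o =>
    a.zz bk (bk.cj' (nB hg.2)) o (BT.trans TS) mL
      (Op1.mor_cj (VT.trans TS) (nS hg.1) (mS g hg.1) (mS _ (inv_mem hg.1)) bk.norm_V mL)
  obtain ⟨t, tS, tT, o⟩ : ∃ t ∈ S, t ∈ 𝐍[T] ∧ ¬ cj(t, V) ≤ 𝐎[2, L] := by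
    obtain ⟨g, hg, o⟩ : ∃ g ∈ X S ⊓ 𝐍[T], ¬ cj(g, V) ≤ 𝐎[2, L] := by
      by_contra! l
      have l' := ncl_le_iff.2 l
      exact nM ((le_inf l1 (norm_of_comm_le l' (bk.commT.trans (le_ncl _ _)))).trans
        (star _ (fun e => V0 (eq_bot_iff.2 ((le_ncl _ _).trans e.le))) (l'.trans (bk.O_le.trans BT))
          (le_norm_ncl _ _)))
    have b0 := bk.opp_bd (bk.cj' (nB hg.2)) o (zz g hg o)
    have gV : g ∉ 𝐍[V] := fun e => b0.ne (cj_of_norm e).symm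
    obtain ⟨j, hj⟩ := Op1.exists_odd sS nS hg.1
    have j2 : g ^ (2 * j + 1) ∉ 𝐍[V] := fun e => gV (by
      rw [pow_succ, pow_mul, pow_two] at e
      exact (mul_mem_cancel_left (pow_mem (b0.mul_mem_norm (nB hg.2) (nB hg.2) gV gV) j)).1 e)
    exact ⟨_, hj, pow_mem hg.2 _, (b0.swap (nB (pow_mem hg.2 _)) j2).1.symm ▸ o⟩
  have z := zz t ⟨sS.le tS, tT⟩ o
  have bk' := bk.cj' (nB tT)
  have b0 := bk.opp_bd bk' o z
  have eO := bk.opp_O bk' o z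
  have tV : t ∉ 𝐍[V] := fun e => b0.ne (cj_of_norm e).symm
  have TV : T ≤ 𝐍[V] := fun s hs => by_contra fun e => bk.opp_false (bk.cj' (nB (le_normalizer hs)))
    ((b0.swap (nB (le_normalizer hs)) e).1.symm ▸ o) hc l1
    (cj_le_of_norm l1 (le_normalizer (hT.le hs))) (hT.core_le.trans (le_normalizer.trans nB))
  have eV : S ⊓ 𝐍[V] = T := (le_antisymm (le_inf TS TV) (by_contra fun e =>
    nM ((le_inf l1 bk.norm_V).trans (m2 V V0 VT (QT.trans TV) (.inl (clt (le_inf TS TV) e)))))).symm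
  have nL : T ≤ 𝐍[L] := (le_inf le_rfl (eO ▸ TV)).trans l3
  have nL' : T ≤ 𝐍[cj(t, L)] := by
    have := cj_mono t nL
    rwa [cj_norm, cj_of_norm tT] at this
  have e1 : S ⊓ 𝐍[𝐁[2, T]] ⊓ 𝐍[V] = T := le_antisymm
    ((inf_le_inf_right _ inf_le_left).trans eV.le)
    (le_inf (le_inf TS (le_normalizer.trans nB)) TV)
  have b := Op1.bd_of bk bk' o z a.pg.to_inf_left (le_inf (BT.trans TS) le_normalizer) inf_le_right
    e1 nL nL'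
  have QV : Q ≤ V := by
    have nD : L ≤ 𝐍[𝐙[L]] := norm_Z le_normalizer
    have pQ : IsPGroup 2 Q := a.pg.to_le QS
    have c := bk.cover (X := V ⊓ cmod Q 𝐙[L]) inf_le_left
      (norm_inf bk.norm_V (norm_cmod (l1.trans nK) nD))
      (Loc.Blk.exists_fix bk.ea.pg pQ (QT.trans TV) (norm_Z (QT.trans nL))
        (bk.V_le.trans (bk.le.trans nD)) fun l => bk.not_V_le (l.trans bk.ZL_le))
    have c' : V ≤ cmod Q 𝐙[L] := c.ge.trans (sup_le inf_le_right (le_cmod.2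
      ⟨le_normalizer, comm_le_right (norm_Z (QT.trans nL))⟩))
    have QB : Q ≤ 𝐁[2, T] := fun s hs => b.ker s (e1.ge (QT hs)) fun y hy =>
      comm_swap.1 ((c' (bk.Z_le hy)).2 s hs)
    exact (le_inf le_rfl (QB.trans bk.le)).trans ((bk.le_O pQ (l1.trans nK)).trans eO.le)
  obtain rfl : Q = V := le_antisymm QV
    ((le_inf (VT.trans TS) (bk.ea.ab.trans (cent_anti QV))).trans h.cen)
  have tT' : ¬ S ≤ T := fun l => tV (TV (l tS))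
  by_cases hq : Nat.card k = 2 ∧ 𝐙[L] = ⊥
  · have c4 : Nat.card Q = 4 := by rw [b.cardV, b.cardZ, hq.1, hq.2, card_bot]
    refine .inl ⟨?_, Q, QS, bk.ea, c4, h.cen⟩
    have := two_le TS tT'
    have := cle BT
    have := b.card_B
    rw [hq.1, c4] at this
    omega
  have key : ∀ A, EA A → A ≤ S ⊓ 𝐍[𝐁[2, T]] → Nat.card Q ≤ Nat.card A → A ≤ 𝐁[2, T] :=
    fun A eA l c => by_contra fun n => by
      obtain ⟨e, h1, h2⟩ := b.two_of_ea eA l c n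
      obtain ⟨x, hx, hx'⟩ := SetLike.not_le_iff_exists.1 h2
      have s : t⁻¹ * x ∈ T := eV.le ⟨S.mul_mem (S.inv_mem tS) (l hx).1, b.mul_mem_norm
        (inv_mem (nB tT)) (l hx).2 (fun e => tV (inv_mem_iff.1 e)) hx'⟩
      have e2 : cj(t, 𝐙[L]) = 𝐙[L] := by
        rw [← cj_of_norm (norm_Z nL s), cj_cj, mul_inv_cancel_left, cj_of_norm (norm_Z nL s)]
        exact cj_of_cent (cent_anti (b.leD.trans h1) (eA.ab hx))
      rw [← cj_Z, e2, inf_idem] at z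
      exact hq ⟨e, z⟩
  have SB : S ≤ 𝐍[𝐁[2, T]] := by_contra fun hn => by
    obtain ⟨g, hg, hg1, hg2⟩ := Inv.exists_mem_normalizer_of_lt a.pg
      (inf_le_left : S ⊓ 𝐍[𝐁[2, T]] ≤ S) fun l => hn (l.trans inf_le_right)
    refine hg1 ⟨hg, Loc.Mss.mem_norm_of_cj_le ?_⟩
    nth_rw 1 [← b.sup]
    rw [cj_sup]
    exact sup_le (key _ (b.eaV.cj g) (cj_le_of_norm (b.V_le.trans b.le) hg2) (card_cj _ _).ge)
      (key _ (b.eaW.cj g) (cj_le_of_norm (b.W_le.trans b.le) hg2)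
        (by rw [card_cj, b.cardWV]))
  rw [inf_eq_left.2 SB] at b key
  have b' := b.cj t
  rw [cj_of_mem tS, cj_of_norm (nB tT), (b.swap (nB tT) tV).2, cj_of_norm (norm_Z nB tT)] at b'
  refine .inr ⟨L, Q, 𝐁[2, T], t, k, inferInstance, ρ, φ, a, h.fn, bk, eO, by rw [eV], l1,
    eV.le.trans nL, tS, tV, b, b', (cj_Z L t).symm ▸ z,
    cent_le_of_chp hc hT nK ((inf_le_inf_right _ TS).trans h.cen), key, ?_, nM,
    fun U u0 uB hU => m2 U u0 (uB.trans BT) (QS.trans hU)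
      (.inl (clt (le_inf TS (TS.trans hU)) fun l => tT' ((le_inf le_rfl hU).trans l)))⟩
  have := bk.one_lt
  by_contra! l
  exact hq ⟨by omega, l.2⟩

end Cfsg.Agent.MF
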