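import Mathlib
import Cfsg.Agent.MF.Defs

/-! `B` is strongly closed when it is so for the maps fixing a central involution. -/

set_option autoImplicit false
set_option linter.unusedSectionVars false

namespace Cfsg.Agent.MF

open Cfsg Cfsg.Agent.GT Cfsg.Agent.Loc.Mss Cfsg.Agent.Loc.PU Cfsg.Agent.Loc.Blk Cfsg.Agent.Loc.GC
  Cfsg.Agent.Fus Cfsg.Agent.Fus.SU Cfsg.FusionSystem Subgroup
open scoped commutatorElement MatrixGroups

variable {G : Type*} [Group G] [Finite G] {S B V W Z D : Subgroup G} {q : ℕ}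
  {F F' : FusionSystem S}

namespace SC

theorem mem_cz {u x : G} : x ∈ 𝐂[zpowers u] ↔ u * x = x * u := by
  rw [mem_centralizer_iff]
  refine ⟨fun h => h u (mem_zpowers u), fun h y hy => ?_⟩
  obtain ⟨k, rfl⟩ := mem_zpowers_iff.1 hy
  exact (Commute.zpow_left h k).eq

theorem img_zp {P : Subgroup G} {f : G → G} (hf : F.Mor P f) {u : G} (hu : u ∈ P) :
    img f (zpowers u) = zpowers (f u) := by
  refine le_antisymm (img_le_iff.2 fun y hy => ?_) (zpowers_le.2 (mem_img_of_mem (mem_zpowers u)))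
  obtain ⟨k, rfl⟩ := mem_zpowers_iff.1 hy
  rw [hf.map_zpow hu]
  exact zpow_mem (mem_zpowers _) k

/-- Fusion of elements. -/
def Cj (F : FusionSystem S) (x y : G) : Prop := ∃ f, F.Mor (zpowers x) f ∧ f x = y

theorem Cj.of {P : Subgroup G} {f : G → G} (hf : F.Mor P f) {u : G} (hu : u ∈ P) : Cj F u (f u) :=
  ⟨f, hf.mono (zpowers_le.2 hu), rfl⟩

theorem Cj.symm {x y : G} (h : Cj F x y) : Cj F y x := by
  obtain ⟨f, hf, rfl⟩ := h
  obtain ⟨g, hg, e, -⟩ := hf.inv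
  rw [img_zp hf (mem_zpowers x)] at hg
  exact ⟨g, hg.mor, e x (mem_zpowers x)⟩

theorem Cj.trans {x y z : G} (h : Cj F x y) (h' : Cj F y z) : Cj F x z := by
  obtain ⟨f, hf, rfl⟩ := h
  obtain ⟨g, hg, rfl⟩ := h'
  refine ⟨_, hg.comp hf fun w hw => ?_, rfl⟩
  rw [← img_zp hf (mem_zpowers x)]
  exact mem_img_of_mem hw

theorem Cj.sq {x y : G} (h : Cj F x y) (h2 : x ^ 2 = 1) : y ^ 2 = 1 := by
  obtain ⟨f, hf, rfl⟩ := h
  rw [← hf.map_pow (mem_zpowers x), h2, hf.map_one]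

theorem ext (hF : F.IsSaturated 2) (hS : IsPGroup 2 S) {u x : G} (h : Cj F u x)
    (hx : F.IsFullyCentralized (zpowers x)) : ∃ ψ, F.Mor (S ⊓ 𝐂[zpowers u]) ψ ∧ ψ u = x := by
  obtain ⟨f, hf, rfl⟩ := h
  have hi := hf.iso_img
  rw [img_zp hf (mem_zpowers u)] at hi
  obtain ⟨g, hg, e⟩ := hF.extend_centralizerIn hS hx hi
  exact ⟨g, hg.mono le_sup_right, e u (mem_zpowers u)⟩

theorem exists_fc {u : G} (hu : u ∈ S) : ∃ x, Cj F u x ∧ F.IsFullyCentralized (zpowers x) := by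
  obtain ⟨Q, hQ, hc⟩ := F.exists_isConj_fullyCentralized (zpowers_le.2 hu)
  obtain ⟨f, hf⟩ := hQ.exists_iso
  refine ⟨f u, ⟨f, hf.mor, rfl⟩, ?_⟩
  rw [← img_zp hf.mor (mem_zpowers u), hf.img_eq]
  exact hc

theorem ea_img {P A : Subgroup G} {f : G → G} (hf : F.Mor P f) (hA : EA A) (h : A ≤ P) :
    EA (img f A) := by
  refine ⟨fun a ha => mem_centralizer_iff.2 fun b hb => ?_, fun a ha => ?_⟩
  · obtain ⟨c, hc, rfl⟩ := (hf.mem_img h).1 ha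
    obtain ⟨d, hd, rfl⟩ := (hf.mem_img h).1 hb
    rw [← hf.map_mul (h hd) (h hc), ← hf.map_mul (h hc) (h hd), hA.mul_comm hc hd]
  · obtain ⟨c, hc, rfl⟩ := (hf.mem_img h).1 ha
    rw [← hf.map_pow (h hc), hA.sq c hc, hf.map_one]

/-- Two maps agreeing at a preimage of `y`. -/
theorem two {y : G} (h : SFix F y B) {P : Subgroup G} {f g : G → G} (hf : F.Mor P f)
    (hg : F.Mor P g) {y₀ x : G} (h0 : y₀ ∈ P) (e1 : f y₀ = y) (e2 : g y₀ = y) (hx : x ∈ P)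
    (hB : g x ∈ B) : f x ∈ B := by
  obtain ⟨k, hk, e, -⟩ := hg.inv
  have := h _ _ (hf.comp hk.mor hk.maps) (e2 ▸ mem_img_of_mem h0)
    (by rw [← e2, e _ h0, e1, e2]) (g x) (mem_img_of_mem hx) hB
  rwa [e x hx] at this

variable (h : Sq S B V W Z D q)
include h

theorem mapV {P : Subgroup G} {f : G → G} (hf : F.Mor P f) {A : Subgroup G} (hA : A = V ∨ A = W)
    (hP : A ≤ P) : img f A = V ∨ img f A = W := by
  have ea : EA A := by rcases hA with rfl | rfl; exacts [h.bd.eaV, h.bd.eaW]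
  have hc : Nat.card V ≤ Nat.card (img f A) := by
    rw [hf.card_img hP]
    rcases hA with rfl | rfl
    exacts [le_rfl, h.bd.cardWV.ge]
  exact h.bd.ea_eq' (ea_img hf ea hP)
    (h.ea _ (ea_img hf ea hP) (hf.mono hP).img_le hc) hc

theorem mapV' {P : Subgroup G} {f : G → G} (hf : F.Mor P f) {A : Subgroup G} (hA : A = V ∨ A = W)
    (hP : A ≤ P) {x : G} (hx : x ∈ A) : f x ∈ B := by
  have := mem_img_of_mem (f := f) hx
  rcases mapV h hf hA hP with e | e <;> rw [e] at this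
  exacts [h.bd.V_le this, h.bd.W_le this]

theorem mapB {P : Subgroup G} {f : G → G} (hf : F.Mor P f) (hP : B ≤ P) {x : G} (hx : x ∈ B) :
    f x ∈ B := by
  obtain ⟨v, hv, w, hw, rfl⟩ := h.bd.exists_mul hx
  rw [hf.map_mul (hP (h.bd.V_le hv)) (hP (h.bd.W_le hw))]
  exact mul_mem (mapV' h hf (.inl rfl) (h.bd.V_le.trans hP) hv)
    (mapV' h hf (.inr rfl) (h.bd.W_le.trans hP) hw)

theorem mapZ {P : Subgroup G} {f : G → G} (hf : F.Mor P f) (hP : B ≤ P) {x : G} (hx : x ∈ Z) :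
    f x ∈ Z := by
  have hV := h.bd.V_le.trans hP
  have hW := h.bd.W_le.trans hP
  have h1 := mem_img_of_mem (f := f) (h.bd.Z_le_V hx)
  have h2 := mem_img_of_mem (f := f) (h.bd.Z_le_W hx)
  have ne : img f V ≠ img f W := fun e => h.bd.ne (le_antisymm
    ((hf.img_le_img_iff hV hW).1 e.le) ((hf.img_le_img_iff hW hV).1 e.ge))
  rcases mapV h hf (.inl rfl) hV with e | e <;> rcases mapV h hf (.inr rfl) hW with e' | e'
  · exact absurd (e.trans e'.symm) ne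
  · exact h.bd.mem_Z (e ▸ h1) (e' ▸ h2)
  · exact h.bd.mem_Z (e' ▸ h2) (e ▸ h1)
  · exact absurd (e.trans e'.symm) ne

theorem nV {a : G} (ha : a ∈ S) (hB : a ∉ B) : a ∉ 𝐍[V] := fun hn => hB (h.tB ⟨ha, hn⟩)

theorem mul_mem_B {a b : G} (ha : a ∈ S) (hb : b ∈ S) (ha' : a ∉ B) (hb' : b ∉ B) : a * b ∈ B :=
  h.tB ⟨mul_mem ha hb, h.bd.mul_mem_norm (h.bd.norm ha) (h.bd.norm hb) (nV h ha ha') (nV h hb hb')⟩

theorem sq_mem_B {a : G} (ha : a ∈ S) : a ^ 2 ∈ B := by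
  by_cases hB : a ∈ B
  · exact pow_mem hB 2
  · rw [sq]; exact mul_mem_B h ha ha hB hB

theorem central {u y : G} (hu : u ∈ S) (hB : u ∉ B) (hy : y ∈ Z) (e : u * y = y * u) :
    S ≤ 𝐂[zpowers y] := fun s hs => mem_cz.2 (by
  by_cases hsB : s ∈ B
  · exact h.bd.mul_Z hy hsB
  · have := h.bd.mul_Z hy (mul_mem_B h hs hu hsB hB)
    rw [mul_assoc, e, ← mul_assoc, ← mul_assoc] at this
    exact mul_right_cancel this)

theorem invol (hq : 4 ≤ q) (hF : F.IsSaturated 2)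
    (hK : ∀ y ∈ S, y ≠ 1 → y ^ 2 = 1 → S ≤ 𝐂[zpowers y] → SFix F y B) {z u : G} (hz : z ∈ Z)
    (hc : Cj F z u) (hu : u ∈ S) : u ∈ B := by
  by_contra hB
  have hS := h.bd.pg
  have ZB : Z ≤ B := h.bd.Z_le_V.trans h.bd.V_le
  have ZS : Z ≤ S := ZB.trans h.bd.le
  have u2 : u * u = 1 := by rw [← sq]; exact hc.sq (h.bd.eaZ.sq z hz)
  have ui : u⁻¹ = u := inv_eq_of_mul_eq_one_right u2
  obtain ⟨x, hx, hfc⟩ := exists_fc (F := F) (ZS hz)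
  obtain ⟨g, hg, eg⟩ := ext hF hS hx hfc
  have xZ : x ∈ Z := eg ▸ mapZ h hg
    (fun b hb => ⟨h.bd.le hb, mem_cz.2 (h.bd.mul_Z hz hb)⟩) hz
  obtain ⟨ψ, hψ, eψ⟩ := ext hF hS (hc.symm.trans hx) hfc
  have uC : u ∈ S ⊓ 𝐂[zpowers u] := ⟨hu, mem_cz.2 rfl⟩
  have key : ∀ y ∈ Z, y ≠ 1 → u * y = y * u → ψ y ∉ B := fun y hy y1 e hψy => by
    have yC : y ∈ S ⊓ 𝐂[zpowers u] := ⟨ZS hy, mem_cz.2 e⟩
    have cy := central h hu hB hy e
    have y2 := h.bd.eaZ.sq y hy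
    obtain ⟨χ, hχ, eχ⟩ := ext hF hS (Cj.of hψ yC).symm
      (F.isFullyCentralized_of_le_centralizer (zpowers_le.2 (ZS hy)) cy)
    have hm := hχ.comp hψ fun s hs => ⟨hψ.mem hs, mem_cz.2 (by
      rw [← hψ.map_mul yC hs, ← hψ.map_mul hs yC, mem_cz.1 (cy hs.1)])⟩
    refine hB (two (hK y (ZS hy) y1 y2 cy) (F.mor_id inf_le_left) hm yC rfl eχ uC ?_)
    rw [eψ]
    rcases h.bd.mem_or hψy ((Cj.of hψ yC).sq y2) with hV | hW
    · exact mapV' h hχ (.inl rfl) (fun v hv => ⟨h.bd.le (h.bd.V_le hv),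
        mem_cz.2 (h.bd.eaV.mul_comm hV hv)⟩) (h.bd.Z_le_V xZ)
    · exact mapV' h hχ (.inr rfl) (fun v hv => ⟨h.bd.le (h.bd.W_le hv),
        mem_cz.2 (h.bd.eaW.mul_comm hW hv)⟩) (h.bd.Z_le_W xZ)
  have uniq : ∀ y ∈ Z, y ≠ 1 → u * y = y * u → ∀ y' ∈ Z, y' ≠ 1 → u * y' = y' * u → y = y' :=
    fun y hy y1 e y' hy' y1' e' => by
      have yC : y ∈ S ⊓ 𝐂[zpowers u] := ⟨ZS hy, mem_cz.2 e⟩
      have yC' : y' ∈ S ⊓ 𝐂[zpowers u] := ⟨ZS hy', mem_cz.2 e'⟩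
      by_contra ne
      refine key (y * y') (mul_mem hy hy') (fun e1 => ne ?_) (mem_cz.1 (mul_mem yC yC').2) ?_
      · exact mul_right_cancel (e1.trans (h.bd.eaZ.mul_self hy').symm)
      · rw [hψ.map_mul yC yC']
        exact mul_mem_B h (hψ.mem yC) (hψ.mem yC') (key y hy y1 e) (key y' hy' y1' e')
  have nB := h.bd.norm hu
  have nuV := nV h hu hB
  obtain ⟨v, hv, hvZ⟩ := h.bd.k_exists_V
  have hw := h.bd.k_swV nB nuV hv
  have hwZ : u * v * u⁻¹ ∉ Z := fun e => hvZ (h.bd.k_conj_Z nB e)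
  set w := u * v * u⁻¹ with ew
  have ev : u * w * u⁻¹ = v := by
    rw [ew, ui]
    calc u * (u * v * u) * u = (u * u) * v * (u * u) := by group
      _ = v := by rw [u2]; group
  have kZ : ⁅v, w⁆ ∈ Z := h.bd.comm_mem (h.bd.V_le hv) (h.bd.W_le hw)
  have k1 : ⁅v, w⁆ ≠ 1 := fun e =>
    (h.bd.nzd v hv w hw (e ▸ one_mem _)).elim hvZ hwZ
  have ki : ⁅w, v⁆ = ⁅v, w⁆ := by
    rw [← commutatorElement_inv, inv_eq_of_mul_eq_one_right (h.bd.eaZ.mul_self kZ)]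
  have ku : u * ⁅v, w⁆ = ⁅v, w⁆ * u := by
    have : u * ⁅v, w⁆ * u⁻¹ = ⁅u * v * u⁻¹, u * w * u⁻¹⁆ := by
      simp only [commutatorElement_def]; group
    rw [← ew, ev, ki] at this
    rw [← mul_inv_eq_iff_eq_mul, this]
  obtain ⟨z₁, hz₁, z1, zk⟩ : ∃ z₁ ∈ Z, z₁ ≠ 1 ∧ z₁ ≠ ⁅v, w⁆ := by
    by_contra hn
    push Not at hn
    have hle : Z ≤ zpowers ⁅v, w⁆ := fun y hy => by
      by_cases y1 : y = 1
      · rw [y1]; exact one_mem _
      · rw [hn y hy y1]; exact mem_zpowers _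
    have c1 := card_le_of_le hle
    rw [Nat.card_zpowers, h.bd.cardZ] at c1
    have c2 : orderOf ⁅v, w⁆ ≤ 2 := orderOf_le_of_pow_eq_one two_pos (h.bd.eaZ.sq _ kZ)
    have c3 : 0 < Nat.card D := Nat.card_pos
    nlinarith
  have hz' : u * z₁ * u⁻¹ ∈ Z := conj_mem_of_norm (h.bd.norm_Z nB) hz₁
  have e2 : z₁ * (u * z₁ * u⁻¹) = ⁅v, w⁆ := by
    refine uniq _ (mul_mem hz₁ hz') (fun e => zk (uniq _ hz₁ z1 ?_ _ kZ k1 ku)) ?_ _ kZ k1 ku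
    · have := mul_left_cancel (e.trans (h.bd.eaZ.mul_self hz₁).symm)
      rwa [mul_inv_eq_iff_eq_mul] at this
    · rw [h.bd.eaZ.mul_comm hz₁ hz']
      conv_lhs => rw [← h.bd.eaZ.mul_comm hz₁ hz']
      rw [ui]
      calc u * (z₁ * (u * z₁ * u)) = u * z₁ * u * z₁ * u := by group
        _ = _ := rfl
  have wz : w * z₁ ∈ W := mul_mem hw (h.bd.Z_le_W hz₁)
  have cB : v * (w * z₁) ∈ B := mul_mem (h.bd.V_le hv) (h.bd.W_le wz)
  have c2 : (v * (w * z₁)) ^ 2 = ⁅v, w⁆ := by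
    rw [h.bd.sq_eq hv wz, h.bd.comm_mul_right (h.bd.V_le hv) (h.bd.W_le hw) (ZB hz₁),
      h.bd.comm_Z_right hz₁ (h.bd.V_le hv), mul_one]
  have cu : u * (v * (w * z₁)) = v * (w * z₁) * u := by
    rw [← mul_inv_eq_iff_eq_mul]
    have e3 : u * z₁ * u⁻¹ = z₁ * ⁅v, w⁆ := by
      rw [← e2, ← mul_assoc, h.bd.eaZ.mul_self hz₁, one_mul]
    calc u * (v * (w * z₁)) * u⁻¹ = (u * v * u⁻¹) * (u * w * u⁻¹) * (u * z₁ * u⁻¹) := by group
      _ = w * v * z₁ * ⁅v, w⁆ := by rw [← ew, ev, e3]; group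
      _ = ⁅v, w⁆ * (w * v * z₁) := (h.bd.mul_Z kZ
          (mul_mem (mul_mem (h.bd.W_le hw) (h.bd.V_le hv)) (ZB hz₁))).symm
      _ = _ := by simp only [commutatorElement_def]; group
  have cC : v * (w * z₁) ∈ S ⊓ 𝐂[zpowers u] := ⟨h.bd.le cB, mem_cz.2 cu⟩
  refine key _ kZ k1 ku ?_
  rw [← c2, hψ.map_pow cC]
  exact sq_mem_B h (hψ.mem cC)

end SC

open SC in
theorem Sq.sc (h : Sq S B V W Z D q) (hq : 4 ≤ q) (hF : F.IsSaturated 2)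
    (eV : ∀ v ∈ V, ∃ f, F.Iso V V f ∧ f v ∈ Z)
    (hK : ∀ y ∈ S, y ≠ 1 → y ^ 2 = 1 → S ≤ 𝐂[zpowers y] → SFix F y B) :
    F.StronglyClosed B := by
  have iV : ∀ v ∈ V, ∀ u ∈ S, Cj F v u → u ∈ B := fun v hv u hu hc => by
    obtain ⟨f, hf, hz⟩ := eV v hv
    exact invol h hq hF hK hz ((Cj.of hf.mor hv).symm.trans hc) hu
  refine stronglyClosed_iff.2 ⟨h.bd.le, fun P f hf x hx hxB => ?_⟩
  by_contra hB
  have hu := hf.mem hx
  have x2 : x ^ 2 ≠ 1 := fun e => by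
    rcases h.bd.mem_or hxB e with hV | hW
    · exact hB (iV x hV _ hu (Cj.of hf hx))
    · obtain ⟨s, hs, hsV⟩ := SetLike.not_le_iff_exists.1 h.sw
      exact hB (iV _ (h.bd.k_swW (h.bd.norm hs) hsV hW) _ hu
        ((Cj.of (F.mor_conj le_rfl hs) (h.bd.le hxB)).symm.trans (Cj.of hf hx)))
  have hx2 : x ^ 2 ∈ P := pow_mem hx 2
  have xZ := h.bd.sq_mem hxB
  have e : f (x ^ 2) = f x ^ 2 := hf.map_pow hx 2
  have y2 : (f x ^ 2) ^ 2 = 1 := e ▸ (Cj.of hf hx2).sq (h.bd.eaZ.sq _ xZ)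
  have yc : f x * f x ^ 2 = f x ^ 2 * f x := by group
  have yZ : f x ^ 2 ∈ Z :=
    h.bd.mem_Z_of_swap (h.bd.norm hu) (nV h hu hB) (sq_mem_B h hu) y2 yc
  have cy := central h hu hB yZ yc
  obtain ⟨χ, hχ, eχ⟩ := ext hF h.bd.pg (e ▸ Cj.of hf hx2)
    (F.isFullyCentralized_of_le_centralizer (zpowers_le.2 (pow_mem hu 2)) cy)
  have hBC : B ≤ S ⊓ 𝐂[zpowers (x ^ 2)] := fun b hb => ⟨h.bd.le hb, mem_cz.2 (h.bd.mul_Z xZ hb)⟩
  exact hB (two (hK _ (pow_mem hu 2) (fun e1 => x2 ((hf.eq_one_iff hx2).1 (e.trans e1))) y2 cy)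
    (hf.mono (zpowers_le.2 hx)) (hχ.mono (zpowers_le.2 (hBC hxB))) (pow_mem (mem_zpowers x) 2) e eχ
    (mem_zpowers x) (mapB h hχ hBC hxB))

end Cfsg.Agent.MF
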