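import Mathlib
import Cfsg.Agent.MF.Base

/-! The target structure inside the automorphism group of a centreless group. -/

set_option autoImplicit false
set_option linter.unusedSectionVars false

namespace Cfsg.Agent.MF.TgG

open Cfsg Cfsg.Agent.GT Cfsg.Agent.Loc.Mss Cfsg.Agent.Loc.PU Cfsg.Agent.Loc.Blk Cfsg.Agent.Loc.GC
  Cfsg.Agent.Fus Cfsg.Agent.Fus.SU Cfsg.FusionSystem Subgroup
open scoped commutatorElement MatrixGroups

variable {U : Type} [Group U] {P : Type*} [Group P]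

theorem conj_inj (hc : center P = ⊥) : Function.Injective (MulAut.conj : P →* MulAut P) := by
  rw [injective_iff_map_eq_one]
  intro g hg
  rw [← mem_bot, ← hc, mem_center_iff]
  intro x
  have := DFunLike.congr_fun hg x
  simp only [MulAut.conj_apply, MulAut.one_apply] at this
  rw [mul_inv_eq_iff_eq_mul] at this
  exact this.symm

theorem conj_conj (α : MulAut P) (p : P) :
    α * MulAut.conj p * α⁻¹ = MulAut.conj (α p) := by
  ext x
  simp

theorem inn_normal : (MulAut.conj : P →* MulAut P).range.Normal :=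
  ⟨by rintro _ ⟨p, rfl⟩ α; exact ⟨α p, (conj_conj α p).symm⟩⟩

theorem center_eq_bot [IsSimpleGroup P] {a b : P} (h : a * b ≠ b * a) : center P = ⊥ :=
  (IsSimpleGroup.eq_bot_or_eq_top_of_normal (center P) inferInstance).resolve_right fun e =>
    h (mem_center_iff.1 (e ▸ mem_top b) a)

theorem mem_norm_of [Finite P] {A : Subgroup P} {g : P} (h : ∀ x ∈ A, g * x * g⁻¹ ∈ A) :
    g ∈ 𝐍[A] := mem_normalizer_fintype h

/-- All that has to be checked in the group `P`. -/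
structure Dat (𝔐 : Md U) (e : U →* P) (R : MulAut P → (U → U) → Prop) : Prop where
  cen : center P = ⊥
  inj : Function.Injective e
  act : ∀ α m, R α m → 𝔐.Mon m ∧ ∀ u, α (e u) = e (m u)
  ex : ∀ m, 𝔐.Mon m → ∃ α, R α m
  mul : ∀ α m β m', R α m → R β m' → ∃ m'', R (α * β) m''
  one : ∃ m, R 1 m
  fth : ∀ α, R α id → α = 1
  inn : ∀ u, 𝔐.Mon (fun x => u * x * u⁻¹) → ∀ x, u * x * u⁻¹ = x
  bor : ∀ p, (∀ u, ∃ u', p * e u * p⁻¹ = e u') → ∃ u m, R (MulAut.conj (e u * p)) m ∧ 𝔐.Tor m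
  nu : ∃ p, ∀ u ∈ 𝔐.V, p * e u * p⁻¹ = e (𝔐.ν u)
  odd : ¬ 2 ∣ e.range.index
  norV : 𝔐.V.Normal
  torV : ∀ m, 𝔐.Tor m → ∀ u ∈ 𝔐.V, m u ∈ 𝔐.V
  invD : ∀ p, (∀ u ∈ 𝔐.V, ∃ u' ∈ 𝔐.V, p * e u * p⁻¹ = e u') →
    ∀ u ∈ 𝔐.D, ∃ u' ∈ 𝔐.D, p * e u * p⁻¹ = e u'

theorem Dat.tg [Finite P] {𝔐 : Md U} {e : U →* P} {R : MulAut P → (U → U) → Prop}
    (h : Dat 𝔐 e R) : ∃ (j : U →* MulAut P) (M : Subgroup (MulAut P)),
      Tg 𝔐 j M (MulAut.conj : P →* MulAut P).range := by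
  have ci := conj_inj h.cen
  let j : U →* MulAut P := MulAut.conj.comp e
  have ji : Function.Injective j := ci.comp h.inj
  have ac : ∀ {α m}, R α m → Acts j ⊤ α m := fun {α m} r u _ => by
    change α * MulAut.conj (e u) * α⁻¹ = MulAut.conj (e (m u))
    rw [conj_conj, (h.act α m r).2]
  let M₀ : Submonoid (MulAut P) :=
    { carrier := {α | ∃ m, R α m}
      one_mem' := h.one
      mul_mem' := fun ⟨m, r⟩ ⟨m', r'⟩ => h.mul _ _ _ _ r r' }
  let M : Subgroup (MulAut P) :=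
    { M₀ with
      inv_mem' := fun {α} hα => by
        have : α⁻¹ = α ^ (orderOf α - 1) := by
          rw [inv_eq_iff_mul_eq_one, ← pow_succ', Nat.sub_add_cancel (orderOf_pos α),
            pow_orderOf_eq_one]
        rw [this]
        exact M₀.pow_mem hα _ }
  have cen : ∀ α m, R α m → (∀ u, α * j u * α⁻¹ = j u) → α = 1 := fun α m r hc => by
    have : m = id := funext fun u => ji ((ac r u (mem_top _)).symm.trans (hc u))
    exact h.fth α (this ▸ r)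
  have pull : ∀ {p : P} {u u' : U}, MulAut.conj p * j u * (MulAut.conj p)⁻¹ = j u' ↔
      p * e u * p⁻¹ = e u' := fun {p u u'} => by
    change MulAut.conj p * MulAut.conj (e u) * (MulAut.conj p)⁻¹ = MulAut.conj (e u') ↔ _
    rw [conj_conj]
    exact ci.eq_iff
  have bor : ∀ l ∈ (MulAut.conj : P →* MulAut P).range, l ∈ 𝐍[j.range] →
      ∃ u m, j u * l ∈ M ∧ 𝔐.Tor m ∧ Acts j ⊤ (j u * l) m := by
    rintro _ ⟨p, rfl⟩ hn
    obtain ⟨u, m, r, t⟩ := h.bor p fun u => by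
      obtain ⟨u', e'⟩ := (mem_normalizer_iff.1 hn (j u)).1 ⟨u, rfl⟩
      exact ⟨u', pull.1 e'.symm⟩
    rw [_root_.map_mul] at r
    exact ⟨u, m, ⟨m, r⟩, t, ac r⟩
  refine ⟨j, M, ⟨⟨ji, ?_, ?_, ?_, ?_⟩, inn_normal, ?_, bor, ?_⟩, ?_, ?_, ?_⟩
  · rintro α ⟨m, r⟩
    refine mem_norm_of ?_
    rintro _ ⟨u, rfl⟩
    exact ⟨m u, (ac r u (mem_top _)).symm⟩
  · rw [eq_bot_iff]
    rintro α ⟨⟨m, r⟩, hc⟩
    refine cen α m r fun u => ?_
    rw [← mem_centralizer_iff.1 hc (j u) ⟨u, rfl⟩, mul_inv_cancel_right]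
  · rw [eq_bot_iff]
    rintro α ⟨⟨m, r⟩, u, rfl⟩
    have e1 : m = fun x => u * x * u⁻¹ :=
      funext fun x => (ac r).eq ji (Acts.inner u) x (mem_top _)
    refine cen _ m r fun x => ?_
    rw [← _root_.map_mul, ← _root_.map_inv, ← _root_.map_mul, h.inn u (e1 ▸ (h.act _ _ r).1)]
  · intro m hm
    obtain ⟨α, r⟩ := h.ex m hm
    exact ⟨α, ⟨m, r⟩, ac r⟩
  · rintro _ ⟨u, rfl⟩
    exact ⟨e u, rfl⟩
  · obtain ⟨p, hp⟩ := h.nu
    exact ⟨_, ⟨p, rfl⟩, fun u hu => pull.2 (hp u hu)⟩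
  · rw [show j.range = e.range.map MulAut.conj from MonoidHom.range_comp _ _,
      MonoidHom.range_eq_map MulAut.conj, relIndex_map_map_of_injective _ _ ci, relIndex_top_right]
    exact h.odd
  · rintro l ⟨hl, hn⟩
    obtain ⟨u, m, -, t, a⟩ := bor l hl hn
    have h1 : j u * l ∈ 𝐍[𝔐.V.map j] := mem_norm_of (by
      rintro _ ⟨x, hx, rfl⟩
      exact ⟨m x, h.torV m t x hx, (a x (mem_top _)).symm⟩)
    have h2 : j u ∈ 𝐍[𝔐.V.map j] := mem_norm_of (by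
      rintro _ ⟨x, hx, rfl⟩
      exact ⟨_, h.norV.conj_mem x hx u, by simp⟩)
    simpa using mul_mem (inv_mem h2) h1
  · rintro _ ⟨⟨p, rfl⟩, hn⟩
    refine mem_norm_of ?_
    rintro _ ⟨x, hx, rfl⟩
    obtain ⟨y, hy, e'⟩ := h.invD p (fun u hu => by
      obtain ⟨u', hu', e'⟩ := (mem_normalizer_iff.1 hn (j u)).1 ⟨u, hu, rfl⟩
      exact ⟨u', hu', pull.1 e'.symm⟩) x hx
    exact ⟨y, hy, (pull.2 e').symm⟩

end Cfsg.Agent.MF.TgG
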