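import Mathlib
import Cfsg.Agent.MF.Defs
import Cfsg.Agent.MF.TgG
import Cfsg.Agent.MF.Alg3
import Cfsg.Agent.Fus.SpTwoC
import Cfsg.Agent.Cl.AutGamma

set_option autoImplicit false
set_option linter.unusedSectionVars false

namespace Cfsg.Agent.MF

open Cfsg Cfsg.Agent.GT Cfsg.Agent.Loc.Mss Cfsg.Agent.Loc.PU Cfsg.Agent.Loc.Blk Cfsg.Agent.Loc.GC
  Cfsg.Agent.Fus Cfsg.Agent.Fus.SU Cfsg.FusionSystem Subgroup
open scoped commutatorElement MatrixGroups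

namespace Tg3
open Matrix Cfsg.Agent.S5259 Cfsg.Agent.Cl Cfsg.Agent.Cl.Aut

variable {K : Type} [Field K]

/-- The diagonal entries. -/
def dv (a b : K) : Fin 3 → K := ![a * b, b, 1]

theorem dv_ne {a b : K} (ha : a ≠ 0) (hb : b ≠ 0) (i : Fin 3) : dv a b i ≠ 0 := by
  fin_cases i <;> simp [dv, ha, hb]

/-- `α` is the diagonal-field automorphism with the given parameters. -/
def IsD (α : MulAut SL(3, K)) (a b : K) (σ : K ≃+* K) : Prop :=
  ∀ g i j, (α g).1 i j = dv a b i * σ (g.1 i j) * (dv a b j)⁻¹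

theorem exists_D {a b : K} (ha : a ≠ 0) (hb : b ≠ 0) (σ : K ≃+* K) : ∃ α, IsD α a b σ := by
  let D : GL (Fin 3) K := ⟨diagonal (dv a b), diagonal fun i => (dv a b i)⁻¹,
    by rw [diagonal_mul_diagonal]; simp [dv_ne ha hb],
    by rw [diagonal_mul_diagonal]; simp [dv_ne ha hb]⟩
  refine ⟨(slMapEquiv _ σ).trans (slConj _ K D), fun g i j => ?_⟩
  change (diagonal _ * g.1.map σ * diagonal _ : Matrix _ _ K) i j = _
  rw [mul_diagonal, diagonal_mul]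
  rfl

theorem IsD.mul {α β : MulAut SL(3, K)} {a b a' b' : K} {σ σ' : K ≃+* K} (h : IsD α a b σ)
    (h' : IsD β a' b' σ') : IsD (α * β) (a * σ a') (b * σ b') (σ'.trans σ) := fun g i j => by
  rw [MulAut.mul_apply, h, h']
  have : ∀ i, dv (a * σ a') (b * σ b') i = dv a b i * σ (dv a' b' i) := fun i => by
    fin_cases i <;> simp [dv]
    ring
  simp only [this, map_mul, map_inv₀, RingEquiv.trans_apply, mul_inv]
  ring

theorem IsD.ut {α : MulAut SL(3, K)} {a b : K} (ha : a ≠ 0) (hb : b ≠ 0) {σ : K ≃+* K}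
    (h : IsD α a b σ) (x y z : K) : α (ut x y z) = ut (a * σ x) (b * σ y) (a * b * σ z) := by
  ext i j
  rw [h]
  fin_cases i <;> fin_cases j <;> simp [dv, S5259.ut, hb] <;> field_simp

theorem IsD.eq_one {α : MulAut SL(3, K)} (h : IsD α 1 1 (RingEquiv.refl K)) : α = 1 := by
  ext g i j
  change (α g).1 i j = g.1 i j
  rw [h]
  fin_cases i <;> fin_cases j <;> simp [dv]

/-- `γ` is the graph automorphism. -/
def IsG (γ : MulAut SL(3, K)) : Prop := ∀ g i j, (γ g).1 i j = (g⁻¹).1 j.rev i.rev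

theorem exists_G : ∃ γ : MulAut SL(3, K), IsG γ := by
  let w : Matrix (Fin 3) (Fin 3) K := !![0, 0, 1; 0, 1, 0; 1, 0, 0]
  have hw : w * w = 1 := by
    ext i j; fin_cases i <;> fin_cases j <;> simp [w, mul_apply, Fin.sum_univ_three]
  refine ⟨(slInvTranspose _ K).trans (slConj _ K ⟨w, w, hw, hw⟩), fun g i j => ?_⟩
  change (w * (g⁻¹).1ᵀ * w) i j = _
  generalize (g⁻¹).1 = m
  simp only [mul_apply, Fin.sum_univ_three, transpose_apply]
  fin_cases i <;> fin_cases j <;> simp [w, Fin.rev]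

theorem IsG.sq {γ : MulAut SL(3, K)} (h : IsG γ) : γ * γ = 1 := by
  ext g i j
  change (γ (γ g)).1 i j = g.1 i j
  rw [h, ← map_inv, h, inv_inv, Fin.rev_rev, Fin.rev_rev]

theorem IsG.conj {γ α : MulAut SL(3, K)} (h : IsG γ) {a b : K} (ha : a ≠ 0) (hb : b ≠ 0)
    {σ : K ≃+* K} (hα : IsD α a b σ) : IsD (γ * α * γ) b a σ := fun g i j => by
  rw [MulAut.mul_apply, MulAut.mul_apply, h, ← map_inv, ← map_inv, hα, h, inv_inv, Fin.rev_rev,
    Fin.rev_rev]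
  generalize σ (g.1 i j) = c
  fin_cases i <;> fin_cases j <;> simp only [dv, Fin.rev] <;> simp [-mul_eq_mul_left_iff,
    -mul_eq_mul_right_iff] <;> field_simp

theorem ut_inv (x y z : K) : (ut x y z)⁻¹ = ut (-x) (-y) (-z + x * y) := by
  rw [inv_eq_iff_mul_eq_one, ut_mul]
  ext i j
  fin_cases i <;> fin_cases j <;> simp [ut]

theorem IsG.ut [CharP K 2] {γ : MulAut SL(3, K)} (h : IsG γ) (x y z : K) :
    γ (ut x y z) = ut y x (z + x * y) := by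
  ext i j
  rw [h, ut_inv]
  fin_cases i <;> fin_cases j <;> simp [S5259.ut, Fin.rev, CharTwo.neg_eq]

/-- The embedding of the unipotent group. -/
def emb (K : Type) [Field K] : U3 K →* ProjectiveSpecialLinearGroup (Fin 3) K :=
  MonoidHom.mk' (fun u => pu u.x u.y u.z) fun _ _ => (pu_mul _ _ _ _ _ _).symm

theorem emb_apply (u : U3 K) : emb K u = QuotientGroup.mk (ut u.x u.y u.z) := rfl

theorem ut_pow [CharP K 2] (x y z : K) : ut x y z ^ 4 = 1 := by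
  have h2 : (2 : K) = 0 := CharTwo.two_eq_zero
  rw [show ut x y z ^ 4 = ut x y z * ut x y z * (ut x y z * ut x y z) by
    simp only [pow_succ, pow_zero, one_mul, mul_assoc], ut_mul, ut_mul]
  ext i j
  fin_cases i <;> fin_cases j <;> simp [ut, CharTwo.add_self_eq_zero]

theorem eq_of_mk {g h : SL(3, K)} (hg : g ^ 4 = 1) (hh : h ^ 4 = 1)
    (e : (QuotientGroup.mk g : ProjectiveSpecialLinearGroup (Fin 3) K) = QuotientGroup.mk h) :
    g = h := by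
  have hz := QuotientGroup.eq.1 e
  have c : Commute g (g⁻¹ * h) := mem_center_iff.1 hz g
  have h4 : (g⁻¹ * h) ^ 4 = 1 := by
    have := c.mul_pow 4
    rwa [mul_inv_cancel_left, hh, hg, one_mul, eq_comm] at this
  obtain ⟨r, h3, hr⟩ := Matrix.SpecialLinearGroup.mem_center_iff.1 hz
  have h3' : (g⁻¹ * h) ^ 3 = 1 := Subtype.ext (by
    rw [Matrix.SpecialLinearGroup.coe_pow, ← hr, ← map_pow]
    simp only [Fintype.card_fin] at h3
    rw [h3, map_one]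
    rfl)
  rw [pow_succ, h3', one_mul] at h4
  exact inv_mul_eq_one.1 h4

theorem bor [CharP K 2] (g : SL(3, K))
    (h : ∀ x y z, ∃ x' y' z', g * ut x y z * g⁻¹ = ut x' y' z') :
    ∃ x y z l k, l ≠ 0 ∧ k ≠ 0 ∧ IsD (MulAut.conj (ut x y z * g)) (l * (k ^ 2)⁻¹) (k * (l ^ 2)⁻¹)
      (RingEquiv.refl K) := by
  have h' : ∀ x y z, ∃ x' y' z', g.1 * (ut x y z).1 = (ut x' y' z').1 * g.1 := fun x y z => by
    obtain ⟨x', y', z', e⟩ := h x y z
    have e' : g * ut x y z = ut x' y' z' * g := mul_inv_eq_iff_eq_mul.1 e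
    exact ⟨x', y', z', congrArg Subtype.val e'⟩
  obtain ⟨x1, y1, z1, e1⟩ := h' 1 0 0
  obtain ⟨x2, y2, z2, e2⟩ := h' 0 1 0
  have a20 : g.1 2 0 = 0 := by
    simpa [ut, mul_apply, Fin.sum_univ_three] using congrFun (congrFun e1 2) 1
  have a21 : g.1 2 1 = 0 := by
    simpa [ut, mul_apply, Fin.sum_univ_three] using congrFun (congrFun e2 2) 2
  have a10 : g.1 1 0 = 0 := by
    simpa [ut, mul_apply, Fin.sum_univ_three, a21] using congrFun (congrFun e1 1) 1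
  have hd : g.1 0 0 * g.1 1 1 * g.1 2 2 = 1 := by
    have := g.2
    rw [det_fin_three, a20, a21, a10] at this
    linear_combination this
  have n0 : g.1 0 0 ≠ 0 := fun e => by simp [e] at hd
  have n1 : g.1 1 1 ≠ 0 := fun e => by simp [e] at hd
  have n2 : g.1 2 2 ≠ 0 := fun e => by simp [e] at hd
  refine ⟨-g.1 0 1 / g.1 1 1, -g.1 1 2 / g.1 2 2,
    -(g.1 0 2 - g.1 0 1 / g.1 1 1 * g.1 1 2) / g.1 2 2, g.1 2 2, (g.1 0 0)⁻¹, n2, inv_ne_zero n0, ?_⟩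
  generalize hD : ut (-g.1 0 1 / g.1 1 1) (-g.1 1 2 / g.1 2 2)
    (-(g.1 0 2 - g.1 0 1 / g.1 1 1 * g.1 1 2) / g.1 2 2) * g = D
  have e : D.1 = diagonal ![g.1 0 0, g.1 1 1, g.1 2 2] := by
    rw [← hD, Matrix.SpecialLinearGroup.coe_mul]
    ext i j
    fin_cases i <;> fin_cases j <;> simp [ut, mul_apply, Fin.sum_univ_three, a20, a21, a10] <;>
      field_simp <;> ring
  intro s i j
  have e' : (MulAut.conj D s).1 * D.1 = D.1 * s.1 := by
    rw [← Matrix.SpecialLinearGroup.coe_mul, ← Matrix.SpecialLinearGroup.coe_mul, MulAut.conj_apply,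
      inv_mul_cancel_right]
  have := congrFun (congrFun e' i) j
  rw [e, mul_diagonal, diagonal_mul] at this
  have k1 : g.1 1 1 = (g.1 0 0 * g.1 2 2)⁻¹ := eq_inv_of_mul_eq_one_left (by linear_combination hd)
  rw [eq_div_of_mul_eq (show ![g.1 0 0, g.1 1 1, g.1 2 2] j ≠ 0 by fin_cases j <;> simpa) this, k1]
  fin_cases i <;> fin_cases j <;> simp [dv] <;> field_simp

end Tg3

open Tg3 Cfsg.Agent.Cl.Aut Cfsg.Agent.S5259 in
theorem tg3 (K : Type) [Field K] [Finite K] [CharP K 2] :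
    ∃ (j : U3 K →* MulAut (Matrix.ProjectiveSpecialLinearGroup (Fin 3) K))
      (M : Subgroup (MulAut (Matrix.ProjectiveSpecialLinearGroup (Fin 3) K))),
      Tg (M3 K) j M (MulAut.conj : _ →* MulAut _).range := by
  have := Fintype.ofFinite K
  obtain ⟨γ, hγ⟩ := exists_G (K := K)
  have hs := Cl.psl_fin_isSimpleGroup (F := K) (n := 3) (by norm_num) (by norm_num)
  refine TgG.Dat.tg (e := emb K) (R := fun α m => ∃ δ a b σ, a ≠ 0 ∧ b ≠ 0 ∧ IsD δ a b σ ∧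
    ((α = centerQuotAut _ δ ∧ m = U3.mon a b σ) ∨
      (α = centerQuotAut _ (γ * δ) ∧ m = U3.swp ∘ U3.mon a b σ)))
    ⟨?_, ?_, ?_, ?_, ?_, ?_, ?_, ?_, ?_, ?_, ?_, ?_, ?_, ?_⟩
  · refine TgG.center_eq_bot (a := pu 1 0 0) (b := pu 0 1 0) fun e => ?_
    rw [pu_mul, pu_mul] at e
    simpa using (pu_inj e).2.2
  · intro u v e
    obtain ⟨h1, h2, h3⟩ := pu_inj e
    exact U3.ext h1 h2 h3
  · rintro α m ⟨δ, a, b, σ, ha, hb, hδ, ⟨rfl, rfl⟩ | ⟨rfl, rfl⟩⟩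
    · refine ⟨⟨a, b, σ, ha, hb, .inl rfl⟩, fun u => ?_⟩
      rw [emb_apply, centerQuotAut_mk, hδ.ut ha hb]
      rfl
    · refine ⟨⟨a, b, σ, ha, hb, .inr rfl⟩, fun u => ?_⟩
      rw [emb_apply, centerQuotAut_mk, MulAut.mul_apply, hδ.ut ha hb, hγ.ut]
      rfl
  · rintro m ⟨a, b, σ, ha, hb, h⟩
    obtain ⟨δ, hδ⟩ := exists_D ha hb σ
    rcases h with rfl | rfl
    · exact ⟨_, δ, a, b, σ, ha, hb, hδ, .inl ⟨rfl, rfl⟩⟩
    · exact ⟨_, δ, a, b, σ, ha, hb, hδ, .inr ⟨rfl, rfl⟩⟩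
  · rintro α m β m' ⟨δ, a, b, σ, ha, hb, hδ, h⟩ ⟨δ', a', b', σ', ha', hb', hδ', h'⟩
    have n : ∀ {x y : K}, x ≠ 0 → y ≠ 0 → x * σ y ≠ 0 := fun hx hy =>
      mul_ne_zero hx ((map_ne_zero σ).2 hy)
    have q := hγ.sq
    rcases h with ⟨rfl, -⟩ | ⟨rfl, -⟩ <;> rcases h' with ⟨rfl, -⟩ | ⟨rfl, -⟩
    · exact ⟨_, _, _, _, _, n ha ha', n hb hb', hδ.mul hδ', .inl ⟨(map_mul _ _ _).symm, rfl⟩⟩
    · refine ⟨_, _, _, _, _, n hb ha', n ha hb', (hγ.conj ha hb hδ).mul hδ', .inr ⟨?_, rfl⟩⟩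
      rw [← map_mul, ← mul_assoc γ, ← mul_assoc γ, ← mul_assoc γ, q, one_mul, mul_assoc]
    · refine ⟨_, _, _, _, _, n ha ha', n hb hb', hδ.mul hδ', .inr ⟨?_, rfl⟩⟩
      rw [← map_mul, mul_assoc]
    · refine ⟨_, _, _, _, _, n hb ha', n ha hb', (hγ.conj ha hb hδ).mul hδ', .inl ⟨?_, rfl⟩⟩
      rw [← map_mul, ← mul_assoc]
  · obtain ⟨δ, hδ⟩ := exists_D (one_ne_zero (α := K)) one_ne_zero (RingEquiv.refl K)
    exact ⟨_, δ, 1, 1, _, one_ne_zero, one_ne_zero, hδ, .inl ⟨by rw [hδ.eq_one, map_one], rfl⟩⟩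
  · rintro α ⟨δ, a, b, σ, ha, hb, hδ, ⟨rfl, e⟩ | ⟨rfl, e⟩⟩
    · have e1 : a = 1 := by simpa [U3.mon] using congrArg U3.x (congrFun e ⟨1, 0, 0⟩).symm
      have e2 : b = 1 := by simpa [U3.mon] using congrArg U3.y (congrFun e ⟨0, 1, 0⟩).symm
      have e3 : σ = RingEquiv.refl K := RingEquiv.ext fun x => by
        simpa [U3.mon, e1] using congrArg U3.x (congrFun e ⟨x, 0, 0⟩).symm
      subst e1 e2 e3
      rw [hδ.eq_one, map_one]
    · simpa [U3.mon, U3.swp] using congrArg U3.x (congrFun e ⟨1, 0, 0⟩)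
  · rintro u ⟨a, b, σ, ha, hb, e | e⟩ x
    · have e1 : a = 1 := by simpa [U3.mon] using congrArg U3.x (congrFun e ⟨1, 0, 0⟩).symm
      have e2 : b = 1 := by simpa [U3.mon] using congrArg U3.y (congrFun e ⟨0, 1, 0⟩).symm
      have e3 : σ = RingEquiv.refl K := RingEquiv.ext fun x => by
        simpa [U3.mon, e1] using congrArg U3.x (congrFun e ⟨x, 0, 0⟩).symm
      subst e1 e2 e3
      rw [Alg3.mon_one] at e
      exact congrFun e x
    · simpa [U3.mon, U3.swp] using congrArg U3.x (congrFun e ⟨1, 0, 0⟩)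
  · intro p hp
    obtain ⟨g, rfl⟩ := QuotientGroup.mk_surjective p
    obtain ⟨x, y, z, l, k, hl, hk, h⟩ := bor g fun x y z => by
      obtain ⟨u', e⟩ := hp ⟨x, y, z⟩
      exact ⟨_, _, _, eq_of_mk (by rw [conj_pow, ut_pow, mul_one, mul_inv_cancel]) (ut_pow _ _ _) e⟩
    exact ⟨⟨x, y, z⟩, _, ⟨_, _, _, _, mul_ne_zero hl (inv_ne_zero (pow_ne_zero 2 hk)),
      mul_ne_zero hk (inv_ne_zero (pow_ne_zero 2 hl)), h,
      .inl ⟨mulAut_quot_ext fun _ => rfl, rfl⟩⟩, l, k, hl, hk, rfl⟩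
  · refine ⟨pm !![1, 0, 0; 0, 0, 1; 0, -1, 0] (by simp [Matrix.det_fin_three]), fun u hu => ?_⟩
    have hu' : u.y = 0 := hu
    refine pu_conj _ _ ?_
    ext i j
    fin_cases i <;> fin_cases j <;>
      simp [ut, Matrix.mul_apply, Fin.sum_univ_three, hu', M3, CharTwo.neg_eq]
  · rw [show (emb K).range = pU K from Subgroup.ext fun g => mem_pU.trans
      ⟨fun ⟨a, b, c, e⟩ => ⟨⟨a, b, c⟩, e.symm⟩, fun ⟨u, e⟩ => ⟨_, _, _, e.symm⟩⟩ |>.symm]
    exact pU_index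
  · exact ⟨fun u hu g => by simpa [M3, U3.mem_V] using hu⟩
  · rintro m ⟨l, k, -, -, rfl⟩ u hu
    have hu' : u.y = 0 := hu
    simp [M3, U3.mem_V, U3.mon, hu']
  · rintro p - u hu
    exact ⟨1, one_mem _, by rw [mem_bot.1 hu]; simp⟩

end Cfsg.Agent.MF
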