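import Mathlib
import Cfsg.Agent.MF.Defs
import Cfsg.Agent.MF.Half
import Cfsg.Agent.MF.Base

/-! The case of a self-centralizing four-group. -/

set_option autoImplicit false
set_option linter.unusedSectionVars false

namespace Cfsg.Agent.MF

open Cfsg Cfsg.Agent.GT Cfsg.Agent.Loc.Mss Cfsg.Agent.Loc.PU Cfsg.Agent.Loc.Blk Cfsg.Agent.Loc.GC
  Cfsg.Agent.Fus Cfsg.Agent.Fus.SU Cfsg.FusionSystem Subgroup
open scoped commutatorElement MatrixGroups

variable {G : Type*} [Group G] [Finite G] {S : Subgroup G} {F : FusionSystem S}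
  {X : Subgroup G → Subgroup G}

namespace MxP
open Cfsg.Agent.Inv Cfsg.Agent.Inv.Fz Cfsg.Agent.Fus.MG

variable {t : ℕ}

theorem res_d {r s : R2 t → G} (H : Fz.Mx S t (-1) 0 r s) (ht : 1 ≤ t) (hF : F.IsSaturated 2)
    (hZ : F.center = ⊥) (e : ∃ m : ℕ, 8 ≤ m ∧ Nonempty (S ≃* DihedralGroup m)) : Res F := by
  have hq : ∀ {G : Type} [Group G] {S : Subgroup G} {r s : R2 t → G} (H : Fz.Mx S t (-1) 0 r s) j,
      s j * s j ≠ r (hh t) := fun H j e => H.z_ne_one (e.symm.trans (H.d_sq j))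
  by_cases h : ∀ j, OddA F (H.sub 1 j)
  · obtain ⟨K, _, _, m, hK⟩ := exists_field_one (e := t + 2) (by omega)
    obtain ⟨T, r', s', H'⟩ := psl2_mx hK
    refine ⟨_, _, inferInstance, realizedIn_of (mx_realizes H H' ht
      (fun j hj => absurd hj (hq H' j)) hF (fun j _ => iff_of_true (h j) ?_)
      fun j hj => absurd hj (hq H' j)), .inl ⟨e, K, _, _, odd_of_one hK, .inl ⟨MulEquiv.refl _⟩⟩⟩
    by_contra hc
    obtain ⟨Y, h1, h2, -⟩ := H'.d_exists_focal hc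
    exact h2 (inf_pResidual_le T h1 ⟨H'.s_mem j, pResidual_eq_top_of_perfect
      (Cl.psl_commutator_eq_top (ι := Fin 2) (Or.inr (exists_sq_ne_one hK))) ▸ mem_top _⟩)
  obtain ⟨s, H, h⟩ := d_norm H (OddA F) (fun j y => oddA_even H y) (by
    by_contra! h'
    exact mx_central H hF (fun j _ => h' j) hZ) h
  obtain ⟨K, _, _, T, r', s', ho, H', hc, L, hL⟩ := half_d ht
  obtain ⟨s', H', h'⟩ := d_norm H'.mxD OddAut (fun j y => H'.mxD.oddAut_even y)
    ((HalfGroup.exists_odd _ hc).imp fun _ h => h.2)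
    fun h => no_index_two_iff.2 (H'.mxD.d_pResidual_eq_top h) L hL
  exact ⟨_, _, inferInstance, realizedIn_of (mx_realizes H H' ht
    (fun j hj => absurd hj (hq H' j)) hF (fun j _ => (h j).trans (h' j).symm)
    fun j hj => absurd hj (hq H' j)), .inl ⟨e, K, _, _, ho, .inr ⟨MulEquiv.refl _⟩⟩⟩

theorem eq_two (a : Amb S F X) {r s : R2 t → G} (H : Fz.Mx S t (hh t - 1) 0 r s) (ht : 2 ≤ t)
    (h : OddA F (H.sub 2 1)) : t = 2 := by
  obtain ⟨α, hα, ho, h1⟩ := exists_odd_of_not_isPGroup h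
  have hj : s 1 * s 1 = r (hh t) := H.qd_sq_z.2 ⟨0, by simp⟩
  have hz := H.z_mem_sub 2 1
  have fz : totA α (r (hh t)) = r (hh t) := H.eq_z_of_mem_q hj (totA_mem α hz) (by
    rw [← (mulOn_totA α).map_mul hz hz, H.z_sq, (mulOn_totA α).map_one])
    fun e => H.z_ne_one ((totA_eq_one_iff α hz).1 e)
  have u0 : zpowers (r (hh t)) ≠ ⊥ := zpowers_ne_bot.2 H.z_ne_one
  have uS : zpowers (r (hh t)) ≤ S := zpowers_le.2 (H.r_mem _)
  have nS : S ≤ 𝐍[zpowers (r (hh t))] :=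
    norm_of_cent fun x hx => cent_zpowers.2 (H.comm_z hx).symm
  have fn : F.IsFullyNormalized _ := fnN uS nS
  have sy := a.sylN u0 uS nS
  obtain ⟨x, hx, e⟩ := a.ind _ u0 fn _ _ ((mem_autGroup_iff (H.sub_le 2 1)).1 hα)
    (zpowers_le.2 hz) ((H.sub_le 2 1).trans nS) fun y hy => by
      obtain ⟨k, rfl⟩ := mem_zpowers_iff.1 hy
      rw [(mulOn_totA α).map_zpow hz, fz]
      exact hy
  have pw : ∀ n : ℕ, ∀ y ∈ H.sub 2 1, totA (α ^ n) y = x ^ n * y * (x ^ n)⁻¹ := fun n y hy => by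
    induction n with
    | zero => simpa using totA_one hy
    | succ n ih => rw [totA_pow_succ α n hy, e _ (totA_mem _ hy), ih, pow_succ']; group
  obtain ⟨k, hk⟩ := exists_pow_odd x
  have o : OddAut 𝐎[2, X (zpowers (r (hh t)))] := ⟨_, le_norm_core _ (pow_mem hx _), hk, fun c => by
    have e1 : x ^ 2 ^ k = 1 := mem_bot.1 (by
      obtain ⟨n, hn⟩ := pg_iff.1 (pg_core (p := 2) _) _ (a.chp _ u0 fn ⟨pow_mem hx (2 ^ k), c⟩)
      exact mem_of_pow_two_pow_mem hk (mem_bot.2 hn))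
    exact h1 (mem_bot.1 (mem_of_pow_two_pow_mem ho (k := k) (mem_bot.2 (mulAut_ext_totA
      fun y hy => by rw [pw _ y hy, e1, totA_one hy]; group))))⟩
  have n1 : r 1 ∈ 𝐍[𝐎[2, X (zpowers (r (hh t)))]] := le_norm_core _ (sy.le (H.r_mem 1))
  rcases H.classify sy.core_le o.not_isPGroup with ⟨j, -, e⟩ | ⟨j, -, -, e⟩
  · rw [e, H.r_mem_normalizer_sub] at n1
    exact absurd (by linear_combination n1) (r2_four_ne_zero ht)
  · rw [e, H.r_mem_normalizer_sub] at n1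
    by_contra l
    exact r2_eight_ne_zero (t := t) (by omega) (by linear_combination n1)

theorem res_qd (a : Amb S F X) {r s : R2 t → G} (H : Fz.Mx S t (hh t - 1) 0 r s) (ht : 2 ≤ t)
    (hZ : F.center = ⊥) (e : IsQuasiDihedral S) : Res F := by
  have hF := a.sat
  have h0 : OddA F (H.sub 1 0) := by
    by_contra h
    refine mx_central H hF (fun j hj => ?_) hZ
    obtain ⟨y, rfl⟩ := H.qd_sq_one.1 hj
    rwa [oddA_even]
  have key : ∀ {G : Type} [Group G] [Finite G] {T : Sylow 2 G} {r s : R2 t → G}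
      (H' : Fz.Mx (T : Subgroup G) t (hh t - 1) 0 r s), OddAut (H'.sub 1 0) →
      (OddA F (H.sub 2 1) ↔ OddAut (H'.sub 2 1)) → RealizedIn F G := fun H' h1 h2 => by
    refine realizedIn_of (mx_realizes H H' (by omega) (fun _ _ => ht) hF (fun j hj => ?_)
      fun j hj => ?_)
    · obtain ⟨y, rfl⟩ := H'.qd_sq_one.1 hj
      exact iff_of_true ((oddA_even H y).2 h0) ((H'.oddAut_even y).2 h1)
    · obtain ⟨y, rfl⟩ := H'.qd_sq_z.1 hj
      rwa [oddA_even, H'.oddAut_even]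
  by_cases h : OddA F (H.sub 2 1)
  · obtain rfl := eq_two a H ht h
    have : Fact (Nat.Prime 3) := ⟨Nat.prime_three⟩
    obtain ⟨T, r', s', H'⟩ := psl3_qd (K := ZMod 3) (m := 0) ht (by simp)
    obtain ⟨h1, h2⟩ := (H'.qd_pResidual_eq_top_iff ht).1
      (pResidual_eq_top_of_perfect (Cl.psl_commutator_eq_top (Or.inl (by simp))))
    exact ⟨_, _, inferInstance, key H' h1 (iff_of_true h h2),
      .inr (.inr (.inl ⟨e, H.card, ⟨MulEquiv.refl _⟩⟩))⟩
  obtain ⟨A, _, _, T, r', s', H', hc, K, _, _, n, hn, hK, L, l1, hL, l2⟩ := half_qd ht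
  replace H' := H'.mxQD ht
  obtain ⟨j, hj, h1⟩ := HalfGroup.exists_odd H' hc
  obtain ⟨y, rfl⟩ := H'.qd_sq_one.1 hj
  rw [H'.oddAut_even] at h1
  exact ⟨A, _, inferInstance, key H' h1 (iff_of_false h fun h2 =>
    no_index_two_iff.2 ((H'.qd_pResidual_eq_top_iff ht).2 ⟨h1, h2⟩) L hL),
    .inr (.inl ⟨e, K, _, _, n, hn, hK, L, l1, hL, l2⟩)⟩

end MxP

open Cfsg.Agent.Inv Cfsg.Agent.Inv.Fz Cfsg.Agent.Fus.MG in
theorem Amb.res_four (h : Amb S F X) (h4 : Four S) : Res F := by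
  obtain ⟨c, V, l, ea, c4, hc⟩ := h4
  have hZ : F.center = ⊥ := eq_bot_iff.2 (F.center_le_core.trans h.core.le)
  obtain ⟨x, -, hx⟩ := exists_cent_four h.pg l ea hc c4
  obtain ⟨m, a, b, M⟩ := PG.exists_maxTwo_of_card_centralizer_le h.pg (by omega) hx.le
  have hm : 2 ≤ m := by
    rw [M.card_eq] at c
    have := (Nat.pow_le_pow_iff_right one_lt_two).1 (show 2 ^ 4 ≤ _ from c)
    omega
  rcases M.cases with ⟨⟨e⟩⟩ | ⟨⟨e⟩⟩ | ⟨-, e⟩
  · obtain ⟨r, s, H⟩ := exists_mc_of_dihedral e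
    exact MxP.res_d H.mxD M.one_le h.sat hZ
      ⟨_, show 2 ^ 3 ≤ _ from Nat.pow_le_pow_right two_pos (by omega), ⟨e⟩⟩
  · obtain ⟨r, s, H⟩ := exists_mc_of_quaternion e
    refine absurd hZ (mx_central H.mxQ h.sat fun j hj => absurd ?_ H.mxQ.z_ne_one)
    rw [← hj, H.mxQ.s_sq]
    simp
  · obtain ⟨t, ht, r, s, H⟩ := exists_mx_of_qd e
    exact MxP.res_qd h H ht hZ e

end Cfsg.Agent.MF
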