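import Mathlib
import Cfsg.Agent.MF.Defs

/-! Transport of the conclusion along isomorphisms. -/

set_option autoImplicit false
set_option linter.unusedSectionVars false

namespace Cfsg.Agent.MF

open Cfsg Cfsg.Agent.GT Cfsg.Agent.Loc.Mss Cfsg.Agent.Loc.PU Cfsg.Agent.Loc.Blk Cfsg.Agent.Loc.GC
  Cfsg.Agent.Fus Cfsg.Agent.Fus.SU Cfsg.FusionSystem Subgroup
open scoped commutatorElement MatrixGroups

universe u

namespace Top

variable {T T' H H' : Type*} [Group T] [Group T'] [Group H] [Group H']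

theorem qd (e : T ≃* T') (h : IsQuasiDihedral T) : IsQuasiDihedral T' := by
  obtain ⟨n, hn, hc, x, y, hx, hy, r⟩ := h
  exact ⟨n, hn, by rw [← Nat.card_congr e.toEquiv, hc], e x, e y, by rw [e.orderOf_eq, hx],
    by rw [e.orderOf_eq, hy], by rw [← map_inv, ← map_mul, ← map_mul, r, map_pow]⟩

theorem ne {Y : Type*} [Group Y] (e : H ≃* H') (h : Nonempty (H ≃* Y)) : Nonempty (H' ≃* Y) :=
  h.map e.symm.trans

theorem con_congr [Finite H] (e : T ≃* T') (f : H ≃* H') (h : Con T H) : Con T' H' := by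
  have ec : Nat.card T' = Nat.card T := (Nat.card_congr e.toEquiv).symm
  rcases h with ⟨⟨m, hm, a⟩, K, _, _, hK, b⟩ | ⟨a, K, _, _, r, hr, hK, L, hL, hi, hc, ⟨b⟩⟩ | ⟨a, b, c⟩ | ⟨a, b⟩ |
    ⟨a, K, _, _, ω, h1, h2, b⟩ | ⟨K, _, _, a, b, c, d⟩
  · exact .inl ⟨⟨m, hm, ne e a⟩, K, _, _, hK, b.imp (ne f) (ne f)⟩
  · refine .inr (.inl ⟨qd e a, K, _, _, r, hr, hK, L.map (f : H →* H'), hL.map _ f.surjective,
      by rw [index_map_of_bijective f.bijective, hi], ?_, ⟨(f.subgroupMap L).symm.trans b⟩⟩)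
    rw [eq_bot_iff]
    intro g hg
    obtain ⟨g, rfl⟩ := f.surjective g
    have : g ∈ centralizer (L : Set H) := mem_centralizer_iff.2 fun x hx => f.injective (by
      rw [map_mul, map_mul]; exact mem_centralizer_iff.1 hg _ ⟨x, hx, rfl⟩)
    rw [hc, mem_bot] at this
    rw [this, map_one]; exact one_mem _
  · exact .inr (.inr (.inl ⟨qd e a, ec.trans b, ne f c⟩))
  · exact .inr (.inr (.inr (.inl ⟨ec.trans a, b.imp (ne f) (ne f)⟩)))
  · exact .inr (.inr (.inr (.inr (.inl ⟨ec.trans a, K, _, _, ω, h1, h2, ne f b⟩))))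
  · have e1 := map_genFitting_equiv f
    have e2 : (pResidual 2 H).map (f : H →* H') = pResidual 2 H' := map_pResidual_of_surjective f.surjective
    have g : generalizedFittingSubgroup H ≃* generalizedFittingSubgroup H' :=
      (f.subgroupMap _).trans (MulEquiv.subgroupCongr e1)
    refine .inr (.inr (.inr (.inr (.inr ⟨K, _, _, a.imp (ne g) (And.imp_left (ne g)), ?_, ?_, ?_⟩))))
    · rw [← e1, ← e2]; exact map_mono b
    · change Odd (relIndex _ _) at c ⊢
      rwa [← e1, ← e2, relIndex_map_map_of_injective _ _ f.injective]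
    · rw [← e2, index_map_of_bijective f.bijective, d]

end Top

theorem Res.of_iso {Ω Ω' : Type*} [Group Ω] [Group Ω'] {S : Subgroup Ω} {S' : Subgroup Ω'}
    {F : FusionSystem S} {F' : FusionSystem S'} {θ : Ω → Ω'} {η : Ω' → Ω}
    (h : F.IsIsoVia F' θ η) (hr : Res F') : Res F := by
  obtain ⟨H, _, _, a, b⟩ := hr
  exact ⟨H, _, ‹_›, a.of_iso h, Top.con_congr h.topEquiv (MulEquiv.refl H) b⟩

theorem Res.lift {Ω : Type u} [Group Ω] {S : Subgroup Ω} {F : FusionSystem S} (hS : IsPGroup 2 S)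
    (hr : Res F) : ∃ (H : Type u) (_ : Group H) (_ : Finite H) (ι : ↥S →* H),
      F.IsRealizedBy ι ∧ (∃ T : Sylow 2 H, (T : Subgroup H) = ι.range) ∧ Con ↥S H := by
  obtain ⟨G, _, _, ⟨θ, h, e⟩, b⟩ := hr
  let π : G ≃* ULift.{u} G := MulEquiv.ulift.symm
  have : MG.RealizedIn F (ULift.{u} G) := ⟨_, h.quot hS e π.toMonoidHom π.surjective (by
    rw [π.toMonoidHom.ker_eq_bot_iff.2 π.injective, inf_bot_eq]), by
      rwa [h.img_comp_hom, index_map_of_bijective π.bijective]⟩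
  obtain ⟨ι, h1, h2⟩ := this.exists hS
  exact ⟨_, inferInstance, inferInstance, ι, h1, h2, Top.con_congr (MulEquiv.refl _) π b⟩

end Cfsg.Agent.MF
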